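import Mathlib
import Cfsg.Agent.Lib.Cls.Basic
import Cfsg.Agent.Lib.Core.MinNormal
import Cfsg.Agent.Lib.Char.Burnside
import Cfsg.Agent.Lib.Coprime.Hall

/-!
# Cls/Solv: solvability from class sizes
-/

set_option autoImplicit false

namespace Cfsg.Agent.Cls

open Subgroup

universe u

variable {G : Type*} [Group G]

theorem isSolvable_of_normal_of_quotient (N : Subgroup G) [N.Normal] (h1 : Group.IsSolvable N)
    (h2 : Group.IsSolvable (G ⧸ N)) : Group.IsSolvable G :=
  Group.isSolvable_of_ker_le_range N.subtype (QuotientGroup.mk' N) (by simp)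

theorem isSolvable_of_isMulCommutative (h : IsMulCommutative G) : Group.IsSolvable G :=
  Group.isSolvable_of_comm fun a b => h.is_comm.comm a b

/-- A property inherited by normal subgroups and quotients, under which simple groups are
solvable, forces solvability. -/
theorem isSolvable_of_hereditary {P : ∀ (G : Type u) [Group G] [Finite G], Prop}
    (hN : ∀ (G : Type u) [Group G] [Finite G] (N : Subgroup G) [N.Normal], P G → P N)
    (hQ : ∀ (G : Type u) [Group G] [Finite G] (N : Subgroup G) [N.Normal], P G → P (G ⧸ N))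
    (hs : ∀ (G : Type u) [Group G] [Finite G] [IsSimpleGroup G], ¬ IsMulCommutative G → ¬ P G)
    (G : Type u) [Group G] [Finite G] (h : P G) : Group.IsSolvable G := by
  revert h
  refine Core.induction_on_card (P := fun G _ _ => P G → Group.IsSolvable G) ?_ G
  intro G _ _ ih h
  rcases subsingleton_or_nontrivial G with h0 | h0
  · infer_instance
  by_cases h1 : IsSimpleGroup G
  · exact isSolvable_of_isMulCommutative (by_contra fun h2 => hs G h2 h)
  have : ∃ N : Subgroup G, N.Normal ∧ N ≠ ⊥ ∧ N ≠ ⊤ := by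
    by_contra h2
    push Not at h2
    exact h1 ⟨fun N hN => by_contra fun h3 => (not_or.1 h3).2 (h2 N hN (not_or.1 h3).1)⟩
  obtain ⟨N, hNn, h2, h3⟩ := this
  exact isSolvable_of_normal_of_quotient N (ih N (Core.card_lt_of_ne_top h3) (hN G N h))
    (ih _ (Core.card_quotient_lt h2) (hQ G N h))

theorem exists_pow_of_dvd_pow {p a k : ℕ} (hp : p.Prime) (h : a ∣ p ^ k) : ∃ j, a = p ^ j :=
  let ⟨j, _, hj⟩ := (Nat.dvd_prime_pow hp).1 h; ⟨j, hj⟩

/-- An element centralizes a normal subgroup whose order is prime to its class size. -/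
theorem le_centralizer_of_coprime [Finite G] {N : Subgroup G} [N.Normal] {x : G}
    (h : (Nat.card N).Coprime (centralizer ({x} : Set G)).index) :
    N ≤ centralizer ({x} : Set G) := by
  rw [← relIndex_eq_one]
  exact Nat.eq_one_of_dvd_coprimes h (relIndex_dvd_card _ _) (relIndex_dvd_index_of_normal' _ _)

theorem mem_centralizer_of_le_centralizer_single {N : Subgroup G} {x : G}
    (h : N ≤ centralizer ({x} : Set G)) : x ∈ centralizer (N : Set G) :=
  fun _ hn => mem_centralizer_single.1 (h hn)

theorem le_centralizer_single_iff {N : Subgroup G} {x : G} :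
    N ≤ centralizer ({x} : Set G) ↔ x ∈ centralizer (N : Set G) :=
  ⟨mem_centralizer_of_le_centralizer_single, fun h n hn => mem_centralizer_single.2 (h n hn)⟩

/-- If all `p`-regular classes have `p`-power size the group is solvable. -/
theorem isSolvable_of_regular_classes {p : ℕ} (hp : p.Prime) {G : Type u} [Group G] [Finite G]
    (h : ∀ x : G, (orderOf x).Coprime p → ∃ k, (centralizer ({x} : Set G)).index = p ^ k) :
    Group.IsSolvable G := by
  have : Fact p.Prime := ⟨hp⟩
  refine isSolvable_of_hereditary (P := fun G _ _ => ∀ x : G, (orderOf x).Coprime p →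
    ∃ k, (centralizer ({x} : Set G)).index = p ^ k) ?_ ?_ ?_ G h
  · intro G _ _ N _ h x hx
    obtain ⟨k, hk⟩ := h x (by simpa using hx)
    exact exists_pow_of_dvd_pow hp (hk ▸ index_centralizer_normal_dvd x)
  · intro G _ _ N _ h x hx
    obtain ⟨x, rfl⟩ := QuotientGroup.mk'_surjective N x
    obtain ⟨u, -, hu, hc⟩ := exists_coprime_lift (QuotientGroup.mk' N) x hx
    obtain ⟨k, hk⟩ := h u hc
    rw [← hu]
    exact exists_pow_of_dvd_pow hp
      (hk ▸ index_centralizer_map_dvd (QuotientGroup.mk'_surjective N) u)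
  · intro G _ _ _ hna h
    have hP : IsPGroup p G := by
      intro x
      obtain ⟨u, -, v, -, hx, ⟨k, hk⟩, hv⟩ := exists_p_part hp x
      obtain ⟨j, hj⟩ := h v hv
      rw [Char.eq_one_of_prime_pow_index hna hp hj, mul_one] at hx
      exact ⟨k, by rw [hx, ← hk, pow_orderOf_eq_one]⟩
    have := hP.isNilpotent
    exact hna ⟨⟨(IsSimpleGroup.comm_iff_isSolvable (G := G)).2 inferInstance⟩⟩

/-- A group with an abelian subgroup of prime power index is solvable. -/
theorem isSolvable_of_abelian_of_index_prime_pow {p : ℕ} (hp : p.Prime) {G : Type u} [Group G]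
    [Finite G] {H : Subgroup G} (hH : IsMulCommutative H) {k : ℕ} (hk : H.index = p ^ k) :
    Group.IsSolvable G := by
  have : Fact p.Prime := ⟨hp⟩
  refine isSolvable_of_hereditary (P := fun G _ _ => ∃ H : Subgroup G, IsMulCommutative H ∧
    ∃ k, H.index = p ^ k) ?_ ?_ ?_ G ⟨H, hH, k, hk⟩
  · rintro G _ _ N _ ⟨H, hH, k, hk⟩
    exact ⟨H.subgroupOf N, inferInstance,
      exists_pow_of_dvd_pow hp (hk ▸ relIndex_dvd_index_of_normal' H N)⟩
  · rintro G _ _ N _ ⟨H, hH, k, hk⟩
    exact ⟨H.map (QuotientGroup.mk' N), inferInstance,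
      exists_pow_of_dvd_pow hp (hk ▸ index_map_dvd H (QuotientGroup.mk'_surjective N))⟩
  · rintro G _ _ _ hna ⟨H, hH, k, hk⟩
    have h1 : H = ⊥ := by
      rw [eq_bot_iff_forall]
      intro x hx
      have h2 : H ≤ centralizer {x} := fun y hy =>
        mem_centralizer_single.2 (Core.mul_comm_of_mem_of_isMulCommutative hH hy hx)
      obtain ⟨j, hj⟩ := exists_pow_of_dvd_pow hp (hk ▸ index_dvd_of_le h2)
      exact Char.eq_one_of_prime_pow_index hna hp hj
    rw [h1, index_bot] at hk
    have := (IsPGroup.of_card hk).isNilpotent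
    exact hna ⟨⟨(IsSimpleGroup.comm_iff_isSolvable (G := G)).2 inferInstance⟩⟩

/-- In a solvable group with `O_p = 1`, an element of `p`-power class size lies in the centre of
the Fitting subgroup. -/
theorem mem_centralizer_fitting_of_index_pow [Finite G] {p : ℕ} [hp : Fact p.Prime]
    (h0 : pCore p G = ⊥) {x : G} {k : ℕ} (hx : (centralizer ({x} : Set G)).index = p ^ k) :
    x ∈ centralizer (fittingSubgroup G : Set G) := by
  refine mem_centralizer_of_le_centralizer_single (le_centralizer_of_coprime ?_)
  rw [hx]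
  refine Nat.Coprime.pow_right _ ((Nat.Prime.coprime_iff_not_dvd hp.out).2 ?_).symm
  have := Core.not_dvd_relIndex_pCore_fitting (G := G) p
  rwa [h0, relIndex_bot_left] at this

end Cfsg.Agent.Cls
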