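import Mathlib
import Cfsg.Agent.Lib.Cls.Solv
import Cfsg.Agent.Lib.Core.Zipper
import Cfsg.Agent.Lib.Coprime.Action

/-!
# Cls/RealOdd: real elements of odd order
-/

set_option autoImplicit false

namespace Cfsg.Agent.Cls

open Subgroup

variable {G : Type*} [Group G]

/-- The 2-part of an element inverting `x` inverts `x`. -/
theorem exists_two_part_inverts [Finite G] {x m : G} (h : m * x * m⁻¹ = x⁻¹) :
    ∃ u ∈ zpowers m, (∃ k, orderOf u = 2 ^ k) ∧ u * x * u⁻¹ = x⁻¹ := by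
  obtain ⟨u, hu, v, hv, e, hu2, hv2⟩ := exists_p_part Nat.prime_two m
  refine ⟨u, hu, hu2, ?_⟩
  have h2 : m ^ 2 ∈ centralizer ({x} : Set G) := by
    rw [mem_centralizer_single]
    have h3 : m * x⁻¹ * m⁻¹ = x := by
      have := congrArg (·⁻¹) h
      simpa [mul_assoc] using this
    have h4 : m * x = x⁻¹ * m := by rw [← h]; group
    have h5 : m * x⁻¹ = x * m := by
      calc m * x⁻¹ = m * x⁻¹ * m⁻¹ * m := by group
        _ = x * m := by rw [h3]
    calc m ^ 2 * x = m * (m * x) := by rw [pow_two, mul_assoc]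
      _ = m * x⁻¹ * m := by rw [h4, mul_assoc]
      _ = x * m ^ 2 := by rw [h5, pow_two, mul_assoc]
  have hvc : v ∈ centralizer ({x} : Set G) := by
    obtain ⟨j, hj⟩ := exists_pow_eq_self_of_coprime (x := v) (n := 2) hv2.symm
    obtain ⟨i, rfl⟩ := hv
    rw [← hj]
    refine pow_mem ?_ j
    have : (m ^ i) ^ 2 = (m ^ 2) ^ i := by
      rw [← zpow_natCast, ← zpow_natCast, ← zpow_mul, ← zpow_mul, mul_comm]
    change (m ^ i) ^ 2 ∈ _
    rw [this]
    exact zpow_mem h2 i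
  rw [mem_centralizer_single] at hvc
  calc u * x * u⁻¹ = u * (v * x * v⁻¹) * u⁻¹ := by rw [hvc]; group
    _ = (u * v) * x * (u * v)⁻¹ := by group
    _ = x⁻¹ := by rw [← e, h]

/-- If `O₂(G)` is not a Sylow 2-subgroup, some 2-element inverts a non-trivial element of odd
order. -/
theorem exists_two_inverts [Finite G] (h : 2 ∣ (pCore 2 G).index) :
    ∃ x u : G, x ≠ 1 ∧ Odd (orderOf x) ∧ (∃ k, orderOf u = 2 ^ k) ∧ u * x * u⁻¹ = x⁻¹ := by
  set N := pCore 2 G with hN
  have hN2 : IsPGroup 2 N := Core.isPGroup_pCore 2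
  obtain ⟨t, ht⟩ := exists_prime_orderOf_dvd_card' (G := G ⧸ N) 2 h
  have ht1 : t ≠ 1 := by rintro rfl; simp at ht
  have htt : t * t = 1 := by
    have := pow_orderOf_eq_one t
    rwa [ht, pow_two] at this
  obtain ⟨y, hy1, hyo, hty⟩ := Core.exists_inverted_odd_of_not_mem_pCore_two htt
    (by rw [Core.pCore_quotient_pCore]; exact fun h => ht1 (mem_bot.mp h))
  obtain ⟨y, rfl⟩ := QuotientGroup.mk'_surjective N y
  obtain ⟨x, -, hxy, hx⟩ := exists_coprime_lift (n := 2) (QuotientGroup.mk' N) y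
    (Nat.coprime_two_right.mpr hyo)
  rw [← hxy] at hy1 hty
  obtain ⟨k, hk⟩ := hN2.exists_card_eq
  have hcop : (Nat.card (zpowers x)).Coprime (Nat.card (QuotientGroup.mk' N).ker) := by
    rw [QuotientGroup.ker_mk', hk, Nat.card_zpowers]
    exact hx.pow_right k
  have hmap := Coprime.map_normalizer_eq (QuotientGroup.mk' N) (QuotientGroup.mk'_surjective N)
    hcop (Or.inl inferInstance)
  have htn : t ∈ normalizer (((zpowers x).map (QuotientGroup.mk' N) : Subgroup (G ⧸ N)) :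
      Set (G ⧸ N)) := by
    rw [MonoidHom.map_zpowers]
    refine mem_normalizer_fintype ?_
    rintro _ ⟨i, rfl⟩
    refine ⟨-i, ?_⟩
    simp only
    rw [← conj_zpow, hty, inv_zpow']
  rw [← hmap] at htn
  obtain ⟨m, hm, rfl⟩ := htn
  have hmx : m * x * m⁻¹ = x⁻¹ := by
    have h1 : m * x * m⁻¹ * x ∈ zpowers x :=
      mul_mem ((mem_normalizer_iff.mp hm x).mp (mem_zpowers x)) (mem_zpowers x)
    have h2 : m * x * m⁻¹ * x ∈ (QuotientGroup.mk' N).ker := by
      rw [MonoidHom.mem_ker, map_mul, map_mul, map_mul, map_inv, hty, inv_mul_cancel]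
    have h3 := Core.inf_eq_bot_of_coprime_card hcop
    have h4 : m * x * m⁻¹ * x = 1 := mem_bot.mp (h3 ▸ mem_inf.mpr ⟨h1, h2⟩)
    exact eq_inv_of_mul_eq_one_left h4
  obtain ⟨u, -, hu, hux⟩ := exists_two_part_inverts hmx
  exact ⟨x, u, fun e => hy1 (by rw [e, map_one]), Nat.coprime_two_right.mp hx, hu, hux⟩

theorem eq_one_of_odd_of_eq_inv {x : G} (ho : Odd (orderOf x)) (h : x = x⁻¹) : x = 1 := by
  have h2 : x ^ 2 = 1 := by rw [pow_two]; nth_rw 1 [h]; exact inv_mul_cancel x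
  rw [← orderOf_eq_one_iff]
  exact Nat.eq_one_of_dvd_coprimes (Nat.coprime_two_right.mpr ho) dvd_rfl
    (orderOf_dvd_of_pow_eq_one h2)

end Cfsg.Agent.Cls
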