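import Mathlib
import Cfsg.Agent.Lib.Cls.RealOdd
import Cfsg.Agent.Lib.Core.InvOdd
import Cfsg.Agent.Lib.PGrp.Basic
import Cfsg.Agent.Lib.OO.Final

/-!
# Cls/RealSyl

If the centralizer of every nontrivial real element of odd order permutes the Sylow
`2`-subgroups transitively, the group is solvable.
-/

set_option autoImplicit false

namespace Cfsg.Agent.RealSyl

open Subgroup
open scoped Pointwise

variable {S : Type*} [Group S]

/-- nontrivial real elements of odd order -/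
def RO (x : S) : Prop := x ≠ 1 ∧ Odd (orderOf x) ∧ ∃ u : S, u * x * u⁻¹ = x⁻¹

/-- central involutions of a Sylow subgroup -/
def Zs (T : Sylow 2 S) : Set S :=
  {z | z ∈ (T : Subgroup S) ∧ z ≠ 1 ∧ z * z = 1 ∧ ∀ y ∈ (T : Subgroup S), y * z = z * y}

/-- `2`-central involutions -/
def ZZ (S : Type*) [Group S] : Set S := {a | ∃ T : Sylow 2 S, a ∈ Zs T}

/-- the subgroup of `T` generated by the `2`-central involutions -/
def W (T : Sylow 2 S) : Subgroup S := closure (ZZ S ∩ (T : Subgroup S))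

theorem mem_aut_smul {α : MulAut S} {T : Sylow 2 S} {y : S} :
    α y ∈ ((α • T : Sylow 2 S) : Subgroup S) ↔ y ∈ (T : Subgroup S) := by
  rw [Sylow.pointwise_smul_def]
  exact smul_mem_pointwise_smul_iff (a := α)

theorem Zs_aut (α : MulAut S) {T : Sylow 2 S} {z : S} (h : z ∈ Zs T) : α z ∈ Zs (α • T) := by
  obtain ⟨h1, h2, h3, h4⟩ := h
  refine ⟨mem_aut_smul.mpr h1, fun e => h2 (by simpa using e), by rw [← map_mul, h3, map_one],
    fun y hy => ?_⟩
  obtain ⟨y, rfl⟩ := α.surjective y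
  rw [← map_mul, ← map_mul, h4 y (mem_aut_smul.mp hy)]

theorem ZZ_aut (α : MulAut S) {z : S} (h : z ∈ ZZ S) : α z ∈ ZZ S := by
  obtain ⟨T, hT⟩ := h
  exact ⟨_, Zs_aut α hT⟩

theorem ZZ_conj (g : S) {z : S} (h : z ∈ ZZ S) : g * z * g⁻¹ ∈ ZZ S := ZZ_aut (MulAut.conj g) h

theorem W_aut (α : MulAut S) (T : Sylow 2 S) : α • W T = W (α • T) := by
  rw [W, W, smul_closure]
  congr 1
  ext y
  obtain ⟨y, rfl⟩ := α.surjective y
  refine (Set.smul_mem_smul_set_iff (a := α)).trans ⟨fun h => ⟨ZZ_aut α h.1, mem_aut_smul.mpr h.2⟩,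
    fun h => ⟨?_, mem_aut_smul.mp h.2⟩⟩
  simpa using ZZ_aut α⁻¹ h.1

theorem W_le (T : Sylow 2 S) : W T ≤ T := (closure_le _).mpr fun _ h => h.2

theorem mem_norm_closure [Finite S] {s : Set S} {g : S} (h : ∀ y ∈ s, g * y * g⁻¹ ∈ closure s) :
    g ∈ normalizer ((closure s : Subgroup S) : Set S) :=
  mem_normalizer_fintype fun _ hy =>
    (closure_le ((closure s).comap (MulAut.conj g).toMonoidHom)).mpr h hy

theorem conj_smul_eq_iff {K : Subgroup S} {g : S} :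
    MulAut.conj g • K = K ↔ g ∈ normalizer (K : Set S) := by
  rw [mem_normalizer_iff'', SetLike.ext_iff]
  refine forall_congr' fun y => ?_
  rw [mem_pointwise_smul_iff_inv_smul_mem]
  simpa using iff_comm

theorem mem_norm_aut (α : MulAut S) {K : Subgroup S} {g : S} (h : g ∈ normalizer (K : Set S)) :
    α g ∈ normalizer ((α • K : Subgroup S) : Set S) := by
  rw [← conj_smul_eq_iff] at h ⊢
  rw [show MulAut.conj (α g) = α * MulAut.conj g * α⁻¹ from by ext y; simp, mul_smul, mul_smul,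
    inv_smul_smul, h]

/-- The configuration to be excluded. -/
structure Hyp (S : Type*) [Group S] : Prop where
  char : ∀ N : Subgroup S, (∀ α : MulAut S, ∀ g ∈ N, α g ∈ N) → N = ⊥ ∨ N = ⊤
  ns : ¬ Group.IsSolvable S
  tr : ∀ x : S, RO x → ∀ T T' : Sylow 2 S, ∃ α : MulAut S, α x = x ∧ α • T = T'

variable [Finite S]

theorem Hyp.eq_bot (h : Hyp S) {N : Subgroup S} [N.Normal] (hs : Group.IsSolvable N) : N = ⊥ := by
  rcases h.char (solvableRadical S) (fun α g hg => by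
    have := (characteristic_iff_le_comap.mp (Core.solvableRadical_characteristic S)) α hg
    exact this) with e | e
  · exact le_bot_iff.mp (e ▸ Core.le_solvableRadical hs)
  · exact absurd (Core.solvableRadical_eq_top_iff.mp e) h.ns

theorem isSolvable_of_two {N : Subgroup S} (hN : IsPGroup 2 N) : Group.IsSolvable N := by
  have := hN.isNilpotent
  infer_instance

theorem Hyp.Zs_ne (h : Hyp S) (T : Sylow 2 S) : ∃ z, z ∈ Zs T := by
  have h2 : 2 ∣ Nat.card S := by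
    by_contra h2
    exact h.ns (OO.Feit_Thompson (Nat.not_even_iff_odd.mp fun e => h2 e.two_dvd))
  have h3 : (⊤ : Subgroup (T : Subgroup S)) ≠ ⊥ := by
    have := (nontrivial_iff_ne_bot _).mpr (T.ne_bot_of_dvd_card h2)
    exact top_ne_bot
  obtain ⟨z, -, hz, ho⟩ := PGrp.exists_mem_center_orderOf_eq T.isPGroup' h3
  refine ⟨z, z.2, fun e => ?_, ?_, fun y hy => congrArg Subtype.val (mem_center_iff.mp hz ⟨y, hy⟩)⟩
  · rw [show z = 1 from Subtype.ext e, orderOf_one] at ho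
    omega
  · have := pow_orderOf_eq_one z
    rw [ho, sq] at this
    exact congrArg Subtype.val this

theorem Hyp.not_norm_W (h : Hyp S) {x : S} (hx : RO x) (T : Sylow 2 S) :
    x ∉ normalizer (W T : Set S) := by
  intro hn
  rcases h.char (⨅ U : Sylow 2 S, normalizer (W U : Set S)) (fun α g hg => by
    rw [mem_iInf] at hg ⊢
    intro U
    have := mem_norm_aut α (hg (α⁻¹ • U))
    rwa [W_aut, smul_inv_smul] at this) with e | e
  · refine hx.1 (mem_bot.mp (e ▸ mem_iInf.mpr fun U => ?_))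
    obtain ⟨α, h1, rfl⟩ := h.tr x hx T U
    have := mem_norm_aut α hn
    rwa [W_aut, h1] at this
  · have : (W T).Normal := Core.normal_iff_top_le_normalizer.mpr (e ▸ iInf_le _ T)
    have h1 := h.eq_bot (isSolvable_of_two (T.isPGroup'.to_le (W_le T)))
    obtain ⟨z, hz⟩ := h.Zs_ne T
    exact hz.2.1 (mem_bot.mp (h1 ▸ subset_closure ⟨⟨T, hz⟩, hz.1⟩))

theorem Hyp.smul_ne (h : Hyp S) {x : S} (hx : RO x) (T : Sylow 2 S) : x • T ≠ T := fun e =>
  h.not_norm_W hx T (conj_smul_eq_iff.mp (by rw [W_aut, ← Sylow.smul_def, e]))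

theorem Hyp.good (h : Hyp S) {x : S} (hx : RO x) {T : Sylow 2 S} {D : Subgroup S}
    (hD : IsPGroup 2 D) (hxD : x ∈ normalizer (D : Set S)) (hZ : Zs T ⊆ D) : False := by
  have h1 : ∀ a ∈ ZZ S, ∃ D' : Subgroup S, IsPGroup 2 D' ∧ x ∈ normalizer (D' : Set S) ∧ a ∈ D' := by
    rintro a ⟨U, hU⟩
    obtain ⟨α, e1, e2⟩ := h.tr x hx T U
    refine ⟨α • D, hD.map _, e1 ▸ mem_norm_aut α hxD, ?_⟩
    have := Zs_aut α⁻¹ hU
    rw [← e2, inv_smul_smul] at this
    exact mem_pointwise_smul_iff_inv_smul_mem.mpr (hZ this)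
  obtain ⟨F, -, ⟨hF1, hF2, hF3⟩, hFm⟩ := Core.exists_maximal_ge
    (P := fun F : Subgroup S => IsPGroup 2 F ∧ x ∈ normalizer (F : Set S) ∧ F ≤ closure (ZZ S ∩ F))
    (H := ⊥) ⟨IsPGroup.of_bot, le_normalizer_of_normal (mem_top x), bot_le⟩
  have hF4 : closure (ZZ S ∩ F) = F := le_antisymm ((closure_le _).mpr fun _ h => h.2) hF3
  obtain ⟨U, hU⟩ := hF1.exists_le_sylow
  obtain ⟨V, -, ⟨hV1, hV2, hV3⟩, hVm⟩ := Core.exists_maximal_ge
    (P := fun V : Subgroup S => F ≤ V ∧ V ≤ U ∧ ∀ a ∈ ZZ S, a ∈ V → a ∈ F)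
    (H := F) ⟨le_rfl, hU, fun _ _ h => h⟩
  have hVF : ZZ S ∩ V = ZZ S ∩ F :=
    Set.ext fun a => ⟨fun h => ⟨h.1, hV3 a h.1 h.2⟩, fun h => ⟨h.1, hV1 h.2⟩⟩
  by_cases hVU : V = U
  · exact h.not_norm_W hx U (by rwa [W, ← hVU, hVF, hF4])
  have h2 := Core.lt_inf_normalizer_of_isNilpotent U.isPGroup'.isNilpotent (hV2.lt_of_ne hVU)
  obtain ⟨a, ha1, ha2, ha3⟩ : ∃ a ∈ ZZ S, a ∈ (U : Subgroup S) ⊓ normalizer (V : Set S) ∧ a ∉ F := by
    by_contra hc
    push Not at hc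
    exact h2.ne' (hVm _ ⟨hV1.trans h2.le, inf_le_left, hc⟩ h2.le)
  have haF : a ∈ normalizer (F : Set S) := by
    rw [← hF4, ← hVF]
    exact mem_norm_closure fun y hy => subset_closure
      ⟨ZZ_conj a hy.1, (mem_normalizer_iff.mp ha2.2 y).mp hy.2⟩
  obtain ⟨D', hD1, hD2, hD3⟩ := h1 a ha1
  let Y : Subgroup S := closure (ZZ S ∩ (D' ⊓ normalizer (F : Set S) : Subgroup S))
  have hY1 : Y ≤ D' ⊓ normalizer (F : Set S) := (closure_le _).mpr fun _ h => h.2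
  have hY2 : x ∈ normalizer (Y : Set S) := mem_norm_closure fun y hy => subset_closure
    (show _ ∈ ZZ S ∩ ((D' ⊓ normalizer (F : Set S) : Subgroup S) : Set S) from
    ⟨ZZ_conj x hy.1, (mem_normalizer_iff.mp hD2 y).mp hy.2.1,
      (normalizer _).mul_mem ((normalizer _).mul_mem hF2 hy.2.2) ((normalizer _).inv_mem hF2)⟩)
  have h3 := hFm (Y ⊔ F) ⟨PGrp.isPGroup_sup_of_le_normalizer (hD1.to_le (hY1.trans inf_le_left)) hF1
    (hY1.trans inf_le_right), Core.le_normalizer_sup (A := zpowers x) (zpowers_le.mpr hY2)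
      (zpowers_le.mpr hF2) (mem_zpowers x), sup_le
      (closure_mono fun y hy => ⟨hy.1, mem_sup_left (subset_closure hy)⟩)
      (hF3.trans (closure_mono fun y hy => ⟨hy.1, mem_sup_right hy.2⟩))⟩ le_sup_right
  exact ha3 (h3 ▸ mem_sup_left (subset_closure ⟨ha1, hD3, haF⟩))

theorem Hyp.inv (h : Hyp S) {x : S} (hx : RO x) {T : Sylow 2 S}
    (hZ : Zs T ⊆ normalizer ((zpowers x : Subgroup S) : Set S)) : False := by
  have h1 : closure (ZZ S) ≤ normalizer ((zpowers x : Subgroup S) : Set S) := by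
    refine (closure_le _).mpr ?_
    rintro a ⟨U, hU⟩
    obtain ⟨α, e1, e2⟩ := h.tr x hx T U
    have h2 := Zs_aut α⁻¹ hU
    rw [← e2, inv_smul_smul] at h2
    have h3 := mem_norm_aut α (hZ h2)
    rwa [show α • zpowers x = zpowers x from
      (MonoidHom.map_zpowers α.toMonoidHom x).trans (congrArg zpowers e1),
      show α (α⁻¹ a) = a from by simp] at h3
  rcases h.char (closure (ZZ S)) (fun α g hg =>
    (closure_le ((closure (ZZ S)).comap α.toMonoidHom)).mpr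
      (fun y hy => subset_closure (ZZ_aut α hy)) hg) with e | e
  · obtain ⟨z, hz⟩ := h.Zs_ne T
    exact hz.2.1 (mem_bot.mp (e ▸ subset_closure ⟨T, hz⟩))
  · have : (zpowers x).Normal := Core.normal_iff_top_le_normalizer.mpr (e ▸ h1)
    exact hx.1 (zpowers_eq_bot.mp (h.eq_bot inferInstance))

theorem Hyp.false (h : Hyp S) : False := by
  classical
  obtain ⟨T₀⟩ : Nonempty (Sylow 2 S) := inferInstance
  obtain ⟨g₀, hg₀⟩ : ∃ g : S, g • T₀ ≠ T₀ := by
    by_contra hc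
    push Not at hc
    have : (T₀ : Subgroup S).Normal := Core.normal_iff_top_le_normalizer.mpr fun g _ =>
      Sylow.smul_eq_iff_mem_normalizer.mp (hc g)
    obtain ⟨z, hz⟩ := h.Zs_ne T₀
    exact hz.2.1 (mem_bot.mp (h.eq_bot (isSolvable_of_two T₀.isPGroup') ▸ hz.1))
  obtain ⟨D, -, ⟨T, T', hTT, hD⟩, hDm⟩ := Core.exists_maximal_ge
    (P := fun D : Subgroup S => ∃ T T' : Sylow 2 S, T ≠ T' ∧ D = (T : Subgroup S) ⊓ T')
    ⟨T₀, g₀ • T₀, hg₀.symm, rfl⟩
  have hDT : D ≤ T := hD ▸ inf_le_left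
  have hDT' : D ≤ T' := hD ▸ inf_le_right
  have hD2 : IsPGroup 2 D := T.isPGroup'.to_le hDT
  have key : ∀ (U U' : Sylow 2 S) (y : S), D ≤ U → D ≤ U' → y ∈ (U : Subgroup S) →
      y ∈ (U' : Subgroup S) → y ∉ D → U = U' := by
    intro U U' y h1 h2 h3 h4 h5
    by_contra hne
    exact h5 (hDm _ ⟨U, U', hne, rfl⟩ (le_inf h1 h2) ▸ (⟨h3, h4⟩ : y ∈ (U : Subgroup S) ⊓ U'))
  have hlt : ∀ U U' : Sylow 2 S, U ≠ U' → D = (U : Subgroup S) ⊓ U' →
      ∃ y ∈ (U : Subgroup S), y ∈ normalizer (D : Set S) ∧ y ∉ D := by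
    intro U U' hne e
    have h1 : D < U := lt_of_le_of_ne (e ▸ inf_le_left) fun e' => hne
      (Sylow.ext (U.is_maximal' U'.isPGroup' (e' ▸ e ▸ inf_le_right)).symm)
    obtain ⟨y, hy, hy'⟩ := SetLike.exists_of_lt
      (Core.lt_inf_normalizer_of_isNilpotent U.isPGroup'.isNilpotent h1)
    exact ⟨y, hy.1, hy.2, hy'⟩
  obtain ⟨y, hyT, hyN, hyD⟩ := hlt T T' hTT hD
  obtain ⟨y', hyT', hyN', hyD'⟩ := hlt T' T hTT.symm (hD.trans (inf_comm _ _))
  set N := normalizer (D : Set S) with hN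
  have hDN : D ≤ N := le_normalizer
  -- the `2`-core of `N` lies in both Sylow subgroups
  have hO : ∀ (U : Sylow 2 S) (w : S), D ≤ U → w ∈ (U : Subgroup S) → w ∈ N → w ∉ D →
      ∀ o ∈ pCore 2 N, (o : S) ∈ (U : Subgroup S) := by
    intro U w h1 h2 h3 h4 o ho
    obtain ⟨R, hR⟩ := (U.isPGroup'.comap_subtype (K := N)).exists_le_sylow
    obtain ⟨U', hU'⟩ := (R.isPGroup'.map N.subtype).exists_le_sylow
    have e : U = U' := key U U' w h1
      (fun d hd => hU' ⟨⟨d, hDN hd⟩, hR (h1 hd), rfl⟩) h2 (hU' ⟨⟨w, h3⟩, hR h2, rfl⟩) h4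
    exact e ▸ hU' ⟨o, Core.pCore_le_sylow R ho, rfl⟩
  have hOD : ∀ o ∈ pCore 2 N, (o : S) ∈ D := fun o ho =>
    hD ▸ (⟨hO T y hDT hyT hyN hyD o ho, hO T' y' hDT' hyT' hyN' hyD' o ho⟩ :
      (o : S) ∈ (T : Subgroup S) ⊓ T')
  have hZN : ∀ z ∈ Zs T, z ∈ centralizer (D : Set S) := fun z hz d hd => hz.2.2.2 d (hDT hd)
  by_cases hZ : Zs T ⊆ D
  · have h2 : 2 ∣ (pCore 2 N).index := by
      by_contra h2
      obtain ⟨k, hk⟩ := Core.exists_orderOf_eq_pow_of_mem T.isPGroup' hyT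
      refine hyD (hOD ⟨y, hyN⟩ (Core.le_of_coprime_card_index (H := zpowers (⟨y, hyN⟩ : N)) ?_
        (mem_zpowers _)))
      rw [Nat.card_zpowers, orderOf_mk, hk]
      exact Nat.Coprime.pow_left k ((Nat.Prime.coprime_iff_not_dvd Nat.prime_two).mpr h2)
    obtain ⟨x, u, hx1, hx2, -, hx3⟩ := Cls.exists_two_inverts h2
    exact h.good (x := x) ⟨fun e => hx1 (Subtype.ext e), by rwa [orderOf_coe], u,
      congrArg Subtype.val hx3⟩ hD2 x.2 hZ
  obtain ⟨z₁, hz₁, hz₁D⟩ := Set.not_subset.mp hZ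
  have hz₁N : z₁ ∈ N := centralizer_le_normalizer _ (hZN z₁ hz₁)
  by_cases hZ2 : ∀ z ∈ Zs T, z ∉ D → z * z₁ ∈ D
  · obtain ⟨x, hx1, hx2, hx3⟩ := Core.exists_inverted_odd_of_not_mem_pCore_two
      (t := (⟨z₁, hz₁N⟩ : N)) (Subtype.ext hz₁.2.2.1) fun e => hz₁D (hOD _ e)
    have hx4 : z₁ * x * z₁⁻¹ = (x : S)⁻¹ := congrArg Subtype.val hx3
    have hx5 : Odd (orderOf (x : S)) := by rwa [orderOf_coe]
    have hxC : (x : S) ∈ centralizer (D : Set S) := by
      have a1 : (x : S) * z₁ * (x : S)⁻¹ ∈ centralizer (D : Set S) :=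
        (mem_normalizer_iff.mp (Core.le_normalizer_centralizer (A := N) le_rfl x.2) z₁).mp
          (hZN z₁ hz₁)
      have a2 : (x : S) * x ∈ centralizer (D : Set S) := by
        have := mul_mem a1 (inv_mem (hZN z₁ hz₁))
        rwa [show (x : S) * z₁ * (x : S)⁻¹ * z₁⁻¹ = x * (z₁ * x * z₁⁻¹)⁻¹ by group, hx4,
          inv_inv] at this
      obtain ⟨k, hk⟩ := hx5
      have a3 : (x : S) = (x * x) ^ (k + 1) := by
        rw [← sq, ← pow_mul, show 2 * (k + 1) = orderOf (x : S) + 1 by omega, pow_succ,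
          pow_orderOf_eq_one, one_mul]
      rw [a3]
      exact pow_mem a2 _
    have hn1 : z₁ ∈ normalizer ((zpowers (x : S) : Subgroup S) : Set S) := by
      refine mem_normalizer_fintype ?_
      rintro _ ⟨i, rfl⟩
      exact ⟨-i, by simp only; rw [← conj_zpow, hx4, inv_zpow']⟩
    have hn2 : D ≤ normalizer ((zpowers (x : S) : Subgroup S) : Set S) := by
      refine le_trans ?_ (centralizer_le_normalizer _)
      rw [Cls.centralizer_zpowers]
      exact fun d hd => Cls.mem_centralizer_single.mpr (hxC d hd)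
    refine h.inv (x := x) ⟨fun e => hx1 (Subtype.ext e), hx5, z₁, hx4⟩ (T := T) fun z hz => ?_
    by_cases hzD : z ∈ D
    · exact hn2 hzD
    · have := mul_mem (hn2 (hZ2 z hz hzD)) (inv_mem hn1)
      rwa [mul_inv_cancel_right] at this
  push Not at hZ2
  obtain ⟨z₂, hz₂, hz₂D, hz₂₁⟩ := hZ2
  have hz₂N : z₂ ∈ N := centralizer_le_normalizer _ (hZN z₂ hz₂)
  have hDs : ∀ n ∈ N, D ≤ (n • T : Sylow 2 S) := fun n hn d hd =>
    Cls.mem_smul_sylow_iff.mpr (hDT (by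
      simpa using (mem_normalizer_iff.mp (inv_mem hn) d).mp hd))
  have hcD : ∀ n ∈ N, ∀ z, z ∉ D → n * z * n⁻¹ ∉ D := fun n hn z hz e =>
    hz ((mem_normalizer_iff.mp hn z).mpr e)
  have hcT : ∀ (n z : S), z ∈ (T : Subgroup S) → n * z * n⁻¹ ∈ ((n • T : Sylow 2 S) : Subgroup S) :=
    fun n z hz => Cls.mem_smul_sylow_iff.mpr (by simpa [mul_assoc] using hz)
  -- a conjugate of a central involution outside `D` moves `T`
  have hmove : ∀ n ∈ N, ∀ z ∈ Zs T, z ∉ D → n • T ≠ T → (n * z * n⁻¹) • T ≠ T := by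
    intro n hn z hz hzD hne e
    obtain ⟨k, hk⟩ := Core.exists_orderOf_eq_pow_of_mem (n • T).isPGroup' (hcT n z hz.1)
    exact hne (key _ _ _ (hDs n hn) hDT (hcT n z hz.1) (Cls.mem_sylow_of_mem_normalizer T ⟨k, hk⟩
      (Sylow.smul_eq_iff_mem_normalizer.mp e)) (hcD n hn z hzD))
  have collide : ∀ v v' : S, v ∈ N → v * v = 1 → v' * v' = 1 → v • T = v' • T → v • T ≠ T →
      v * v' ∉ D → False := by
    intro v v' hv h1 h2 h3 h4 h5
    obtain ⟨c, hc, x, hx, e, ⟨k, hk⟩, hxo⟩ := Cls.exists_p_part Nat.prime_two (v * v')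
    have a1 : (v * v') • T = T := by rw [mul_smul, ← h3, ← mul_smul, h1, one_smul]
    have a2 : (v * v') • v • T = v • T := by
      rw [mul_smul, h3, ← mul_smul v' v', h2, one_smul, h3]
    have a3 : ∀ (U : Sylow 2 S), (v * v') • U = U → ∀ w ∈ zpowers (v * v'), w • U = U :=
      fun U hU w hw => (zpowers_le (H := MulAction.stabilizer S U)).mpr hU hw
    have a4 : ∀ (U : Sylow 2 S), (v * v') • U = U → c ∈ (U : Subgroup S) := fun U hU =>
      Cls.mem_sylow_of_mem_normalizer U ⟨k, hk⟩ (Sylow.smul_eq_iff_mem_normalizer.mp (a3 U hU c hc))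
    have a5 : c ∈ D := by
      by_contra hcD'
      exact h4 (key _ _ c (hDs v hv) hDT (a4 _ a2) (a4 _ a1) hcD')
    refine h.smul_ne (x := x) ⟨fun e' => h5 (by rwa [e, e', mul_one]), ?_, v,
      Core.InvOdd.conj_zpow_inv ?_ hx⟩ T (a3 T a1 x hx)
    · exact Nat.odd_iff.mpr (Nat.two_dvd_ne_zero.mp
        ((Nat.Prime.coprime_iff_not_dvd Nat.prime_two).mp hxo.symm))
    · rw [mul_inv_rev, inv_eq_of_mul_eq_one_right h1, inv_eq_of_mul_eq_one_right h2, ← mul_assoc,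
        h1, one_mul]
  have hsq : ∀ (n z : S), z * z = 1 → (n * z * n⁻¹) * (n * z * n⁻¹) = 1 := fun n z hz => by
    rw [conj_mul, hz]; simp
  have hdiff : ∀ n ∈ N, ∀ m ∈ N, ∀ z ∈ Zs T, ∀ z' ∈ Zs T, z ∉ D → n • T ≠ m • T →
      (n * z * n⁻¹) * (m * z' * m⁻¹) ∉ D := by
    intro n hn m hm z hz z' hz' hzD hne e
    refine hne (key _ _ _ (hDs n hn) (hDs m hm) (hcT n z hz.1) ?_ (hcD n hn z hzD))
    have := mul_mem (hDs m hm e) (inv_mem (hcT m z' hz'.1))
    rwa [mul_inv_cancel_right] at this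
  let L := {U : Sylow 2 S // ∃ n ∈ N, n • T = U}
  have hch : ∀ U : L, ∃ n ∈ N, n • T = U.1 := fun U => U.2
  choose nn hn1 hn2 using hch
  have hmem : ∀ (U : L) (z : S), z ∈ N → nn U * z * (nn U)⁻¹ ∈ N := fun U z hz =>
    mul_mem (mul_mem (hn1 U) hz) (inv_mem (hn1 U))
  let f : L → L := fun U => ⟨(nn U * z₁ * (nn U)⁻¹) • T, _, hmem U z₁ hz₁N, rfl⟩
  have hfT : ∀ U : L, U.1 = T → (f U).1 = T := fun U hU => by
    refine Sylow.smul_eq_iff_mem_normalizer.mpr (le_normalizer ?_)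
    have := hcT (nn U) z₁ hz₁.1
    rwa [hn2, hU] at this
  by_cases hinj : Function.Injective f
  · have hy1 : y' • T ≠ T := fun e => by
      obtain ⟨k, hk⟩ := Core.exists_orderOf_eq_pow_of_mem T'.isPGroup' hyT'
      exact hTT (key _ _ y' hDT hDT' (Cls.mem_sylow_of_mem_normalizer T ⟨k, hk⟩
        (Sylow.smul_eq_iff_mem_normalizer.mp e)) hyT' hyD')
    let U₀ : L := ⟨y' • T, y', hyN', rfl⟩
    obtain ⟨U, hU⟩ := Finite.surjective_of_injective hinj
      ⟨(nn U₀ * z₂ * (nn U₀)⁻¹) • T, _, hmem U₀ z₂ hz₂N, rfl⟩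
    have hU' : (nn U * z₁ * (nn U)⁻¹) • T = (nn U₀ * z₂ * (nn U₀)⁻¹) • T := congrArg Subtype.val hU
    have hne : nn U₀ • T ≠ T := by rw [hn2]; exact hy1
    refine collide _ _ (hmem U₀ z₂ hz₂N) (hsq _ _ hz₂.2.2.1) (hsq _ _ hz₁.2.2.1) hU'.symm
      (hmove _ (hn1 U₀) z₂ hz₂ hz₂D hne) ?_
    by_cases e : U₀ = U
    · subst e
      rw [conj_mul]
      exact hcD _ (hn1 U₀) _ hz₂₁
    · exact hdiff _ (hn1 U₀) _ (hn1 U) _ hz₂ _ hz₁ hz₂D (by
        rw [hn2, hn2]; exact fun e' => e (Subtype.ext e'))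
  · obtain ⟨U, U', e, hne⟩ := Function.not_injective_iff.mp hinj
    have e' : (nn U * z₁ * (nn U)⁻¹) • T = (nn U' * z₁ * (nn U')⁻¹) • T := congrArg Subtype.val e
    have hUT : nn U • T ≠ T := fun e1 => by
      by_cases e2 : nn U' • T = T
      · exact hne (Subtype.ext (by rw [← hn2, ← hn2, e1, e2]))
      · exact hmove _ (hn1 U') z₁ hz₁ hz₁D e2 (e' ▸ hfT U (by rw [← hn2, e1]))
    exact collide _ _ (hmem U z₁ hz₁N) (hsq _ _ hz₁.2.2.1) (hsq _ _ hz₁.2.2.1) e'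
      (hmove _ (hn1 U) z₁ hz₁ hz₁D hUT)
      (hdiff _ (hn1 U) _ (hn1 U') _ hz₁ _ hz₁ hz₁D (by
        rw [hn2, hn2]; exact fun e' => hne (Subtype.ext e')))

end Cfsg.Agent.RealSyl
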