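import Mathlib
import Cfsg.Agent.Lib.Cls.RealSyl
import Cfsg.Agent.Lib.Cls.Solv
import Cfsg.Agent.Lib.Transfer.Camina

/-!
# Cls/RealSolv

Solvability from the transitivity of centralizers of real elements of odd order on the Sylow
`2`-subgroups, and the prime graph on real class sizes.
-/

set_option autoImplicit false

namespace Cfsg.Agent.RealSyl

open Subgroup
open scoped Pointwise

universe u

variable {G : Type*} [Group G] [Finite G]

/-- Real elements of odd order lift through an elementary abelian normal subgroup. -/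
theorem lift_RO {N : Subgroup G} [N.Normal] {p : ℕ} (hp : p.Prime)
    (hN : IsElementaryAbelian p N) {y : G ⧸ N} (hy : RO y) :
    ∃ x : G, RO x ∧ (x : G ⧸ N) = y := by
  classical
  obtain ⟨h1, h2, m, hm⟩ := hy
  obtain ⟨u, -, hu, hu'⟩ := Cls.exists_two_part_inverts hm
  obtain ⟨g₀, rfl⟩ := QuotientGroup.mk_surjective u
  obtain ⟨g, -, hg, k, hk⟩ := Cls.exists_p_lift Nat.prime_two (QuotientGroup.mk' N) g₀ hu
  have hg' : (g : G ⧸ N) * y * (g : G ⧸ N)⁻¹ = y⁻¹ := by
    rw [show (g : G ⧸ N) = g₀ from hg]; exact hu'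
  have hθ : ∀ w : G, ((g * w⁻¹ * g⁻¹ : G) : G ⧸ N) = y ↔ (w : G ⧸ N) = y := fun w => by
    rw [QuotientGroup.mk_mul, QuotientGroup.mk_mul, QuotientGroup.mk_inv, QuotientGroup.mk_inv,
      ← inv_inj, ← hg', ← conj_inv, inv_inv, mul_left_inj, mul_right_inj]
  obtain ⟨x₀, rfl⟩ := QuotientGroup.mk_surjective y
  suffices h : ∃ x : G, (x : G ⧸ N) = x₀ ∧ Odd (orderOf x) ∧ ∃ u : G, u * x * u⁻¹ = x⁻¹ by
    obtain ⟨x, e, h3⟩ := h
    exact ⟨x, ⟨fun e' => h1 (by rw [← e, e', QuotientGroup.mk_one]), h3⟩, e⟩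
  by_cases hp2 : p = 2
  · subst hp2
    obtain ⟨w, -, hw1, hw2⟩ := Cls.exists_coprime_lift (n := 2) (QuotientGroup.mk' N) x₀
      ((Nat.coprime_two_right).mpr h2)
    rw [Nat.coprime_two_right] at hw2
    obtain ⟨v, -, hv⟩ := Core.InvOdd.exists_conj_of_odd (W := N)
      (fun a ha b hb => Core.mul_comm_of_mem_of_isMulCommutative hN.1 ha hb)
      (fun a ha => by rw [← sq]; exact hN.2 a ha) (u := w) (u' := g * w⁻¹ * g⁻¹) hw2
      (by rw [show g * w⁻¹ * g⁻¹ = MulAut.conj g w⁻¹ from rfl, MulEquiv.orderOf_eq, orderOf_inv]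
          exact hw2)
      (QuotientGroup.eq.mp (hw1.trans ((hθ w).mpr hw1).symm))
    refine ⟨w, hw1, hw2, g⁻¹ * v, ?_⟩
    rw [show g⁻¹ * v * w * (g⁻¹ * v)⁻¹ = g⁻¹ * (v * w * v⁻¹) * g by group, ← hv]
    group
  · have : Fact (Nat.Prime 2) := ⟨Nat.prime_two⟩
    have : Fact p.Prime := ⟨hp⟩
    have := Fintype.ofFinite G
    let σ : Equiv.Perm G := (MulAut.conj g).toEquiv * Equiv.inv G
    have hσ : ∀ w, σ w = g * w⁻¹ * g⁻¹ := fun w => rfl
    have hσ2 : ∀ (j : ℕ) (w : G), (σ ^ (2 * j)) w = g ^ (2 * j) * w * (g ^ (2 * j))⁻¹ := by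
      intro j
      induction j with
      | zero => simp
      | succ j ih =>
        intro w
        rw [mul_add, mul_one, pow_add, Equiv.Perm.mul_apply, ih, sq, Equiv.Perm.mul_apply, hσ, hσ]
        group
    have hθ' : ∀ w : G, ((σ w : G) : G ⧸ N) = x₀ ↔ (w : G ⧸ N) = x₀ := hθ
    let τ := σ.subtypePerm (p := fun w : G => (w : G ⧸ N) = x₀) hθ'
    have hodd : Odd (Nat.card N) := by
      obtain ⟨j, hj⟩ := IsPGroup.iff_card.mp (Core.isPGroup_of_isElementaryAbelian hN)
      exact hj ▸ (hp.odd_of_ne_two hp2).pow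
    have hc : Nat.card {w : G // (w : G ⧸ N) = x₀} = Nat.card N :=
      Nat.card_congr (Equiv.subtypeEquiv (Equiv.mulLeft x₀⁻¹) fun w => by
        rw [eq_comm, QuotientGroup.eq]; rfl)
    obtain ⟨w, hw⟩ := Equiv.Perm.exists_fixed_point_of_prime (p := 2) (n := k + 1) (σ := τ)
      (by rw [← Nat.card_eq_fintype_card, hc]; exact hodd.not_two_dvd_nat) (by
        ext w
        simp only [τ]
        rw [Equiv.Perm.subtypePerm_pow, Equiv.Perm.subtypePerm_apply, pow_succ']
        simp only [hσ2, Equiv.Perm.coe_one, id]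
        rw [mul_comm 2, pow_mul, ← hk, pow_orderOf_eq_one]
        simp)
    have hw' : g * (w : G)⁻¹ * g⁻¹ = w := congrArg Subtype.val hw
    refine ⟨w, w.2, ?_, g, by rw [← inv_inj, conj_inv, hw', inv_inv]⟩
    refine Odd.of_dvd_nat (h2.mul (hp.odd_of_ne_two hp2)) (orderOf_dvd_of_pow_eq_one ?_)
    rw [pow_mul]
    refine hN.2 _ ((QuotientGroup.eq_one_iff _).mp ?_)
    rw [QuotientGroup.mk_pow, w.2, pow_orderOf_eq_one]

/-- The solvability criterion. -/
theorem isSolvable_of_trans (G : Type u) [Group G] [Finite G] :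
    (∀ x : G, RO x → ∀ P P' : Sylow 2 G, ∃ k : G, k * x = x * k ∧ k • P = P') →
      Group.IsSolvable G := by
  refine Core.induction_on_card (P := fun G _ _ => (∀ x : G, RO x → ∀ P P' : Sylow 2 G,
    ∃ k : G, k * x = x * k ∧ k • P = P') → Group.IsSolvable G) (fun G _ _ ih h => ?_) G
  rcases subsingleton_or_nontrivial G with hG | hG
  · infer_instance
  obtain ⟨N, hN⟩ := Core.exists_isMinNormal (G := G)
  have := hN.normal
  by_cases hs : Group.IsSolvable N
  · obtain ⟨p, hp, hp'⟩ := hN.exists_isElementaryAbelian hs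
    refine Cls.isSolvable_of_normal_of_quotient N hs (ih _ (Core.card_quotient_lt hN.ne_bot) ?_)
    intro y hy P P'
    obtain ⟨x, hx, rfl⟩ := lift_RO hp hp' hy
    obtain ⟨P, rfl⟩ := Sylow.mapSurjective_surjective (QuotientGroup.mk'_surjective N) 2 P
    obtain ⟨P', rfl⟩ := Sylow.mapSurjective_surjective (QuotientGroup.mk'_surjective N) 2 P'
    obtain ⟨k, hk, rfl⟩ := h x hx P P'
    refine ⟨k, congrArg (QuotientGroup.mk' N) hk, Sylow.ext ?_⟩
    show ((P : Subgroup G).map (QuotientGroup.mk' N)).map (MulAut.conj (k : G ⧸ N)).toMonoidHom =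
      ((P : Subgroup G).map (MulAut.conj k).toMonoidHom).map (QuotientGroup.mk' N)
    rw [map_map, map_map]
    rfl
  · refine (Hyp.false (S := N) ⟨fun K hK => ?_, hs, fun x hx T T' => ?_⟩).elim
    · have : K.Characteristic := characteristic_iff_le_comap.mpr fun α g hg => hK α g hg
      exact hN.eq_bot_or_eq_top_of_characteristic K
    · obtain ⟨h1, h2, u, h3⟩ := hx
      obtain ⟨P, hP⟩ := T.exists_comap_subtype_eq
      obtain ⟨P', hP'⟩ := T'.exists_comap_subtype_eq
      obtain ⟨k, hk, rfl⟩ := h x ⟨fun e => h1 (Subtype.ext e), by rwa [orderOf_coe], u,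
        congrArg Subtype.val h3⟩ P P'
      refine ⟨MulAut.conjNormal k, Subtype.ext (by simp [hk]), Sylow.ext (SetLike.ext fun y => ?_)⟩
      obtain ⟨y, rfl⟩ := (MulAut.conjNormal (H := N) k).surjective y
      rw [mem_aut_smul, ← hP, ← hP', mem_comap, mem_comap, Cls.mem_smul_sylow_iff]
      simp [mul_assoc]

end Cfsg.Agent.RealSyl
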