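import Mathlib
import Cfsg.Agent.Lib.Cls.RealSolv
import Cfsg.Agent.Lib.Perm.ClassGraph
import Cfsg.Agent.S3863

/-!
# Cls/RealGraph

Groups whose prime graph on real class sizes is disconnected.
-/

set_option autoImplicit false

namespace Cfsg.Agent.RealSyl

open Subgroup
open scoped Pointwise

/-- real class sizes -/
def rcs (G : Type*) [Group G] : Set ℕ :=
  {n : ℕ | ∃ x : G, IsConj x x⁻¹ ∧ (centralizer ({x} : Set G)).index = n}

/-- disconnected graph -/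
structure Disc (G : Type*) [Group G] (π₁ π₂ : Set ℕ) : Prop where
  ne1 : π₁.Nonempty
  ne2 : π₂.Nonempty
  disj : Disjoint π₁ π₂
  sub : ∀ q ∈ π₁ ∪ π₂, q.Prime ∧ ∃ n ∈ rcs G, q ∣ n
  cover : ∀ q : ℕ, q.Prime → (∃ n ∈ rcs G, q ∣ n) → q ∈ π₁ ∨ q ∈ π₂
  noedge : ∀ a ∈ π₁, ∀ b ∈ π₂, ∀ n ∈ rcs G, ¬ (a ∣ n ∧ b ∣ n)

variable {G : Type*} [Group G] {π₁ π₂ : Set ℕ}

theorem Disc.symm (h : Disc G π₁ π₂) : Disc G π₂ π₁ :=
  ⟨h.ne2, h.ne1, h.disj.symm, fun q hq => h.sub q (Or.symm hq), fun q hq hn => (h.cover q hq hn).symm,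
    fun a ha b hb n hn e => h.noedge b hb a ha n hn e.symm⟩

theorem Disc.coprime (h : Disc G π₁ π₂) {a b m n : ℕ} (ha : a ∈ π₁) (hb : b ∈ π₂) (hm : m ∈ rcs G)
    (hn : n ∈ rcs G) (ham : a ∣ m) (hbn : b ∣ n) : m.Coprime n :=
  Nat.coprime_of_dvd fun k hk h1 h2 => (h.cover k hk ⟨m, hm, h1⟩).elim
    (fun e => h.noedge k e b hb n hn ⟨h2, hbn⟩) fun e => h.noedge a ha k e m hm ⟨ham, h1⟩

variable [Finite G]

theorem two_dvd_of_sq_ne {x : G} (h : IsConj x x⁻¹) (h2 : x ^ 2 ≠ 1) :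
    2 ∣ (centralizer ({x} : Set G)).index := by
  by_contra h3
  exact h2 ((S3863.result x h).2.1 (Nat.not_even_iff_odd.mp fun e => h3 e.two_dvd))

omit [Finite G] in
theorem RO.sq_ne {x : G} (h : RO x) : x ^ 2 ≠ 1 := fun e =>
  h.1 (Cls.eq_one_of_odd_of_eq_inv h.2.1 (eq_inv_of_mul_eq_one_left (by rwa [← sq])))

omit [Finite G] in
theorem RO.isConj {x : G} (h : RO x) : IsConj x x⁻¹ := isConj_iff.mpr h.2.2

theorem RO.two_dvd {x : G} (h : RO x) : 2 ∣ (centralizer ({x} : Set G)).index :=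
  two_dvd_of_sq_ne h.isConj h.sq_ne

omit [Finite G] in
theorem isConj_mul_inv {s t : G} (hs : s ^ 2 = 1) (ht : t ^ 2 = 1) : IsConj (s * t) (s * t)⁻¹ := by
  rw [sq] at hs ht
  refine isConj_iff.mpr ⟨s, ?_⟩
  rw [mul_inv_rev, ← mul_assoc, hs, one_mul, inv_eq_of_mul_eq_one_right ht]

/-- Some real class size is even. -/
theorem Disc.exists_even (h : Disc G π₁ π₂) : ∃ n ∈ rcs G, 2 ∣ n := by
  by_contra hc
  push Not at hc
  have h1 : ∀ x : G, IsConj x x⁻¹ → x ^ 2 = 1 := fun x hx => by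
    by_contra e
    exact hc _ ⟨x, hx, rfl⟩ (two_dvd_of_sq_ne hx e)
  obtain ⟨y, hy, hm⟩ := Set.exists_max_image {x : G | IsConj x x⁻¹}
    (fun x => (centralizer ({x} : Set G)).index) (Set.toFinite _) ⟨1, by simp⟩
  have key : ∀ {π₁ π₂ : Set ℕ}, Disc G π₁ π₂ → ∀ b ∈ π₂, ¬ b ∣ (centralizer ({y} : Set G)).index := by
    intro π₁ π₂ h b hb hby
    obtain ⟨a, ha⟩ := h.ne1
    obtain ⟨hap, _, ⟨x, hx, rfl⟩, hax⟩ := h.sub a (Or.inl ha)
    have hcop := h.coprime ha hb ⟨x, hx, rfl⟩ ⟨y, hy, rfl⟩ hax hby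
    refine hap.one_lt.ne' (Nat.dvd_one.mp (Cls.index_centralizer_eq_one_iff (x := x).mpr
      (mem_center_iff.mpr fun g => ?_) ▸ hax))
    have h2 := Perm.mem_stabilizer_of_coprime hcop (hm _ (isConj_mul_inv (h1 x hx) (h1 y hy))) g
    have h3 := orderOf_dvd_of_pow_eq_one (h1 _ (isConj_mul_inv (s := x⁻¹) (t := g * x * g⁻¹)
      (by rw [inv_pow, h1 x hx, inv_one]) (by rw [conj_pow, h1 x hx]; simp)))
    have h4 := (orderOf_dvd_natCard _ h2).trans (Perm.card_stabilizer_conjugatesOf_dvd y)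
    rcases (Nat.dvd_prime Nat.prime_two).mp h3 with e | e
    · rw [orderOf_eq_one_iff, inv_mul_eq_one, eq_mul_inv_iff_mul_eq] at e
      exact e.symm
    · exact (hc _ ⟨y, hy, rfl⟩ (e ▸ h4)).elim
  obtain ⟨a, ha⟩ := h.ne1
  obtain ⟨hap, _, ⟨x, hx, rfl⟩, hax⟩ := h.sub a (Or.inl ha)
  have h2 : (centralizer ({y} : Set G)).index ≠ 1 := fun e => by
    have h3 := hm x hx
    have h4 := Nat.le_of_dvd (Nat.pos_of_ne_zero FiniteIndex.index_ne_zero) hax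
    have := hap.two_le
    omega
  obtain ⟨q, hq, hqy⟩ := Nat.exists_prime_and_dvd h2
  exact (h.cover q hq ⟨_, ⟨y, hy, rfl⟩, hqy⟩).elim (fun e => key h.symm q e hqy)
    fun e => key h q e hqy

/-- The main configuration. -/
theorem Disc.setup (h : Disc G π₁ π₂) (h2 : 2 ∈ π₁) : ∃ (t : G) (P : Sylow 2 G),
    IsConj t t⁻¹ ∧ (∃ q ∈ π₂, q ∣ (centralizer ({t} : Set G)).index) ∧
    (∀ x, RO x → ¬ Commute x t) ∧ centralizer ({t} : Set G) ≤ normalizer (P : Set G) := by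
  obtain ⟨q, hq⟩ := h.ne2
  obtain ⟨-, _, ⟨t, ht, rfl⟩, hqt⟩ := h.sub q (Or.inr hq)
  have ht2 : ¬ 2 ∣ (centralizer ({t} : Set G)).index := fun e =>
    h.noedge 2 h2 q hq _ ⟨t, ht, rfl⟩ ⟨e, hqt⟩
  have ht3 : t ^ 2 = 1 := by
    by_contra e
    exact ht2 (two_dvd_of_sq_ne ht e)
  obtain ⟨P, hP⟩ := Cls.exists_sylow_le_of_not_dvd_index ht2
  have h3 : ∀ x, RO x → ¬ Commute x t := by
    intro x hx hc
    obtain ⟨y, hy, hyx⟩ := (S3863.result x hx.isConj).1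
    obtain ⟨g, hg⟩ := Cls.exists_conj_mem_sylow P hy
    have h4 := Cls.mem_centralizer_single.mp (hP hg)
    set d := g * t * g⁻¹ with hd
    have hd1 : (centralizer ({d} : Set G)).index = (centralizer ({t} : Set G)).index :=
      Cls.index_centralizer_conj t g
    have hd2 : d ^ 2 = 1 := by rw [hd, conj_pow, ht3]; simp
    have hyd : y * d * y⁻¹ = d := by
      calc _ = g * (g⁻¹ * y * g * t) * g⁻¹ * y⁻¹ := by rw [hd]; group
        _ = d := by rw [h4, hd]; group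
    have hxd : Commute x d := Perm.commute_of_coprime
      (hd1 ▸ h.coprime h2 hq ⟨x, hx.isConj, rfl⟩ ⟨t, ht, rfl⟩ hx.two_dvd hqt) (IsConj.refl x)
      (isConj_iff.mpr ⟨g, rfl⟩).symm hc
    have h5 : IsConj (x * d) (x * d)⁻¹ := isConj_iff.mpr ⟨y, by
      rw [← conj_mul, hyx, hyd, hxd.eq, mul_inv_rev,
        inv_eq_of_mul_eq_one_right (a := d) (by rwa [← sq])]⟩
    refine h.noedge 2 h2 q hq _ ⟨_, h5, rfl⟩ ⟨two_dvd_of_sq_ne h5 ?_, hqt.trans ?_⟩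
    · rw [hxd.mul_pow, hd2, mul_one]
      exact hx.sq_ne
    · rw [Cls.centralizer_single_mul hxd ((Nat.coprime_two_right.mpr hx.2.1).coprime_dvd_right
        (orderOf_dvd_of_pow_eq_one hd2)), ← hd1]
      exact index_dvd_of_le inf_le_right
  refine ⟨t, P, ht, ⟨q, hq, hqt⟩, h3, ?_⟩
  set C := centralizer ({t} : Set G) with hC
  have h4 : ¬ 2 ∣ (pCore 2 C).index := fun e => by
    obtain ⟨x, u, hx1, hx2, -, hx3⟩ := Cls.exists_two_inverts e
    exact h3 x ⟨fun e => hx1 (Subtype.ext e), by rwa [orderOf_coe], u, congrArg Subtype.val hx3⟩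
      (Cls.mem_centralizer_single.mp x.2)
  have h5 : (P : Subgroup G).subgroupOf C = pCore 2 C := by
    refine le_antisymm (Core.le_of_coprime_card_index ?_) (Core.pCore_le_sylow (P.subtype hP))
    obtain ⟨k, hk⟩ := IsPGroup.iff_card.mp (P.subtype hP).isPGroup'
    rw [show Nat.card ((P : Subgroup G).subgroupOf C) = 2 ^ k from hk]
    exact Nat.Coprime.pow_left k ((Nat.Prime.coprime_iff_not_dvd Nat.prime_two).mpr h4)
  exact (normal_subgroupOf_iff_le_normalizer hP).mp (h5 ▸ inferInstance)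

theorem Disc.isSolvable (h : Disc G π₁ π₂) : Group.IsSolvable G := by
  refine isSolvable_of_trans G fun x hx => ?_
  wlog h2 : 2 ∈ π₁ generalizing π₁ π₂
  · exact this h.symm ((h.cover 2 Nat.prime_two ⟨_, ⟨x, hx.isConj, rfl⟩, hx.two_dvd⟩).resolve_left h2)
  obtain ⟨t, P, ht, ⟨q, hq, hqt⟩, -, hP⟩ := h.setup h2
  have h3 : ∀ U : Sylow 2 G, ∃ a ∈ centralizer ({x} : Set G), a • P = U := fun U => by
    obtain ⟨g, rfl⟩ := MulAction.exists_smul_eq G P U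
    obtain ⟨a, ha, c, hc, rfl⟩ := Transfer.exists_mul_of_coprime_index
      (h.coprime h2 hq ⟨x, hx.isConj, rfl⟩ ⟨t, ht, rfl⟩ hx.two_dvd hqt) g
    exact ⟨a, ha, by rw [mul_smul, Sylow.smul_eq_iff_mem_normalizer.mpr (hP hc)]⟩
  intro U U'
  obtain ⟨a, ha, rfl⟩ := h3 U
  obtain ⟨b, hb, rfl⟩ := h3 U'
  exact ⟨b * a⁻¹, Cls.mem_centralizer_single.mp (mul_mem hb (inv_mem ha)),
    by rw [mul_smul, inv_smul_smul]⟩

/-- In a solvable group a Sylow `2`-subgroup normalized by a Sylow `s`-subgroup lies in the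
`s'`-core. -/
theorem le_pPrimeCore [Group.IsSolvable G] {s : ℕ} [hs : Fact s.Prime] (hs2 : s ≠ 2)
    (P : Sylow 2 G) (Q : Sylow s G) (h : (Q : Subgroup G) ≤ normalizer (P : Set G)) :
    (P : Subgroup G) ≤ pPrimeCore s G := by
  set M := pPrimeCore s G with hM
  have hf := QuotientGroup.mk'_surjective M
  have h1 : Disjoint ((P : Subgroup G).map (QuotientGroup.mk' M)) (pCore s (G ⧸ M)) :=
    IsPGroup.disjoint_of_ne 2 s hs2.symm _ _ (P.isPGroup'.map _) (Core.isPGroup_pCore s)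
  have h2 : pCore s (G ⧸ M) ≤
      normalizer (((P : Subgroup G).map (QuotientGroup.mk' M) : Subgroup (G ⧸ M)) : Set (G ⧸ M)) :=
    (Core.pCore_le_sylow (Q.mapSurjective hf)).trans ((map_mono h).trans (le_normalizer_map _))
  have h3 : (P : Subgroup G).map (QuotientGroup.mk' M) ≤ centralizer (pCore s (G ⧸ M) : Set (G ⧸ M)) := by
    intro a ha b hb
    have h4 : b * a * b⁻¹ * a⁻¹ = 1 := disjoint_def.mp h1
      (mul_mem ((mem_normalizer_iff.mp (h2 hb) a).mp ha) (inv_mem ha))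
      (by rw [mul_assoc, mul_assoc, ← mul_assoc a]
          exact mul_mem hb (Normal.conj_mem inferInstance _ (inv_mem hb) a))
    rwa [mul_inv_eq_one, mul_inv_eq_iff_eq_mul] at h4
  have h4 := h1.eq_bot_of_le (h3.trans (Core.centralizer_pCore_le Core.pPrimeCore_quotient_pPrimeCore))
  rwa [Subgroup.map_eq_bot_iff, QuotientGroup.ker_mk'] at h4

theorem Disc.struct (h : Disc G π₁ π₂) (hn : ¬ ∀ P : Sylow 2 G, (P : Subgroup G).Normal) :
    (∃ π₁ π₂, Disc (closure {g : G | ∃ k : ℕ, orderOf g = 2 ^ k}) π₁ π₂) ∧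
      ∀ n ∈ rcs (closure {g : G | ∃ k : ℕ, orderOf g = 2 ^ k}), Odd n ∨ ∃ j : ℕ, n = 2 ^ j := by
  obtain ⟨x, hx⟩ : ∃ x : G, RO x := by
    by_contra hc
    refine hn fun P => ?_
    have h4 : ¬ 2 ∣ (pCore 2 G).index := fun e => by
      obtain ⟨x, u, hx1, hx2, -, hx3⟩ := Cls.exists_two_inverts e
      exact hc ⟨x, hx1, hx2, u, hx3⟩
    have h5 : (P : Subgroup G) = pCore 2 G := by
      refine le_antisymm (Core.le_of_coprime_card_index ?_) (Core.pCore_le_sylow P)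
      obtain ⟨k, hk⟩ := IsPGroup.iff_card.mp P.isPGroup'
      rw [hk]
      exact Nat.Coprime.pow_left k ((Nat.Prime.coprime_iff_not_dvd Nat.prime_two).mpr h4)
    exact h5 ▸ inferInstance
  wlog h2 : 2 ∈ π₁ generalizing π₁ π₂
  · exact this h.symm ((h.cover 2 Nat.prime_two ⟨_, ⟨x, hx.isConj, rfl⟩, hx.two_dvd⟩).resolve_left h2)
  obtain ⟨t, P, ht, ⟨q, hq, hqt⟩, hRO, hP⟩ := h.setup h2
  have := h.isSolvable
  set K := closure {g : G | ∃ k : ℕ, orderOf g = 2 ^ k} with hK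
  have hKn : K.Normal := ⟨fun a ha g => (closure_le (K.comap (MulAut.conj g).toMonoidHom)).mpr
    (fun b hb => subset_closure (hb.imp fun k hk => ((MulAut.conj g).orderOf_eq b).trans hk)) ha⟩
  have hKi : Odd K.index := Nat.not_even_iff_odd.mp fun e => Cls.not_dvd_index_of_sylow_le (Q := P)
    (fun a ha => subset_closure (Core.exists_orderOf_eq_pow_of_mem P.isPGroup' ha)) e.two_dvd
  have h3 : ∀ s : ℕ, s.Prime → s ≠ 2 → s ∣ Nat.card K → s ∣ (centralizer ({t} : Set G)).index := by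
    intro s hs hs2 hsK
    by_contra hc
    have : Fact s.Prime := ⟨hs⟩
    obtain ⟨Q, hQ⟩ := Cls.exists_sylow_le_of_not_dvd_index hc
    have h4 := le_pPrimeCore hs2 P Q (hQ.trans hP)
    have h5 : K ≤ pPrimeCore s G := (closure_le _).mpr fun a ha => by
      obtain ⟨g, hg⟩ := Cls.exists_conj_mem_sylow P ha
      simpa [mul_assoc] using Normal.conj_mem inferInstance _ (h4 hg) g
    exact Core.not_dvd_card_pPrimeCore (hsK.trans (card_dvd_of_le h5))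
  have h4 : ∀ n ∈ rcs K, 2 ∣ n → ∀ s : ℕ, s.Prime → s ∣ n → s = 2 := by
    rintro _ ⟨z, hz, rfl⟩ hn s hs hsn
    by_contra hs2
    have h5 := Cls.index_centralizer_normal_dvd z
    exact hs.one_lt.ne' (Nat.eq_one_of_dvd_coprimes (h.coprime h2 hq
      ⟨z, K.subtype.map_isConj hz, rfl⟩ ⟨t, ht, rfl⟩ (hn.trans h5) hqt) (hsn.trans h5)
      (h3 s hs hs2 (hsn.trans (index_dvd_card _))))
  obtain ⟨hxK, hx'⟩ := (S3863.result x hx.isConj).2.2 K hKi
  obtain ⟨htK, ht'⟩ := (S3863.result t ht).2.2 K hKi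
  refine ⟨⟨{2}, {s | s.Prime ∧ s ≠ 2 ∧ ∃ n ∈ rcs K, s ∣ n}, ⟨2, rfl⟩, ?_, ?_, ?_, ?_, ?_⟩, ?_⟩
  · obtain ⟨s, hs, hst⟩ := Nat.exists_prime_and_dvd
      (n := (centralizer ({⟨t, htK⟩} : Set K)).index) fun e => by
        rw [Cls.index_centralizer_eq_one_iff, mem_center_iff] at e
        exact hRO x hx (congrArg Subtype.val (e ⟨x, hxK⟩))
    refine ⟨s, hs, ?_, _, ⟨_, ht', rfl⟩, hst⟩
    rintro rfl
    exact h.noedge 2 h2 q hq _ ⟨t, ht, rfl⟩
      ⟨hst.trans (Cls.index_centralizer_normal_dvd (⟨t, htK⟩ : K)), hqt⟩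
  · exact Set.disjoint_singleton_left.mpr fun e => e.2.1 rfl
  · rintro s (rfl | hs)
    · exact ⟨Nat.prime_two, _, ⟨_, hx', rfl⟩,
        two_dvd_of_sq_ne hx' fun e => hx.sq_ne (congrArg Subtype.val e)⟩
    · exact ⟨hs.1, hs.2.2⟩
  · intro s hs hn
    by_cases e : s = 2
    exacts [Or.inl e, Or.inr ⟨hs, e, hn⟩]
  · rintro _ rfl b hb n hn ⟨e1, e2⟩
    exact hb.2.1 (h4 n hn e1 b hb.1 e2)
  · intro n hn
    rcases Nat.even_or_odd n with e | e
    · refine Or.inr (Cls.eq_pow_of_forall_prime_eq ?_ (h4 n hn e.two_dvd))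
      obtain ⟨z, -, rfl⟩ := hn
      exact FiniteIndex.index_ne_zero
    · exact Or.inl e

end Cfsg.Agent.RealSyl
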