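import Mathlib
import Cfsg.Agent.Lib.Cls.Basic
import Cfsg.Agent.Lib.Cls.Solv
import Cfsg.Agent.Lib.Transfer.Camina
import Cfsg.Agent.Lib.Coprime.Sylow
import Cfsg.Agent.Lib.Coprime.SylowCount
import Cfsg.Agent.Lib.Coprime.Semidirect
import Cfsg.Agent.Lib.Coprime.AxB
import Cfsg.Agent.Lib.PGrp.Basic
import Cfsg.Agent.Lib.Core.PPrimeCore

/-!
# Cls/Split: subgroups that are the direct product of their `p`-elements and `p'`-elements
-/

set_option autoImplicit false
set_option linter.unusedSectionVars false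

namespace Cfsg.Agent.Split

open Cfsg Subgroup Cfsg.Agent.Coprime
open scoped commutatorElement

variable {G : Type*} [Group G] [Finite G] {p : ℕ} [hp : Fact p.Prime]

/-- `C = B × H` with `B` the `p`-elements and `H` the `p'`-elements of `C`. -/
structure IsSplit (p : ℕ) (C B H : Subgroup G) : Prop where
  memB : ∀ u, u ∈ B ↔ u ∈ C ∧ ∃ k, orderOf u = p ^ k
  memH : ∀ v, v ∈ H ↔ v ∈ C ∧ (orderOf v).Coprime p
  comm : ∀ u ∈ B, ∀ v ∈ H, u * v = v * u

theorem coprime_pow_of_coprime {a k : ℕ} (h : a.Coprime p) : (p ^ k).Coprime a :=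
  (Nat.Coprime.pow_right k h).symm

theorem coprime_of_ne_prime {q k : ℕ} (hq : q.Prime) (h : q ≠ p) : (q ^ k).Coprime p :=
  Nat.Coprime.pow_left k ((Nat.coprime_primes hq hp.out).mpr h)

theorem exists_isSplit {C : Subgroup G}
    (h : ∀ v ∈ C, (orderOf v).Coprime p → ¬ p ∣ (centralizer ({v} : Set G)).relIndex C) :
    ∃ B H : Subgroup G, IsSplit p C B H := by
  obtain ⟨P⟩ : Nonempty (Sylow p C) := inferInstance
  have h' : ∀ x : C, (orderOf x).Coprime p → ¬ p ∣ (centralizer ({x} : Set C)).index := by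
    intro x hx
    rw [Cls.index_centralizer_subgroup]
    exact h x x.2 (by rwa [orderOf_coe])
  obtain ⟨hPn, hPc⟩ := Transfer.sylow_normal_of_not_dvd_index h' P
  have hN := Transfer.hasNormalPComplement_of_forall_mem_centralizer P hPc
  refine ⟨(P : Subgroup C).map C.subtype, (pResidual p C).map C.subtype, ?_, ?_, ?_⟩
  · intro u
    constructor
    · rintro ⟨u, hu, rfl⟩
      refine ⟨u.2, ?_⟩
      obtain ⟨k, hk⟩ := Core.exists_orderOf_eq_pow_of_mem P.isPGroup' hu
      exact ⟨k, by rw [← hk]; exact orderOf_coe u⟩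
    · rintro ⟨hu, k, hk⟩
      refine ⟨⟨u, hu⟩, Cls.mem_sylow_of_mem_normalizer P ⟨k, by rw [← hk]; exact (orderOf_coe _).symm⟩ ?_, rfl⟩
      rw [normalizer_eq_top]; exact mem_top _
  · intro v
    constructor
    · rintro ⟨v, hv, rfl⟩
      refine ⟨v.2, ?_⟩
      have := Transfer.coprime_orderOf_of_mem_pResidual hN hv
      rwa [← orderOf_coe] at this
    · rintro ⟨hv, hc⟩
      exact ⟨⟨v, hv⟩, Transfer.mem_pResidual_of_coprime (by rwa [← orderOf_coe]), rfl⟩
  · rintro _ ⟨u, hu, rfl⟩ _ ⟨v, hv, rfl⟩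
    have := hPc v (Transfer.coprime_orderOf_of_mem_pResidual hN hv) u hu
    exact congrArg Subtype.val this

namespace IsSplit

variable {C B H : Subgroup G}

theorem B_le (h : IsSplit p C B H) : B ≤ C := fun u hu => ((h.memB u).mp hu).1

theorem H_le (h : IsSplit p C B H) : H ≤ C := fun u hu => ((h.memH u).mp hu).1

theorem isPGroup (h : IsSplit p C B H) : IsPGroup p B :=
  Core.isPGroup_of_forall_mem fun x hx => by
    obtain ⟨k, hk⟩ := ((h.memB x).mp hx).2
    exact ⟨k, by rw [← hk, pow_orderOf_eq_one]⟩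

theorem le_B (h : IsSplit p C B H) {U : Subgroup G} (hU : U ≤ C) (hp' : IsPGroup p U) : U ≤ B :=
  fun u hu => (h.memB u).mpr ⟨hU hu, Core.exists_orderOf_eq_pow_of_mem hp' hu⟩

theorem le_H (h : IsSplit p C B H) {U : Subgroup G} (hU : U ≤ C) (hc : (Nat.card U).Coprime p) :
    U ≤ H :=
  fun u hu => (h.memH u).mpr ⟨hU hu, hc.coprime_dvd_left (orderOf_dvd_natCard U hu)⟩

theorem le_H_of_isPGroup (h : IsSplit p C B H) {q : ℕ} [hq : Fact q.Prime] (hqp : q ≠ p)
    {U : Subgroup G} (hU : U ≤ C) (hc : IsPGroup q U) : U ≤ H := by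
  obtain ⟨k, hk⟩ := hc.exists_card_eq
  exact h.le_H hU (hk ▸ coprime_of_ne_prime hq.out hqp)

theorem sylow (h : IsSplit p C B H) : IsSylowIn p B C :=
  isSylowIn_of_maximal h.B_le h.isPGroup fun _ h1 h2 h3 => le_antisymm (h.le_B h2 h3) h1

theorem coprime (h : IsSplit p C B H) : (Nat.card H).Coprime p := by
  refine ((Nat.Prime.coprime_iff_not_dvd hp.out).mpr fun hd => ?_).symm
  obtain ⟨x, hx, hox⟩ := Core.exists_mem_orderOf_eq_of_dvd_card hd
  have := ((h.memH x).mp hx).2
  rw [hox, Nat.coprime_self] at this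
  exact hp.out.one_lt.ne' this

theorem exists_mul (h : IsSplit p C B H) {c : G} (hc : c ∈ C) :
    ∃ u ∈ B, ∃ v ∈ H, c = u * v := by
  obtain ⟨u, hu, v, hv, e, h1, h2⟩ := Cls.exists_p_part hp.out c
  exact ⟨u, (h.memB u).mpr ⟨(zpowers_le.mpr hc) hu, h1⟩, v,
    (h.memH v).mpr ⟨(zpowers_le.mpr hc) hv, h2⟩, e⟩

theorem le_of (h : IsSplit p C B H) {K : Subgroup G} (h1 : B ≤ K) (h2 : H ≤ K) : C ≤ K := by
  intro c hc
  obtain ⟨u, hu, v, hv, rfl⟩ := h.exists_mul hc
  exact K.mul_mem (h1 hu) (h2 hv)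

theorem B_le_centralizer (h : IsSplit p C B H) {v : G} (hv : v ∈ H) :
    B ≤ centralizer ({v} : Set G) :=
  fun u hu => Cls.mem_centralizer_single.mpr (h.comm u hu v hv)

theorem H_le_centralizer (h : IsSplit p C B H) {u : G} (hu : u ∈ B) :
    H ≤ centralizer ({u} : Set G) :=
  fun v hv => Cls.mem_centralizer_single.mpr (h.comm u hu v hv).symm

theorem B_le_centralizer_H (h : IsSplit p C B H) : B ≤ centralizer (H : Set G) :=
  fun u hu v hv => (h.comm u hu v hv).symm

theorem normalizer_le_B (h : IsSplit p C B H) :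
    normalizer (C : Set G) ≤ normalizer (B : Set G) := by
  intro g hg
  rw [mem_normalizer_iff] at hg ⊢
  intro x
  rw [h.memB, h.memB, hg x]
  have : orderOf (g * x * g⁻¹) = orderOf x := by
    have := (MulAut.conj g).orderOf_eq x
    simpa using this
  rw [this]

theorem normalizer_le_H (h : IsSplit p C B H) :
    normalizer (C : Set G) ≤ normalizer (H : Set G) := by
  intro g hg
  rw [mem_normalizer_iff] at hg ⊢
  intro x
  rw [h.memH, h.memH, hg x]
  have : orderOf (g * x * g⁻¹) = orderOf x := by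
    have := (MulAut.conj g).orderOf_eq x
    simpa using this
  rw [this]

end IsSplit

/-- A Sylow subgroup of `C` that lies in `D` is Sylow in `D` when `|C|_p = |D|_p`. -/
theorem isSylowIn_of_factorization {Q C D : Subgroup G} (hQ : IsSylowIn p Q C) (hD : Q ≤ D)
    (h : C.index.factorization p = D.index.factorization p) : IsSylowIn p Q D := by
  refine isSylowIn_of_card_eq hD ?_
  rw [hQ.card_eq]
  have h1 := C.card_mul_index
  have h2 := D.card_mul_index
  have e1 : (Nat.card G).factorization p =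
      (Nat.card C).factorization p + C.index.factorization p := by
    rw [← h1, Nat.factorization_mul Nat.card_pos.ne' index_ne_zero_of_finite]; rfl
  have e2 : (Nat.card G).factorization p =
      (Nat.card D).factorization p + D.index.factorization p := by
    rw [← h2, Nat.factorization_mul Nat.card_pos.ne' index_ne_zero_of_finite]; rfl
  congr 1
  omega

theorem card_eq_of_factorization {Q R C D : Subgroup G} (hQ : IsSylowIn p Q C)
    (hR : IsSylowIn p R D) (h : C.index.factorization p = D.index.factorization p) :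
    Nat.card Q = Nat.card R := by
  rw [hQ.card_eq, hR.card_eq]
  have h1 := C.card_mul_index
  have h2 := D.card_mul_index
  have e1 : (Nat.card G).factorization p =
      (Nat.card C).factorization p + C.index.factorization p := by
    rw [← h1, Nat.factorization_mul Nat.card_pos.ne' index_ne_zero_of_finite]; rfl
  have e2 : (Nat.card G).factorization p =
      (Nat.card D).factorization p + D.index.factorization p := by
    rw [← h2, Nat.factorization_mul Nat.card_pos.ne' index_ne_zero_of_finite]; rfl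
  congr 1
  omega

theorem not_dvd_index_of_isSylowIn_le {Q D : Subgroup G} (hQ : IsSylowIn p Q ⊤) (hD : Q ≤ D) :
    ¬ p ∣ D.index := fun h =>
  hQ.2.2 (by rw [relIndex_top_right]; exact h.trans (index_dvd_of_le hD))

theorem isSylowIn_top_of_not_dvd {Q D : Subgroup G} (hQ : IsSylowIn p Q D)
    (hD : ¬ p ∣ D.index) : IsSylowIn p Q ⊤ :=
  hQ.trans le_top (by rwa [relIndex_top_right])

theorem mem_of_isSylowIn_of_mem_normalizer {Q D : Subgroup G} (hQ : IsSylowIn p Q D) {x : G}
    (hx : x ∈ D) (ho : ∃ k, orderOf x = p ^ k) (hn : x ∈ normalizer (Q : Set G)) : x ∈ Q := by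
  obtain ⟨k, hk⟩ := ho
  exact hQ.le_of_le_normalizer' (zpowers_le.mpr hx) (Core.isPGroup_zpowers_of_orderOf hk)
    (zpowers_le.mpr hn) (mem_zpowers x)

/-- Some prime-power part of a noncentral element is noncentral. -/
theorem exists_prime_pow_not_mem {K : Subgroup G} {x : G} (hx : x ∉ K) :
    ∃ r : ℕ, r.Prime ∧ ∃ u ∈ zpowers x, (∃ k, orderOf u = r ^ k) ∧ u ∉ K := by
  by_contra hcon
  push Not at hcon
  exact hx (Cls.mem_of_forall_prime_pow fun r hr u hu ho => hcon r hr u hu ho)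

/-- In a subgroup `W ⊄ Z(G)` normalized by the `p`-group `P ≥ W` there is a noncentral `y` with
`[P, y] ≤ Z(G)` and `y ^ p ∈ Z(G)`. -/
theorem exists_second_central {P W : Subgroup G} (hP : IsPGroup p P) (hW : IsPGroup p W)
    (hn : P ≤ normalizer (W : Set G)) (hZ : ¬ W ≤ center G) :
    ∃ y ∈ W, y ∉ center G ∧ y ^ p ∈ center G ∧ ∀ g ∈ P, y⁻¹ * (g * y * g⁻¹) ∈ center G := by
  set f := QuotientGroup.mk' (center G)
  have h1 : W.map f ≠ ⊥ := fun h => hZ ((Core.map_mk_eq_bot_iff _ _).mp h)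
  have h2 : P.map f ≤ normalizer ((W.map f : Subgroup _) : Set _) :=
    (map_mono hn).trans (le_normalizer_map f)
  have h3 := PGrp.inf_centralizer_ne_bot (hP.map f) (hW.map f) h2 h1
  obtain ⟨_, hy, hoy⟩ := PGrp.exists_orderOf_eq_prime_of_ne_bot ((hW.map f).to_le inf_le_left) h3
  obtain ⟨⟨y, hyW, rfl⟩, hyc⟩ := mem_inf.mp hy
  refine ⟨y, hyW, fun h => ?_, ?_, fun g hg => ?_⟩
  · have : f y = 1 := (QuotientGroup.eq_one_iff y).mpr h
    rw [this, orderOf_one] at hoy
    exact hp.out.one_lt.ne hoy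
  · rw [← QuotientGroup.eq_one_iff]
    change f (y ^ p) = 1
    rw [map_pow, ← hoy, pow_orderOf_eq_one]
  · rw [← QuotientGroup.eq_one_iff]
    change f _ = 1
    have := hyc (f g) ⟨g, hg, rfl⟩
    rw [map_mul, map_mul, map_mul, this, map_inv, map_inv]
    group

/-- Coprime action through the quotient `K / C_K(D)` on an abelian `p`-group `D`. -/
theorem coprime_range_conjHom {D K : Subgroup G} (hn : K ≤ normalizer (D : Set G)) {n : ℕ}
    (hK : ∀ k ∈ K, ∃ j : ℕ, j.Coprime n ∧ k ^ j ∈ centralizer (D : Set G)) :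
    (Nat.card (conjHom hn).range).Coprime n := by
  refine Nat.Coprime.symm (Nat.coprime_of_dvd fun r hr hrn hd => ?_)
  have := Fact.mk hr
  obtain ⟨_, ⟨k, rfl⟩, ho⟩ := Core.exists_mem_orderOf_eq_of_dvd_card hd
  obtain ⟨j, hj, hk⟩ := hK k k.2
  have h1 : conjHom hn k ^ j = 1 := by
    rw [← map_pow]
    exact (mem_ker_conjHom hn _).mpr hk
  have h2 := orderOf_dvd_of_pow_eq_one h1
  rw [ho] at h2
  exact hr.one_lt.ne' (Nat.eq_one_of_dvd_coprimes hj h2 hrn)

theorem map_commSub_id {D K : Subgroup G} (hn : K ≤ normalizer (D : Set G)) :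
    (commSub (MonoidHom.id (MulAut D)) ⊤ (conjHom hn).range).map D.subtype = ⁅D, K⁆ := by
  apply le_antisymm
  · rw [map_le_iff_le_comap, commSub_le_iff]
    rintro _ ⟨k, rfl⟩ d -
    change (d : G)⁻¹ * (k * d * (k : G)⁻¹) ∈ ⁅D, K⁆
    have := commutator_mem_commutator (D.inv_mem d.2) k.2
    rw [commutatorElement_def] at this
    simpa [mul_assoc] using this
  · rw [commutator_le]
    intro d hd k hk
    refine ⟨(⟨d, hd⟩⁻¹ : D)⁻¹ * conjHom hn ⟨k, hk⟩ (⟨d, hd⟩⁻¹),
      mem_commSub (MonoidHom.id (MulAut D)) ⟨⟨k, hk⟩, rfl⟩ (mem_top _), ?_⟩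
    change (d⁻¹)⁻¹ * (k * d⁻¹ * k⁻¹) = _
    rw [commutatorElement_def]; group

theorem inf_centralizer_inf_commutator_eq_bot {D K : Subgroup G} (hD : IsMulCommutative D)
    (hn : K ≤ normalizer (D : Set G))
    (hK : ∀ k ∈ K, ∃ j : ℕ, j.Coprime (Nat.card D) ∧ k ^ j ∈ centralizer (D : Set G)) :
    D ⊓ centralizer (K : Set G) ⊓ ⁅D, K⁆ = ⊥ := by
  have h1 := act_fixedSub_inf_commSub (MonoidHom.id (MulAut D)) (B := (conjHom hn).range)
    (H := ⊤) (fun _ _ _ _ => mem_top _)
    (by rw [card_top]; exact coprime_range_conjHom hn hK) inferInstance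
  rw [eq_bot_iff]
  intro x hx
  obtain ⟨hx1, hx2⟩ := mem_inf.mp hx
  obtain ⟨hxD, hxc⟩ := mem_inf.mp hx1
  rw [← map_commSub_id hn] at hx2
  obtain ⟨y, hy, rfl⟩ := hx2
  have : y ∈ (⊥ : Subgroup D) := by
    rw [← h1]
    refine mem_inf.mpr ⟨mem_inf.mpr ⟨mem_top _, ?_⟩, hy⟩
    rw [mem_fixedSub]
    rintro _ ⟨k, rfl⟩
    apply Subtype.ext
    change (k : G) * y * (k : G)⁻¹ = y
    exact mul_inv_eq_iff_eq_mul.mpr (hxc k k.2)
  rw [mem_bot] at this
  rw [this]; exact one_mem _

/-- If `P` acts on `H` through an abelian noncyclic group of coprime order, then `H` is generated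
by the fixed points of the elements acting nontrivially. -/
theorem le_of_forall_not_mem_centralizer {H P K : Subgroup G} (hn : P ≤ normalizer (H : Set G))
    (hcop : (Nat.card P).Coprime (Nat.card H))
    (hab : ∀ s ∈ P, ∀ t ∈ P, (t * s)⁻¹ * (s * t) ∈ centralizer (H : Set G))
    (hnc : ¬ IsCyclic (conjHom hn).range)
    (hK : ∀ g ∈ P, g ∉ centralizer (H : Set G) → H ⊓ centralizer {g} ≤ K) : H ≤ K := by
  have h1 := act_le_of_forall_fixed_le (MonoidHom.id (MulAut H)) (B := (conjHom hn).range)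
    (H := ⊤) ?_ hnc (fun _ _ _ _ => mem_top _) ?_ (K := K.subgroupOf H) ?_
  · intro x hx
    exact h1 (mem_top (⟨x, hx⟩ : H))
  · refine Core.isMulCommutative_of_forall ?_
    rintro _ ⟨s, rfl⟩ _ ⟨t, rfl⟩
    have := (mem_ker_conjHom hn ((t * s)⁻¹ * (s * t))).mpr (hab s s.2 t t.2)
    rw [MonoidHom.mem_ker, map_mul, map_inv, inv_mul_eq_one, map_mul, map_mul] at this
    exact this.symm
  · rw [card_top]
    exact hcop.coprime_dvd_left (card_range_dvd _)
  · rintro _ ⟨g, rfl⟩ hg x hx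
    refine hK g g.2 (fun h => hg ((mem_ker_conjHom hn g).mpr h)) (mem_inf.mpr ⟨x.2, ?_⟩)
    have := (mem_fixedSub_zpowers _).mp (mem_inf.mp hx).2
    have h2 : (g : G) * x * (g : G)⁻¹ = x := congrArg Subtype.val this
    exact Cls.mem_centralizer_single.mpr (mul_inv_eq_iff_eq_mul.mp h2).symm

/-- A `p`-element outside the core of a subgroup of index `p` is transitive on the cosets. -/
theorem exists_zpow_smul_eq {K : Subgroup G} (hK : K.index = p) {g : G}
    (hg : ∃ k, orderOf g = p ^ k) (hgK : g ∉ K.normalCore) (a b : G ⧸ K) :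
    ∃ i : ℤ, g ^ i • a = b := by
  obtain ⟨k, hk⟩ := hg
  have hP := Core.isPGroup_zpowers_of_orderOf hk
  have h0 : ∃ c : G ⧸ K, g • c ≠ c := by
    by_contra hcon
    push Not at hcon
    apply hgK
    rw [normalCore_eq_ker, MonoidHom.mem_ker]
    ext c
    simpa using hcon c
  obtain ⟨c, hc⟩ := h0
  obtain ⟨j, hj⟩ := hP.card_orbit c
  have hle : Nat.card (MulAction.orbit (zpowers g) c) ≤ p := by
    rw [← hK]
    exact Nat.card_le_card_of_injective _ Subtype.val_injective
  have hj1 : j = 1 := by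
    rw [hj] at hle
    have h1 : j ≤ 1 := by
      by_contra h
      have := Nat.pow_lt_pow_right hp.out.one_lt (show 1 < j by omega)
      rw [pow_one] at this
      omega
    have h2 : j ≠ 0 := by
      rintro rfl
      rw [pow_zero, Nat.card_eq_one_iff_unique] at hj
      have := hj.1.elim ⟨g • c, ⟨⟨g, mem_zpowers g⟩, rfl⟩⟩ ⟨c, MulAction.mem_orbit_self c⟩
      exact hc (congrArg Subtype.val this)
    omega
  have huniv : MulAction.orbit (zpowers g) c = Set.univ := by
    apply Set.eq_of_subset_of_ncard_le (Set.subset_univ _)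
    rw [Set.ncard_univ, ← Nat.card_coe_set_eq, hj, hj1, pow_one, ← hK]; rfl
  obtain ⟨⟨_, i, rfl⟩, hi⟩ : a ∈ MulAction.orbit (zpowers g) c := huniv ▸ Set.mem_univ a
  obtain ⟨⟨_, i', rfl⟩, hi'⟩ : b ∈ MulAction.orbit (zpowers g) c := huniv ▸ Set.mem_univ b
  refine ⟨i' - i, ?_⟩
  change g ^ i • c = a at hi
  change g ^ i' • c = b at hi'
  rw [← hi, ← hi', smul_smul, ← zpow_add, sub_add_cancel]

theorem mem_normalCore_of_index_eq {K : Subgroup G} (hK : K.index = p) {g : G}
    (hg : ∃ k, orderOf g = p ^ k) (hgK : g ∈ K) : g ∈ K.normalCore := by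
  by_contra h
  have h1 : ∀ b : G ⧸ K, b = ((1 : G) : G ⧸ K) := by
    intro b
    obtain ⟨i, hi⟩ := exists_zpow_smul_eq hK hg h ((1 : G) : G ⧸ K) b
    rw [← hi]
    change ((g ^ i * 1 : G) : G ⧸ K) = _
    rw [QuotientGroup.eq]
    simpa using K.zpow_mem hgK i
  have h2 : K.index = 1 := by
    rw [index, Nat.card_eq_one_iff_unique]
    exact ⟨⟨fun a b => (h1 a).trans (h1 b).symm⟩, ⟨((1 : G) : G ⧸ K)⟩⟩
  exact hp.out.one_lt.ne' (hK.symm.trans h2)

theorem mem_normalCore_of_commute {K : Subgroup G} (hK : K.index = p) {g w : G}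
    (hg : ∃ k, orderOf g = p ^ k) (hgK : g ∉ K.normalCore) {r : ℕ} (hr : r.Prime) (hrp : r ≠ p)
    (hw : ∃ k, orderOf w = r ^ k) (hc : Commute g w) : w ∈ K.normalCore := by
  have := Fact.mk hr
  obtain ⟨k, hk⟩ := hw
  have hR := Core.isPGroup_zpowers_of_orderOf hk
  obtain ⟨a, ha⟩ := hR.nonempty_fixed_point_of_prime_not_dvd_card (G ⧸ K) (by
    change ¬ r ∣ K.index
    rw [hK]
    exact fun h => hrp ((Nat.prime_dvd_prime_iff_eq hr hp.out).mp h))
  have ha' : w • a = a := ha ⟨w, mem_zpowers w⟩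
  rw [normalCore_eq_ker, MonoidHom.mem_ker]
  ext b
  obtain ⟨i, rfl⟩ := exists_zpow_smul_eq hK hg hgK a b
  have : w • g ^ i • a = g ^ i • a := by
    rw [smul_smul, ← (hc.zpow_left i).eq, ← smul_smul, ha']
  simpa using this

end Cfsg.Agent.Split
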