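import Mathlib
import Cfsg.Agent.Lib.Cls.Split
import Cfsg.Agent.Lib.Core.Fitting
import Cfsg.Agent.Lib.Char.Induction

/-!
# Cls/Split2: more on centralizers and class sizes
-/

set_option autoImplicit false
set_option linter.unusedSectionVars false

namespace Cfsg.Agent.Split

open Cfsg Subgroup Cfsg.Agent.Coprime
open scoped commutatorElement

local notation "𝐂[" x "]" => Subgroup.centralizer ({x} : Set _)

variable {G : Type*} [Group G] [Finite G] {p : ℕ} [hp : Fact p.Prime]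

theorem mem_comm {x y : G} (h : x ∈ 𝐂[y]) : y ∈ 𝐂[x] :=
  Cls.mem_centralizer_single.mpr (Cls.mem_centralizer_single.mp h).symm

theorem inf_le_centralizer_mul (x y : G) : 𝐂[x] ⊓ 𝐂[y] ≤ 𝐂[x * y] := fun _ hg =>
  Cls.mem_centralizer_single_commute.mpr
    ((Cls.mem_centralizer_single_commute.mp (mem_inf.mp hg).1).mul_right
      (Cls.mem_centralizer_single_commute.mp (mem_inf.mp hg).2))

theorem not_mem_center_of_le {x y : G} (hx : x ∉ center G) (h : 𝐂[y] ≤ 𝐂[x]) : y ∉ center G :=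
  fun hy => hx (Cls.centralizer_single_eq_top_iff.mp
    (top_le_iff.mp ((Cls.centralizer_single_eq_top_iff.mpr hy).symm.le.trans h)))

theorem not_mem_center_of_not_mem {x g : G} (h : g ∉ 𝐂[x]) : g ∉ center G :=
  fun hg => h (Cls.center_le_centralizer_single x hg)

theorem orderOf_conj (g x : G) : orderOf (g * x * g⁻¹) = orderOf x := by
  simpa using (MulAut.conj g).orderOf_eq x

theorem orderOf_conj' (g x : G) : orderOf (g⁻¹ * x * g) = orderOf x := by
  simpa using orderOf_conj g⁻¹ x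

theorem index_conj' (g x : G) : 𝐂[g⁻¹ * x * g].index = 𝐂[x].index := by
  simpa using Cls.index_centralizer_conj x g⁻¹

theorem eq_of_le_of_index_eq {H K : Subgroup G} (h : H ≤ K) (e : H.index = K.index) : H = K := by
  have h1 := relIndex_mul_index h
  rw [e] at h1
  have h2 : H.relIndex K = 1 := Nat.eq_of_mul_eq_mul_right
    (Nat.pos_of_ne_zero index_ne_zero_of_finite) (h1.trans (one_mul _).symm)
  exact le_antisymm h (relIndex_eq_one.mp h2)

theorem IsSplit.card_eq {C B H : Subgroup G} (h : IsSplit p C B H) :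
    Nat.card C = Nat.card B * Nat.card H := by
  rw [← Core.card_sup_of_disjoint (h.B_le.trans (le_normalizer.trans h.normalizer_le_H))
    (Core.inf_eq_bot_of_isPGroup_of_coprime h.isPGroup h.coprime)]
  congr 2
  exact le_antisymm (h.le_of le_sup_left le_sup_right) (sup_le h.B_le h.H_le)

theorem IsSplit.relIndex_eq {C B H K : Subgroup G} (h : IsSplit p C B H) (hK : B ≤ K) :
    K.relIndex H = K.relIndex C := by
  have h' : IsSplit p (K ⊓ C) B (K ⊓ H) := by
    refine ⟨fun u => ?_, fun v => ?_, fun u hu v hv => h.comm u hu v (mem_inf.mp hv).2⟩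
    · rw [mem_inf, and_assoc, ← h.memB]
      exact ⟨fun hu => ⟨hK hu, hu⟩, fun hu => hu.2⟩
    · rw [mem_inf, mem_inf, and_assoc, ← h.memH]
  have h1 := Core.card_inf_mul_relIndex K H
  have h2 := Core.card_inf_mul_relIndex K C
  rw [h'.card_eq, h.card_eq, ← h1, mul_assoc] at h2
  exact (Nat.eq_of_mul_eq_mul_left Nat.card_pos
    (Nat.eq_of_mul_eq_mul_left Nat.card_pos h2)).symm

/-- If `p` divides no class size of `C` then the `p`-elements of `C` are central in `C`. -/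
theorem le_centralizer_of_forall_not_dvd {C : Subgroup G}
    (h : ∀ x ∈ C, ¬ p ∣ 𝐂[x].relIndex C) {d : G} (hd : d ∈ C) (hod : ∃ k, orderOf d = p ^ k) :
    C ≤ 𝐂[d] := by
  obtain ⟨B, H, hS⟩ := exists_isSplit (p := p) (C := C) fun x hx _ => h x hx
  obtain ⟨T, hT⟩ := exists_isSylowIn p (𝐂[d] ⊓ C)
  have hT' := hT.trans inf_le_right (by rw [inf_relIndex_right]; exact h d hd)
  have hTB : B = T := hT'.eq_of_le (hS.le_B hT'.1 hT'.2.1) hS.B_le hS.isPGroup
  exact hS.le_of (hTB ▸ hT.1.trans inf_le_left) (hS.H_le_centralizer ((hS.memB d).mpr ⟨hd, hod⟩))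

theorem mem_center_of_forall_not_dvd (h : ∀ x : G, ¬ p ∣ 𝐂[x].index) {d : G}
    (hod : ∃ k, orderOf d = p ^ k) : d ∈ center G :=
  Cls.centralizer_single_eq_top_iff.mp (top_le_iff.mp (le_centralizer_of_forall_not_dvd
    (fun x _ => by rw [relIndex_top_right]; exact h x) (mem_top d) hod))

/-- In a split subgroup whose `p'`-elements have class sizes prime to `t ≠ p`, the `t`-elements
are central. -/
theorem IsSplit.le_centralizer {C B H : Subgroup G} (hS : IsSplit p C B H) {t : ℕ}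
    [ht : Fact t.Prime] (htp : t ≠ p) (h : ∀ v ∈ H, ¬ t ∣ 𝐂[v].relIndex C) {d : G} (hd : d ∈ C)
    (hod : ∃ k, orderOf d = t ^ k) : C ≤ 𝐂[d] := by
  refine le_centralizer_of_forall_not_dvd (fun x hx => ?_) hd hod
  obtain ⟨u, hu, v, hv, rfl⟩ := hS.exists_mul hx
  obtain ⟨T, hT⟩ := exists_isSylowIn t (𝐂[v] ⊓ C)
  have hT' := hT.trans inf_le_right (by rw [inf_relIndex_right]; exact h v hv)
  have hTu : T ≤ 𝐂[u] := (hS.le_H_of_isPGroup htp hT'.1 hT'.2.1).trans (hS.H_le_centralizer hu)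
  have hle : T ≤ 𝐂[u * v] :=
    (le_inf hTu (hT.1.trans inf_le_left)).trans (inf_le_centralizer_mul u v)
  exact fun hdvd => hT'.2.2 (hdvd.trans (relIndex_dvd_of_le_left _ hle))

/-- A `p`-element of `D` is conjugate in `D` into any Sylow `p`-subgroup of `D`. -/
theorem exists_conj_mem {Q D : Subgroup G} (hQ : IsSylowIn p Q D) {x : G} (hx : x ∈ D)
    (ho : ∃ k, orderOf x = p ^ k) : ∃ g ∈ D, g⁻¹ * x * g ∈ Q := by
  obtain ⟨k, hk⟩ := ho
  obtain ⟨g, hg, h⟩ := hQ.exists_le_conj (zpowers_le.mpr hx) (Core.isPGroup_zpowers_of_orderOf hk)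
  obtain ⟨u, hu, e⟩ := h (mem_zpowers x)
  refine ⟨g, hg, ?_⟩
  rw [← e]
  simpa [mul_assoc] using hu

theorem exists_conj_mem_of_not_dvd {D : Subgroup G} (hD : ¬ p ∣ D.index) {x : G}
    (ho : ∃ k, orderOf x = p ^ k) : ∃ g : G, g⁻¹ * x * g ∈ D := by
  obtain ⟨Q, hQ⟩ := exists_isSylowIn p D
  obtain ⟨g, -, hg⟩ := exists_conj_mem (isSylowIn_top_of_not_dvd hQ hD) (mem_top x) ho
  exact ⟨g, hQ.1 hg⟩

/-- A subgroup is not a union of conjugates of a proper subgroup. -/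
theorem le_of_forall_exists_conj_mem {D E : Subgroup G}
    (h : ∀ x ∈ E, ∃ e ∈ E, e⁻¹ * x * e ∈ D) : E ≤ D := by
  refine subgroupOf_eq_top.mp (Char.eq_top_of_forall_exists_conj_mem _ fun x => ?_)
  obtain ⟨e, he, h1⟩ := h x x.2
  exact ⟨⟨e, he⟩, h1⟩

theorem centralizer_mul_of_disjoint {A W : Subgroup G} [hA : A.Normal] [hW : W.Normal]
    (h : A ⊓ W = ⊥) {a w : G} (ha : a ∈ A) (hw : w ∈ W) : 𝐂[w * a] = 𝐂[w] ⊓ 𝐂[a] := by
  refine le_antisymm (fun g hg => ?_) (inf_le_centralizer_mul w a)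
  have e := Cls.mem_centralizer_single.mp hg
  have e1 : w⁻¹ * (g * w * g⁻¹) = a * (g * a * g⁻¹)⁻¹ := by
    calc w⁻¹ * (g * w * g⁻¹) = w⁻¹ * (g * (w * a)) * a⁻¹ * g⁻¹ := by group
      _ = _ := by rw [e]; group
  have h1 : w⁻¹ * (g * w * g⁻¹) ∈ A ⊓ W := mem_inf.mpr
    ⟨e1 ▸ A.mul_mem ha (A.inv_mem (hA.conj_mem a ha g)), W.mul_mem (W.inv_mem hw) (hW.conj_mem w hw g)⟩
  rw [h, mem_bot] at h1
  have h2 := h1
  rw [e1, mul_inv_eq_one] at h2
  rw [inv_mul_eq_one] at h1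
  exact mem_inf.mpr ⟨Cls.mem_centralizer_single.mpr (mul_inv_eq_iff_eq_mul.mp h1.symm),
    Cls.mem_centralizer_single.mpr (mul_inv_eq_iff_eq_mul.mp h2.symm)⟩

theorem normalClosure_le_of_forall_conj {w : G} {K : Subgroup G}
    (h : ∀ g : G, g * w * g⁻¹ ∈ K) : normalClosure ({w} : Set G) ≤ K :=
  (normalClosure_le_normal (N := K.normalCore) (Set.singleton_subset_iff.mpr h)).trans
    (normalCore_le K)

theorem coprime_orderOf {q : ℕ} (hq : q.Prime) (h : q ≠ p) {x y : G}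
    (hx : ∃ k, orderOf x = p ^ k) (hy : ∃ k, orderOf y = q ^ k) :
    (orderOf x).Coprime (orderOf y) := by
  obtain ⟨k, hk⟩ := hx
  obtain ⟨j, hj⟩ := hy
  rw [hk, hj]
  exact coprime_pow_of_coprime (coprime_of_ne_prime hq h)

theorem not_dvd_card_quotient_center (h : ∀ x : G, (∃ k, orderOf x = p ^ k) → x ∈ center G) :
    ¬ p ∣ Nat.card (G ⧸ center G) := by
  obtain ⟨P, hP⟩ := exists_isSylowIn p (⊤ : Subgroup G)
  exact not_dvd_index_of_isSylowIn_le hP fun x hx =>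
    h x (Core.exists_orderOf_eq_pow_of_mem hP.2.1 hx)

end Cfsg.Agent.Split
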