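import Mathlib
import Cfsg.Agent.Lib.Cls.Split2
import Cfsg.Agent.Lib.Cls.Solv
import Cfsg.Agent.Lib.BSW.Inv
import Cfsg.Agent.Lib.Transfer.Basic2
import Cfsg.Agent.Lib.Transfer.Frobenius
import Cfsg.Agent.Lib.Transfer.Camina
import Cfsg.Agent.Lib.OO.Final

/-!
# Cls/AbTwo: groups with abelian Sylow `2`-subgroups

A finite group with abelian Sylow `2`-subgroups and a `2`-complement is solvable.
-/

set_option autoImplicit false
set_option linter.unusedSectionVars false

namespace Cfsg.Agent.AbTwo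

open Cfsg Subgroup Cfsg.Agent.Split Cfsg.Agent.Transfer

local notation "𝐂[" x "]" => Subgroup.centralizer ({x} : Set _)

universe u

variable {G : Type*} [Group G] [Finite G]

/-- All `p`-subgroups are abelian. -/
def AbP (p : ℕ) (G : Type*) [Group G] : Prop :=
  ∀ P : Subgroup G, IsPGroup p P → IsMulCommutative P

section AbP

variable {p : ℕ} [hp : Fact p.Prime]

theorem abP_of_sylow (P : Sylow p G) (h : IsMulCommutative (P : Subgroup G)) : AbP p G := by
  intro Q hQ
  obtain ⟨R, hR⟩ := hQ.exists_le_sylow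
  refine Core.isMulCommutative_of_le ?_ hR
  obtain ⟨g, rfl⟩ := MulAction.exists_smul_eq G P R
  refine Core.isMulCommutative_of_forall fun a ha b hb => ?_
  rw [mem_sylow_smul_iff] at ha hb
  have := Core.mul_comm_of_mem_of_isMulCommutative h ha hb
  calc a * b = g * (g⁻¹ * a * g * (g⁻¹ * b * g)) * g⁻¹ := by group
    _ = b * a := by rw [this]; group

theorem AbP.comm (h : AbP p G) {P : Subgroup G} (hP : IsPGroup p P) {a b : G} (ha : a ∈ P)
    (hb : b ∈ P) : a * b = b * a :=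
  Core.mul_comm_of_mem_of_isMulCommutative (h P hP) ha hb

theorem AbP.subgroup (h : AbP p G) (K : Subgroup G) : AbP p K := by
  intro P hP
  refine Core.isMulCommutative_of_forall fun a ha b hb => Subtype.ext ?_
  exact h.comm (hP.map K.subtype) (mem_map_of_mem _ ha) (mem_map_of_mem _ hb)

theorem AbP.of_surjective {G' : Type*} [Group G'] [Finite G'] (h : AbP p G) {f : G →* G'}
    (hf : Function.Surjective f) : AbP p G' := by
  obtain ⟨P⟩ : Nonempty (Sylow p G) := inferInstance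
  refine abP_of_sylow (P.mapSurjective hf) ?_
  refine Core.isMulCommutative_of_forall ?_
  rintro _ ⟨a, ha, rfl⟩ _ ⟨b, hb, rfl⟩
  rw [← map_mul, ← map_mul, h.comm P.2 ha hb]

theorem AbP.quotient (h : AbP p G) (N : Subgroup G) [N.Normal] : AbP p (G ⧸ N) :=
  h.of_surjective (QuotientGroup.mk'_surjective N)

/-- With abelian Sylow `p`-subgroups, `Z(G) ∩ G'` has no `p`-elements. -/
theorem AbP.eq_one_of_mem_center (h : AbP p G) {z : G} (hz : z ∈ center G)
    (hc : z ∈ commutator G) (ho : ∃ k, orderOf z = p ^ k) : z = 1 := by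
  obtain ⟨P⟩ : Nonempty (Sylow p G) := inferInstance
  have := h P P.2
  let : CommGroup (P : Subgroup G) := { (inferInstance : Group (P : Subgroup G)) with
    mul_comm := fun a b => Subtype.ext (h.comm P.2 a.2 b.2) }
  have key : ∀ (k : ℕ) (g₀ : G), g₀⁻¹ * z ^ k * g₀ ∈ (P : Subgroup G) →
      g₀⁻¹ * z ^ k * g₀ = z ^ k := fun k g _ => by
    rw [mul_assoc, ← mem_center_iff.1 ((center G).pow_mem hz k) g, inv_mul_cancel_left]
  have h1 := MonoidHom.transfer_eq_pow (MonoidHom.id (P : Subgroup G)) z key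
  have h2 : MonoidHom.transfer (MonoidHom.id (P : Subgroup G)) z = 1 :=
    Abelianization.commutator_subset_ker _ hc
  rw [h2] at h1
  have h3 : z ^ (P : Subgroup G).index = 1 := (congrArg Subtype.val h1).symm
  obtain ⟨k, hk⟩ := ho
  have h4 : orderOf z ∣ Nat.gcd (p ^ k) (P : Subgroup G).index :=
    Nat.dvd_gcd (hk ▸ dvd_rfl) (orderOf_dvd_of_pow_eq_one h3)
  rw [(((hp.out.coprime_iff_not_dvd.2 P.not_dvd_index)).pow_left k).gcd_eq_one, Nat.dvd_one] at h4
  exact orderOf_eq_one_iff.1 h4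

end AbP

theorem exists_orderOf_of_mul_self {s : G} (h : s * s = 1) : ∃ k, orderOf s = 2 ^ k := by
  obtain ⟨k, -, hk⟩ := (Nat.dvd_prime_pow Nat.prime_two (m := 1)).1
    (orderOf_dvd_of_pow_eq_one (by rw [pow_one, sq, h]) : orderOf s ∣ 2 ^ 1)
  exact ⟨k, hk⟩

/-- An element of even order has a power which is an involution. -/
theorem exists_inv_pow {g : G} (h : ¬ Odd (orderOf g)) :
    ∃ k : ℕ, g ^ k ≠ 1 ∧ g ^ k * g ^ k = 1 := by
  rw [Nat.not_odd_iff_even] at h
  obtain ⟨k, hk⟩ := h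
  have hpos := orderOf_pos g
  exact ⟨k, pow_ne_one_of_lt_orderOf (by omega) (by omega),
    by rw [← pow_add, ← hk, pow_orderOf_eq_one]⟩

theorem exists_inv_pow_of_mem {S : Subgroup G} (hS : IsPGroup 2 S) {g : G} (hg : g ∈ S)
    (h1 : g ≠ 1) : ∃ k : ℕ, g ^ k ≠ 1 ∧ g ^ k * g ^ k = 1 := by
  refine exists_inv_pow fun h => h1 ?_
  exact eq_one_of_coprime_of_mem_isPGroup hS (Nat.coprime_two_right.2 h) hg

/-- Centralizers of involutions normalize the Sylow `2`-subgroup. -/
structure CN (G : Type*) [Group G] : Prop where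
  ab : AbP 2 G
  le : ∀ (S : Sylow 2 G), ∀ s ∈ (S : Subgroup G), s ≠ 1 → s * s = 1 →
    𝐂[s] ≤ normalizer ((S : Subgroup G) : Set G)

namespace CN

variable (h : CN G) (S : Sylow 2 G)
include h

theorem mem_of_comm {s t : G} (hs : s ∈ (S : Subgroup G)) (s1 : s ≠ 1) (s2 : s * s = 1)
    (t2 : t * t = 1) (hc : t * s = s * t) : t ∈ (S : Subgroup G) :=
  Cls.mem_sylow_of_mem_normalizer S (exists_orderOf_of_mul_self t2)
    (h.le S s hs s1 s2 (Cls.mem_centralizer_single.2 hc))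

theorem mem_norm_of_conj {s g : G} (hs : s ∈ (S : Subgroup G)) (s1 : s ≠ 1) (s2 : s * s = 1)
    (hg : g * s * g⁻¹ ∈ (S : Subgroup G)) : g ∈ normalizer ((S : Subgroup G) : Set G) := by
  rw [← inv_mem_iff]
  refine mem_normalizer_of_conj_mem fun x hx => ?_
  obtain ⟨k, hk⟩ := Core.exists_orderOf_eq_pow_of_mem S.2 hx
  refine Cls.mem_sylow_of_mem_normalizer S ⟨k, by rw [orderOf_conj, hk]⟩
    (h.le S s hs s1 s2 (Cls.mem_centralizer_single.2 ?_))
  have := h.ab.comm S.2 hx hg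
  calc g⁻¹ * x * g⁻¹⁻¹ * s = g⁻¹ * (x * (g * s * g⁻¹)) * g := by group
    _ = _ := by rw [this]; group

theorem odd_orderOf_mul {s t : G} (hs : s ∈ (S : Subgroup G)) (s1 : s ≠ 1) (s2 : s * s = 1)
    (ht : t ∉ (S : Subgroup G)) (t2 : t * t = 1) : Odd (orderOf (s * t)) := by
  by_contra hodd
  obtain ⟨k, c1, c2⟩ := exists_inv_pow hodd
  have h1 : s * (s * t) * s⁻¹ = (s * t)⁻¹ := by
    rw [mul_inv_rev, BSW.inv_eq_of_mul_self t2, ← mul_assoc, s2, one_mul]
  have h2 : s * (s * t) ^ k * s⁻¹ = (s * t) ^ k := by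
    rw [← conj_pow, h1, inv_pow, BSW.inv_eq_of_mul_self c2]
  have h3 : (s * t) ^ k * s = s * (s * t) ^ k := (mul_inv_eq_iff_eq_mul.1 h2).symm
  have hc := h.mem_of_comm S hs s1 s2 c2 h3
  refine ht (h.mem_of_comm S hc c1 c2 t2 ?_)
  have h4 : s * t * (s * t) ^ k = (s * t) ^ k * (s * t) := ((Commute.refl (s * t)).pow_right k).eq
  calc t * (s * t) ^ k = s * (s * t * (s * t) ^ k) := by
        rw [← mul_assoc, ← mul_assoc, s2, one_mul]
    _ = s * (s * t) ^ k * s * t := by rw [h4]; group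
    _ = (s * t) ^ k * t := by rw [← h3, mul_assoc _ s s, s2, mul_one]

theorem exists_inv_conj {s t : G} (hs : s ∈ (S : Subgroup G)) (s1 : s ≠ 1) (s2 : s * s = 1)
    (ht : t ∉ (S : Subgroup G)) (t2 : t * t = 1) : ∃ u : G, u * u = 1 ∧ u * s * u⁻¹ = t := by
  obtain ⟨k, hk⟩ := BSW.exists_conj_of_odd s2 t2 (h.odd_orderOf_mul S hs s1 s2 ht t2)
  have h1 : s * (s * t) * s⁻¹ = (s * t)⁻¹ := by
    rw [mul_inv_rev, BSW.inv_eq_of_mul_self t2, ← mul_assoc, s2, one_mul]
  have h2 : s * (s * t) ^ k * s⁻¹ = ((s * t) ^ k)⁻¹ := by rw [← conj_pow, h1, inv_pow]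
  refine ⟨(s * t) ^ k * s, ?_, ?_⟩
  · calc (s * t) ^ k * s * ((s * t) ^ k * s) = (s * t) ^ k * (s * (s * t) ^ k * s⁻¹) * (s * s) := by
          group
      _ = 1 := by rw [h2, s2]; group
  · calc (s * t) ^ k * s * s * ((s * t) ^ k * s)⁻¹ = (s * t) ^ k * s * ((s * t) ^ k)⁻¹ := by group
      _ = t := hk.symm

/-- An element of `N(S)` inverted by an involution outside `N(S)` has odd order. -/
theorem odd_of_inverted {u g : G} (hu : u ∉ normalizer ((S : Subgroup G) : Set G))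
    (hg : g ∈ normalizer ((S : Subgroup G) : Set G)) (hi : u * g * u⁻¹ = g⁻¹) :
    Odd (orderOf g) := by
  by_contra hodd
  obtain ⟨k, c1, c2⟩ := exists_inv_pow hodd
  have hc : g ^ k ∈ (S : Subgroup G) := Cls.mem_sylow_of_mem_normalizer S
    (exists_orderOf_of_mul_self c2) (Subgroup.pow_mem _ hg k)
  refine hu (h.mem_norm_of_conj S hc c1 c2 ?_)
  rw [← conj_pow, hi, inv_pow]
  exact inv_mem hc

/-- An element of odd order inverted by an involution centralizes no involution. -/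
theorem eq_one_of_inverted {u k s : G} (u2 : u * u = 1) (hi : u * k * u⁻¹ = k⁻¹)
    (hk : Odd (orderOf k)) (s1 : s ≠ 1) (s2 : s * s = 1) (hc : s * k = k * s) : k = 1 := by
  set D := normalizer ((zpowers k : Subgroup G) : Set G) with hD
  have huD : u ∈ D := mem_normalizer_of_conj_mem (by
    rintro _ ⟨i, rfl⟩
    exact ⟨-i, by simp only [← conj_zpow, hi, zpow_neg, inv_zpow]⟩)
  have hsD : s ∈ D := mem_normalizer_of_conj_mem (by
    rintro _ ⟨i, rfl⟩
    refine ⟨i, ?_⟩
    simp only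
    rw [← conj_zpow, hc, mul_inv_cancel_right])
  obtain ⟨j, hj⟩ := exists_orderOf_of_mul_self u2
  obtain ⟨T, huT, hT⟩ := exists_isSylowIn_ge (Core.isPGroup_zpowers_of_orderOf hj)
    ((zpowers_le).2 huD)
  obtain ⟨n, hn, hsn⟩ := exists_conj_mem ⟨hT.le, hT.isPGroup, hT.not_dvd⟩ hsD
    (exists_orderOf_of_mul_self s2)
  obtain ⟨U, hU⟩ := hT.isPGroup.exists_le_sylow
  have h1 : k ∈ 𝐂[n⁻¹ * s * n] := by
    rw [Cls.mem_centralizer_single]
    obtain ⟨i, hi'⟩ : n * k * n⁻¹ ∈ zpowers k :=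
      Frob.conj_mem_of_mem_normalizer hn (mem_zpowers k)
    simp only at hi'
    have h2 : s * k ^ i = k ^ i * s := ((show Commute s k from hc).zpow_right i).eq
    calc k * (n⁻¹ * s * n) = n⁻¹ * (n * k * n⁻¹ * s) * n := by group
      _ = n⁻¹ * (s * (n * k * n⁻¹)) * n := by rw [← hi', h2]
      _ = _ := by group
  have h2 := h.le U _ (hU hsn) (by simpa using BSW.conj_ne_one (g := n⁻¹) s1)
    (by simpa using BSW.conj_mul_self (g := n⁻¹) s2) h1
  have huU : u ∈ (U : Subgroup G) := hU (huT (mem_zpowers u))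
  have h3 : k * k ∈ (U : Subgroup G) := by
    have := mul_mem (Frob.conj_mem_of_mem_normalizer h2 huU) (inv_mem huU)
    have e : u * k⁻¹ * u⁻¹ = k := by
      rw [show u * k⁻¹ * u⁻¹ = (u * k * u⁻¹)⁻¹ by group, hi, inv_inv]
    rwa [show k * u * k⁻¹ * u⁻¹ = k * (u * k⁻¹ * u⁻¹) by group, e] at this
  have h4 : k ∈ (U : Subgroup G) := by
    obtain ⟨m, hm⟩ := hk
    have : k = ((k * k) ^ m)⁻¹ := by
      rw [eq_inv_iff_mul_eq_one, ← sq, ← pow_mul, ← pow_succ', ← hm, pow_orderOf_eq_one]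
    rw [this]
    exact inv_mem (Subgroup.pow_mem _ h3 m)
  exact eq_one_of_coprime_of_mem_isPGroup U.2 (Nat.coprime_two_right.2 hk) h4

/-- If `S` has only one involution then `G` has a normal `2`-complement. -/
theorem hasNormalPComplement_of_unique
    (hu : ∀ s ∈ (S : Subgroup G), ∀ t ∈ (S : Subgroup G), s ≠ 1 → s * s = 1 → t ≠ 1 →
      t * t = 1 → s = t) : HasNormalPComplement 2 G := by
  refine burnside_of_normalizer_le_centralizer S fun g hg => ?_
  obtain ⟨a, ha, b, hb, e, hao, hbo⟩ := Cls.exists_p_part Nat.prime_two g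
  have hz : zpowers g ≤ normalizer ((S : Subgroup G) : Set G) := zpowers_le.2 hg
  have haS := Cls.mem_sylow_of_mem_normalizer S hao (hz ha)
  rw [e]
  refine mul_mem (mem_centralizer_iff.2 fun x hx => h.ab.comm S.2 hx haS) ?_
  refine mem_centralizer_of_omega S.2 (h.ab _ S.2) hbo (hz hb) fun w hw hw2 => ?_
  by_cases w1 : w = 1
  · simp [w1]
  rw [sq] at hw2
  have := hu _ (Frob.conj_mem_of_mem_normalizer (hz hb) hw) w hw (BSW.conj_ne_one w1)
    (BSW.conj_mul_self hw2) w1 hw2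
  exact (mul_inv_eq_iff_eq_mul.1 this).symm

/-- If `S` is not normal and has two involutions, then some element `k ≠ 1` of odd order in
`N(S)` is inverted by an involution. -/
theorem exists_inverted (hn : ¬ (S : Subgroup G).Normal) {s₁ s₂ : G} (h1 : s₁ ∈ (S : Subgroup G))
    (h2 : s₂ ∈ (S : Subgroup G)) (a1 : s₁ ≠ 1) (a2 : s₁ * s₁ = 1) (b1 : s₂ ≠ 1)
    (b2 : s₂ * s₂ = 1) :
    ∃ u g : G, u ∉ normalizer ((S : Subgroup G) : Set G) ∧ u * u = 1 ∧
      g ∈ normalizer ((S : Subgroup G) : Set G) ∧ u * g * u⁻¹ = g⁻¹ ∧ g * s₁ * g⁻¹ = s₂ := by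
  obtain ⟨y, hy⟩ : ∃ y, y ∉ normalizer ((S : Subgroup G) : Set G) := by
    by_contra! hy
    exact hn (Core.normal_iff_top_le_normalizer.2 fun y _ => hy y)
  have ht : y * s₁ * y⁻¹ ∉ (S : Subgroup G) := fun e => hy (h.mem_norm_of_conj S h1 a1 a2 e)
  have t2 := BSW.conj_mul_self (g := y) a2
  obtain ⟨u, u2, hu⟩ := h.exists_inv_conj S h1 a1 a2 ht t2
  obtain ⟨v, v2, hv⟩ := h.exists_inv_conj S h2 b1 b2 ht t2
  have e : v * u * s₁ * (v * u)⁻¹ = s₂ := by
    calc v * u * s₁ * (v * u)⁻¹ = v * (u * s₁ * u⁻¹) * v⁻¹ := by group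
      _ = v * v * s₂ * (v * v)⁻¹ := by rw [hu, ← hv]; group
      _ = s₂ := by rw [v2]; group
  refine ⟨u, v * u, fun hn => ht (hu ▸ Frob.conj_mem_of_mem_normalizer hn h1), u2,
    h.mem_norm_of_conj S h1 a1 a2 (e ▸ h2), ?_, e⟩
  rw [mul_inv_rev, BSW.inv_eq_of_mul_self u2, BSW.inv_eq_of_mul_self v2, mul_assoc, mul_assoc, u2,
    mul_one]

/-- No `2`-complement when `S` is not normal and has two involutions. -/
theorem not_complement (hn : ¬ (S : Subgroup G).Normal) {s₁ s₂ : G} (h1 : s₁ ∈ (S : Subgroup G))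
    (h2 : s₂ ∈ (S : Subgroup G)) (a1 : s₁ ≠ 1) (a2 : s₁ * s₁ = 1) (b1 : s₂ ≠ 1)
    (b2 : s₂ * s₂ = 1) (hne : s₁ ≠ s₂) {H : Subgroup G} (hH : Odd (Nat.card H)) {n : ℕ}
    (hi : H.index = 2 ^ n) : False := by
  obtain ⟨u, g, hu, u2, hg, hug, e⟩ := h.exists_inverted S hn h1 h2 a1 a2 b1 b2
  have g1 : g ≠ 1 := by
    rintro rfl
    exact hne (by simpa using e)
  have go := h.odd_of_inverted S hu hg hug
  obtain ⟨r, hr, k, hkg, hko, hk1⟩ := exists_prime_pow_not_mem (K := ⊥) (mt mem_bot.1 g1)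
  rw [mem_bot] at hk1
  have := Fact.mk hr
  have ko : Odd (orderOf k) := go.of_dvd_nat (orderOf_dvd_of_mem_zpowers hkg)
  have hkN : k ∈ normalizer ((S : Subgroup G) : Set G) := zpowers_le.2 hg hkg
  have huk : u * k * u⁻¹ = k⁻¹ := by
    obtain ⟨i, rfl⟩ := hkg
    simp only [← conj_zpow, hug, inv_zpow]
  have hr2 : ¬ r ∣ H.index := by
    rw [hi]
    intro hd
    have := (Nat.prime_dvd_prime_iff_eq hr Nat.prime_two).1 (hr.dvd_of_dvd_pow hd)
    subst this
    obtain ⟨j, hj⟩ := hko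
    rcases j with _ | j
    · exact hk1 (orderOf_eq_one_iff.1 (by simpa using hj))
    · rw [hj] at ko
      exact absurd ko (by simp [Nat.odd_pow_iff])
  obtain ⟨y, hy⟩ := exists_conj_mem_of_not_dvd hr2 hko
  set H' : Subgroup G := H.map (MulAut.conj y).toMonoidHom with hH'
  have mem' : ∀ {x}, x ∈ H' ↔ y⁻¹ * x * y ∈ H := fun {x} => by
    rw [hH', ← conj_smul_eq_map, mem_conj_smul_iff]
  have c' : Nat.card H' = Nat.card H := by rw [hH', ← conj_smul_eq_map, card_conj_smul]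
  have i' : H'.index = H.index := index_map_of_bijective (MulAut.conj y).bijective H
  have odd' : ∀ x ∈ H', Odd (orderOf x) := fun x hx =>
    (c' ▸ hH).of_dvd_nat (H'.orderOf_dvd_natCard hx)
  have hcop : (S : Subgroup G).index.Coprime H'.index := by
    rw [i', hi]
    exact ((Nat.prime_two.coprime_iff_not_dvd.2 S.not_dvd_index).symm).pow_right n
  obtain ⟨s, hs, a, ha, eu⟩ := exists_mul_of_coprime_index hcop u
  have hk' : k ∈ H' := mem'.2 hy
  have e1 : a * k * a⁻¹ * k = s⁻¹ * (k⁻¹ * s * k) := by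
    calc a * k * a⁻¹ * k = s⁻¹ * (s * a * k * (s * a)⁻¹) * s * k := by group
      _ = _ := by rw [← eu, huk]; group
  have e2 : s⁻¹ * (k⁻¹ * s * k) = 1 := by
    refine eq_one_of_coprime_of_mem_isPGroup S.2 (Nat.coprime_two_right.2 (odd' _ ?_))
      (mul_mem (inv_mem hs) (Frob.conj_mem_of_mem_normalizer' hkN hs))
    rw [← e1]
    exact mul_mem (mul_mem (mul_mem ha hk') (inv_mem ha)) hk'
  have e3 : Commute s k := by
    change s * k = k * s
    calc s * k = k * s * (s⁻¹ * (k⁻¹ * s * k)) := by group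
      _ = k * s := by rw [e2, mul_one]
  by_cases s1 : s = 1
  · rw [s1, one_mul] at eu
    have := odd' a ha
    rw [← eu] at this
    obtain ⟨j, hj⟩ := exists_orderOf_of_mul_self u2
    have u1 : u = 1 := eq_one_of_coprime_of_pow_pow (p := 2) (Nat.coprime_two_right.2 this)
      (k := j) (by rw [← hj, pow_orderOf_eq_one])
    exact hu (u1 ▸ one_mem _)
  · obtain ⟨j, c1, c2⟩ := exists_inv_pow_of_mem S.2 hs s1
    exact hk1 (h.eq_one_of_inverted u2 huk ko c1 c2 (e3.pow_left j).eq)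

end CN

/-- A solvable group with `O(C) = 1` and abelian Sylow `2`-subgroups has a normal one. -/
theorem le_normalizer_of_isSolvable (hA : AbP 2 G) (S : Sylow 2 G) {C : Subgroup G}
    (hS : (S : Subgroup G) ≤ C) (hC : Group.IsSolvable C) (h0 : pPrimeCore 2 C = ⊥) :
    C ≤ normalizer ((S : Subgroup G) : Set G) := by
  have h1 := Core.centralizer_pCore_le h0
  have h2 : pCore 2 C ≤ (S.subtype hS : Subgroup C) := Core.pCore_le_sylow _
  have h3 : (S.subtype hS : Subgroup C) ≤ pCore 2 C := fun x hx => h1 (mem_centralizer_iff.2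
    fun y hy => (hA.subgroup C).comm (S.subtype hS).2 (h2 hy) hx)
  have h4 : (S : Subgroup G) = (pCore 2 C).map C.subtype := by
    rw [← le_antisymm h3 h2, Sylow.coe_subtype, map_subgroupOf_eq_of_le hS]
  rw [h4]
  exact Core.le_normalizer_map_subtype C _

theorem relIndex_eq_of_sylow_le (S : Sylow 2 G) {H K : Subgroup G} (hH : Odd (Nat.card H))
    {n : ℕ} (hi : H.index = 2 ^ n) (hK : (S : Subgroup G) ≤ K) : H.relIndex K = 2 ^ n := by
  have h1 : H.relIndex K ≤ 2 ^ n := by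
    rw [← hi, ← relIndex_top_right]
    exact relIndex_le_of_le_right le_top (by rw [relIndex_top_right]; exact index_ne_zero_of_finite)
  refine le_antisymm h1 (Nat.le_of_dvd (Nat.pos_of_ne_zero (index_ne_zero_of_finite)) ?_)
  have h2 : 2 ^ n ∣ Nat.card K := by
    have : 2 ^ n ∣ Nat.card (S : Subgroup G) * (S : Subgroup G).index := by
      rw [card_mul_index, ← hi]; exact index_dvd_card H
    exact (((Nat.prime_two.coprime_iff_not_dvd.2 S.not_dvd_index).pow_left n).dvd_of_dvd_mul_right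
      this).trans (card_dvd_of_le hK)
  rw [← Core.card_inf_mul_relIndex H K] at h2
  refine Nat.Coprime.dvd_of_dvd_mul_left ?_ h2
  exact (Nat.coprime_two_left.2 (hH.of_dvd_nat (card_dvd_of_le inf_le_left))).pow_left n

/-- A group with abelian Sylow `2`-subgroups and a `2`-complement is solvable. -/
theorem isSolvable_of_complement (G : Type u) [Group G] [Finite G] :
    AbP 2 G → (∃ H : Subgroup G, Odd (Nat.card H) ∧ ∃ n, H.index = 2 ^ n) →
      Group.IsSolvable G := by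
  refine Core.induction_on_card (P := fun G _ _ => AbP 2 G →
    (∃ H : Subgroup G, Odd (Nat.card H) ∧ ∃ n, H.index = 2 ^ n) → Group.IsSolvable G) ?_ G
  rintro G _ _ ih hA ⟨H, hH, n, hi⟩
  have hsub : ∀ K : Subgroup G, Odd (Nat.card (H.subgroupOf K)) := fun K => by
    rw [Core.card_subgroupOf]
    exact hH.of_dvd_nat (card_dvd_of_le inf_le_left)
  by_cases hs : ∃ N : Subgroup G, N.Normal ∧ N ≠ ⊥ ∧ N ≠ ⊤
  · obtain ⟨N, hN, h1, h2⟩ := hs
    refine Cls.isSolvable_of_normal_of_quotient N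
      (ih N (Core.card_lt_of_ne_top h2) (hA.subgroup N) ⟨H.subgroupOf N, hsub N, ?_⟩)
      (ih (G ⧸ N) (Core.card_quotient_lt h1) (hA.quotient N)
        ⟨H.map (QuotientGroup.mk' N), hH.of_dvd_nat (card_map_dvd _ _), ?_⟩)
    · exact Cls.exists_pow_of_dvd_pow Nat.prime_two (hi ▸ Cls.relIndex_dvd_index_of_normal' H N)
    · exact Cls.exists_pow_of_dvd_pow Nat.prime_two
        (hi ▸ index_map_dvd H (QuotientGroup.mk'_surjective N))
  have simple : ∀ N : Subgroup G, N.Normal → N = ⊥ ∨ N = ⊤ := fun N hN => by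
    by_contra! hc
    exact hs ⟨N, hN, hc⟩
  by_contra hns
  have hodd : ¬ Odd (Nat.card G) := fun h => hns (OO.Feit_Thompson h)
  have hcomm : ∀ K : Subgroup G, IsMulCommutative K → K ≠ ⊤ := by
    rintro K hK rfl
    exact hns (Core.isSolvable_top_iff.1 (Cls.isSolvable_of_isMulCommutative hK))
  have hHt : H ≠ ⊤ := by
    rintro rfl
    exact hodd (by simpa using hH)
  have hCN : CN G := by
    refine ⟨hA, fun S s hs s1 s2 => ?_⟩
    have hSC : (S : Subgroup G) ≤ 𝐂[s] := fun x hx =>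
      Cls.mem_centralizer_single.2 (hA.comm S.2 hx hs)
    have hC : 𝐂[s] ≠ (⊤ : Subgroup G) := by
      rw [Ne, Cls.centralizer_single_eq_top_iff]
      intro hz
      rcases simple (center G) inferInstance with h0 | h0
      · exact s1 (by rwa [h0, mem_bot] at hz)
      · exact hcomm _ inferInstance h0
    have hiC := relIndex_eq_of_sylow_le S hH hi hSC
    refine le_normalizer_of_isSolvable hA S hSC (ih _ (Core.card_lt_of_ne_top hC) (hA.subgroup _)
      ⟨H.subgroupOf _, hsub _, n, hiC⟩) ?_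
    set O := pPrimeCore 2 𝐂[s] with hO
    have hOH : O ≤ H.subgroupOf 𝐂[s] := by
      rw [← relIndex_eq_one]
      have h1 : (H.subgroupOf 𝐂[s]).relIndex O ∣ 2 ^ n :=
        hiC ▸ Cls.relIndex_dvd_index_of_normal' _ O
      have h2 : (H.subgroupOf 𝐂[s]).relIndex O ∣ Nat.card O := relIndex_dvd_card _ _
      exact Nat.eq_one_of_dvd_coprimes ((Core.coprime_card_pPrimeCore 2).pow_right n) h2 h1
    have hcop : H.index.Coprime (S : Subgroup G).index := by
      rw [hi]
      exact ((Nat.prime_two.coprime_iff_not_dvd.2 S.not_dvd_index)).pow_left n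
    have h0 : H.normalCore = ⊥ := (simple _ inferInstance).resolve_right fun e =>
      hHt (eq_top_iff.2 (e ▸ H.normalCore_le))
    rw [eq_bot_iff]
    intro x hx
    have : (x : G) ∈ H.normalCore := by
      intro g
      obtain ⟨a, ha, b, hb, rfl⟩ := exists_mul_of_coprime_index hcop g
      have h1 : (⟨b, hSC hb⟩ : 𝐂[s]) * x * (⟨b, hSC hb⟩ : 𝐂[s])⁻¹ ∈ O :=
        (inferInstance : O.Normal).conj_mem x hx _
      have h2 : b * x * b⁻¹ ∈ H := hOH h1
      rw [show a * b * x * (a * b)⁻¹ = a * (b * x * b⁻¹) * a⁻¹ by group]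
      exact mul_mem (mul_mem ha h2) (inv_mem ha)
    rw [h0, mem_bot] at this
    exact mem_bot.2 (Subtype.ext this)
  obtain ⟨S⟩ : Nonempty (Sylow 2 G) := inferInstance
  have hn : ¬ (S : Subgroup G).Normal := fun hn => by
    rcases simple _ hn with h0 | h0
    · have := S.not_dvd_index
      rw [h0, index_bot] at this
      exact hodd (Nat.not_even_iff_odd.1 fun e => this e.two_dvd)
    · exact hcomm _ (hA _ S.2) h0
  have hP : ¬ HasNormalPComplement 2 G := fun hP => by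
    rcases simple (pResidual 2 G) inferInstance with h0 | h0
    · exact hcomm ⊤ (hA _ ((isPGroup_iff_pResidual_eq_bot.2 h0).to_subgroup ⊤)) rfl
    · rw [hasNormalPComplement_iff_not_dvd_pResidual, h0, card_top] at hP
      exact hodd (Nat.not_even_iff_odd.1 fun e => hP e.two_dvd)
  refine hP (hCN.hasNormalPComplement_of_unique S fun s hs t ht s1 s2 t1 t2 => ?_)
  by_contra hne
  exact hCN.not_complement S hn hs ht s1 s2 t1 t2 hne hH hi

end Cfsg.Agent.AbTwo
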