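import Mathlib
import Cfsg.Agent.Lib.OO.BG3
import Cfsg.Agent.Lib.PGrp.ConjOrder

/-! # Camina pairs -/

set_option autoImplicit false
set_option linter.unusedSectionVars false

namespace Cfsg.Agent.Camina

open Subgroup Cfsg.Agent.Coprime Cfsg.Agent.OO
open scoped Pointwise commutatorElement

variable {G : Type*} [Group G] [Finite G] {H K N S T V : Subgroup G} {g n : G} {p q : ℕ}

theorem ncard_class (S : Subgroup G) (g : G) :
    {y | ∃ x ∈ S, x * g * x⁻¹ = y}.ncard = (S ⊓ 𝐂[g]).relIndex S := by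
  have := @MulAction.index_stabilizer S G _ (MulAction.compHom G (MulAut.conj.comp S.subtype)) g
  rw [inf_relIndex_left, relIndex]
  convert this.symm
  · ext y; simp [MulAction.mem_orbit_iff, MulAction.compHom_smul_def]
  · ext x
    simp [MulAction.mem_stabilizer_iff, MulAction.compHom_smul_def, mem_subgroupOf, mem_cent1_iff_conj]

theorem card_eq_of_surj (h : ∀ x ∈ S, g⁻¹ * (x * g * x⁻¹) ∈ T)
    (hs : ∀ n ∈ T, ∃ x ∈ S, x * g * x⁻¹ = g * n) : ♯T * ♯(S ⊓ 𝐂[g]) = ♯S := by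
  have h1 : {y | ∃ x ∈ S, x * g * x⁻¹ = y} = (g * ·) '' T := by
    ext y
    exact ⟨fun ⟨x, hx, e⟩ => ⟨_, h x hx, by simp [← e]⟩, fun ⟨n, hn, e⟩ => e ▸ hs n hn⟩
  rw [← card_mul_relIndex (inf_le_left : S ⊓ 𝐂[g] ≤ S), ← ncard_class, h1,
    Set.ncard_image_of_injective _ (mul_right_injective g), mul_comm]
  rfl

theorem surj_of_card_le (h : ∀ x ∈ S, g⁻¹ * (x * g * x⁻¹) ∈ T) (hc : ♯T * ♯(S ⊓ 𝐂[g]) ≤ ♯S) :
    ∀ n ∈ T, ∃ x ∈ S, x * g * x⁻¹ = g * n := by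
  have h1 : {y | ∃ x ∈ S, x * g * x⁻¹ = y} = (g * ·) '' T := by
    refine Set.eq_of_subset_of_ncard_le (fun y ⟨x, hx, e⟩ => ⟨_, h x hx, by simp [← e]⟩) ?_
    rw [← card_mul_relIndex (inf_le_left : S ⊓ 𝐂[g] ≤ S), mul_comm] at hc
    rw [Set.ncard_image_of_injective _ (mul_right_injective g), ncard_class]
    exact Nat.le_of_mul_le_mul_left hc Nat.card_pos
  exact fun n hn => (h1.ge ⟨n, hn, rfl⟩ :)

/-- Camina pair -/
structure Cam (H N : Subgroup G) : Prop where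
  normal : N ⊴ H
  conj : ∀ g ∈ H, g ∉ N → ∀ n ∈ N, ∃ x ∈ H, x * g * x⁻¹ = g * n

/-- the centralizer in `H` of `g` modulo `N` -/
def cm (H N : Subgroup G) (g : G) : Subgroup G := H ⊓ quoPre N 𝐂[coset N g]

theorem mem_cm (hN : N ⊴ H) (hg : g ∈ H) {x : G} :
    x ∈ cm H N g ↔ x ∈ H ∧ g⁻¹ * (x * g * x⁻¹) ∈ N := by
  rw [cm, mem_inf]
  refine and_congr_right fun hx => ?_
  rw [mem_quoPre, and_iff_right (hN.2 hx), mem_cent1_iff_conj,
    ← coset_conj (hN.2 hx) (hN.2 hg), eq_comm,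
    coset_eq_iff (hN.2 hg) (hN.2 (mul_mem (mul_mem hx hg) (inv_mem hx)))]

theorem normalIn_cm (hN : N ⊴ H) (g : G) : N ⊴ cm H N g :=
  ⟨le_inf hN.1 (le_quoPre _), inf_le_left.trans hN.2⟩

namespace Cam

theorem card_cm (h : Cam H N) (hg : g ∈ H) (hgN : g ∉ N) : ♯N * ♯(cm H N g ⊓ 𝐂[g]) = ♯(cm H N g) :=
  card_eq_of_surj (fun _ hx => ((mem_cm h.normal hg).1 hx).2) fun n hn => by
    obtain ⟨x, hx, e⟩ := h.conj g hg hgN n hn
    exact ⟨x, (mem_cm h.normal hg).2 ⟨hx, by rwa [e, inv_mul_cancel_left]⟩, e⟩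

theorem orderOf_dvd (h : Cam H N) (hg : g ∈ H) (hgN : g ∉ N) (hn : n ∈ N) (hc : Commute g n) :
    orderOf n ∣ orderOf g := by
  obtain ⟨x, -, e⟩ := h.conj g hg hgN n hn
  have := pow_orderOf_eq_one (x * g * x⁻¹)
  rw [OO.orderOf_conj, e, hc.mul_pow, pow_orderOf_eq_one, one_mul] at this
  exact orderOf_dvd_of_pow_eq_one this

theorem restrict (h : Cam H N) (hK : IsProd N K H) : Cam K (K ⊓ N) := by
  refine ⟨⟨inf_le_left, le_norm_inf le_normalizer (hK.right_le.trans h.normal.2)⟩, fun g hg hgN n hn => ?_⟩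
  have hg' := hK.right_le hg
  have hgN' : g ∉ N := fun h => hgN ⟨hg, h⟩
  have hN := normalIn_cm h.normal g
  obtain ⟨x, hx, e⟩ := surj_of_card_le (S := K ⊓ cm H N g) (T := K ⊓ N) (fun x hx =>
    ⟨K.mul_mem (K.inv_mem hg) (K.mul_mem (K.mul_mem hx.1 hg) (K.inv_mem hx.1)),
      ((mem_cm h.normal hg').1 hx.2).2⟩)
    (by
      have h1 := (hK.inf_of_left_le hN.1).card
      have h2 : cm H N g ≤ H := inf_le_left
      rw [inf_eq_right.2 h2, ← h.card_cm hg' hgN', mul_assoc, ← inf_assoc,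
        inf_eq_left.2 (inf_le_left.trans hN.1), inf_comm N] at h1
      rw [Nat.eq_of_mul_eq_mul_left Nat.card_pos h1, mul_comm]
      exact Nat.mul_le_mul_right _ (card_le_of_le (inf_le_inf_right _ inf_le_right))) n hn
  exact ⟨x, hx.1, e⟩

/-- if `q` divides `|N|` and `|H : N|`, then `H / N` has a noncyclic abelian `q`-subgroup -/
theorem exists_not_isCyclic [hq : Fact q.Prime] (h : Cam H N) (h1 : q ∣ ♯N) (h2 : q ∣ N.relIndex H) :
    ∃ E ≤ H ⁒ N, IsPGroup q E ∧ Ab E ∧ ¬ IsCyclic E := by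
  by_contra! hc
  have hN := h.normal
  obtain ⟨z, hz, ho⟩ := cauchy hq.out (by rwa [card_quo hN.2] : q ∣ ♯(H ⁒ N))
  have hzp : IsPGroup q (zpowers z) := .of_card (by rw [Nat.card_zpowers, ho, pow_one])
  obtain ⟨Z, hZ, -, hZp, e⟩ := exists_isPGroup_quo_eq (zpowers_le.2 hz) hzp
  obtain ⟨g, hgZ, -, rfl⟩ := mem_quo.1 (e.ge (mem_zpowers z))
  have hg := hZ hgZ
  have hgN : g ∉ N := fun h => hq.out.ne_one (by rw [← ho, coset_eq_one h, orderOf_one])
  have hN' := normalIn_cm hN g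
  obtain ⟨S, hS, hgS⟩ := exists_syl_ge (Q := zpowers g) (M := cm H N g)
    (zpowers_le.2 ((mem_cm hN hg).2 ⟨hg, by simp⟩)) (hZp.to_le (zpowers_le.2 hgZ))
  replace hgS := zpowers_le.1 hgS
  have hT := hS.inf_normal hN'
  have hSH : S ≤ H := hS.le.trans inf_le_left
  have hTS : S ≤ 𝐍(S ⊓ N) := le_norm_inf le_normalizer (hSH.trans hN.2)
  refine (commutator_lt_of_isPGroup hS.isPGroup hT.isPGroup hTS (hT.ne_bot h1)).not_ge fun n hn => ?_
  obtain ⟨c, hc1, e⟩ := surj_of_card_le (S := S) (T := S ⊓ N) (fun x hx =>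
    ⟨S.mul_mem (S.inv_mem hgS) (S.mul_mem (S.mul_mem hx hgS) (S.inv_mem hx)), ((mem_cm hN hg).1 (hS.le hx)).2⟩)
    (by
      rw [hS.card_eq_partn, ← h.card_cm hg hgN, partn_mul _ Nat.card_pos.ne' Nat.card_pos.ne',
        hT.card_eq_partn]
      exact Nat.mul_le_mul_left _ (Nat.le_of_dvd (partn_pos _ _) (dvd_partn Nat.card_pos.ne'
        (card_dvd_of_le (inf_le_inf_right _ hS.le)) (piGrp_singleton (hS.isPGroup.to_le inf_le_left)))))
    n hn
  rw [eq_inv_mul_iff_mul_eq.2 e.symm]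
  by_cases hcN : c ∈ N
  · have := commutator_mem_commutator (inv_mem hgS) (mem_inf.2 ⟨hc1, hcN⟩)
    rw [commutator_comm, commutatorElement_def, inv_inv] at this
    simpa [mul_assoc] using this
  have hc' := hSH hc1
  have hcp : IsPGroup q (zpowers (coset N c)) := by
    rw [← quo_zpowers (hN.2 hc')]; exact isPGroup_quo (hS.isPGroup.to_le (zpowers_le.2 hc1)) N
  have hcc : zpowers (coset N c) ≤ 𝐂(zpowers (coset N g)) := by
    rw [zpowers_le, ← le_cent1_iff, zpowers_le, mem_cent1_comm]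
    exact (mem_quoPre.1 (hS.le hc1).2).2
  have := hc _ (sup_le (zpowers_le.2 (coset_mem_quo N hc')) (zpowers_le.2 hz))
    (isPGroup_sup hcp hzp (.inl (hcc.trans (cent_le_norm _)))) (ab_sup inferInstance inferInstance hcc)
  obtain ⟨k, hk⟩ := mem_zpowers_iff.1 (PGrp.le_of_card_dvd_of_isCyclic (A := zpowers (coset N g))
    (B := zpowers (coset N c)) le_sup_right le_sup_left (by
      rw [Nat.card_zpowers, ho]
      exact (hcp.card_eq_or_dvd.resolve_left fun e => hcN ((coset_eq_one_iff (hN.2 hc')).1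
        (zpowers_eq_bot.1 (card_eq_one.1 e))))) (mem_zpowers _))
  rw [← coset_zpow (hN.2 hc'), coset_eq_iff (hN.2 (zpow_mem hc' k)) (hN.2 hg)] at hk
  have := commutator_mem_commutator (inv_mem (mem_inf.2 ⟨mul_mem (inv_mem (zpow_mem hc1 k)) hgS, hk⟩)) hc1
  convert this using 1
  rw [commutatorElement_def]
  group

/-- a noncyclic abelian `q`-subgroup of `H / N` cannot act -/
theorem isCyclic_of_action [hq : Fact q.Prime] (h : Cam H N) (hK : IsProd N K H) (hV : V ≤ N)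
    (hV1 : V ≠ ⊥) (hqV : ¬ q ∣ ♯V) (hn : K ≤ 𝐍(V))
    (hc : ∀ T ≤ K ⊓ N, IsPGroup q T → T ≤ 𝐂(V)) {E : Subgroup (Coset N)} (hE : E ≤ H ⁒ N)
    (hEp : IsPGroup q E) (hab : Ab E) : IsCyclic E := by
  have hN := h.normal
  rw [← hK.sup_eq, quo_self_sup (hK.right_le.trans hN.2)] at hE
  obtain ⟨S, hS, -, hSp, rfl⟩ := exists_isPGroup_quo_eq hE hEp
  have hSH := hS.trans hK.right_le
  have hTS : S ≤ 𝐍(S ⊓ N) := le_norm_inf le_normalizer (hSH.trans hN.2)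
  have hTV := hc (S ⊓ N) (inf_le_inf_right N hS) (hSp.to_le inf_le_left)
  have hVT : V ≤ 𝐍(S ⊓ N) := (le_centralizer_iff.1 hTV).trans (cent_le_norm _)
  have hco : (♯V).Coprime ♯S := by
    obtain ⟨k, hk⟩ := hSp.exists_card_eq
    rw [hk]; exact (hq.out.coprime_iff_not_dvd.2 hqV).symm.pow_right k
  rw [isCyclic_quo_iff (hSH.trans hN.2)]
  suffices IsCyclic (S ⁒ (S ⊓ N) : Subgroup _) by
    obtain ⟨x, hx, h1⟩ := (isCyclic_quo_iff hTS).1 this
    exact ⟨x, hx, h1.trans (sup_le_sup_left inf_le_right _)⟩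
  by_contra hnc
  have hVS : V ⊓ S = ⊥ := (disjoint_of_coprime_natCard hco).eq_bot
  refine quo_ne_bot hVT (fun h => hV1 (eq_bot_iff.2 (hVS ▸ le_inf le_rfl (h.trans inf_le_left))))
    (eq_bot_iff.2 (coprime_abelian_gen_cent1 (ab_quo_of_der_le (le_inf (der_le S)
      ((ab_quo_iff (hSH.trans hN.2)).1 hab))) hnc (quo_le_norm _ (hS.trans hn)) (coprime_quo hco _ _)
      fun a ha h1 z hz => ?_))
  obtain ⟨s, hs, hs', rfl⟩ := mem_quo.1 ha
  obtain ⟨v, hv, hv', rfl⟩ := mem_quo.1 hz.1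
  have h2 : ⁅v, s⁆ ∈ V ⊓ S := ⟨commutator_le_left' (hS.trans hn) (commutator_mem_commutator hv hs),
    ((coset_commute_iff hv' hs').1 (mem_cent1.1 hz.2)).1⟩
  rw [hVS, mem_bot, commutatorElement_eq_one_iff_commute] at h2
  have h3 := h.orderOf_dvd (hSH hs) (fun h => h1 (coset_eq_one ⟨hs, h⟩)) (hV hv) h2.symm
  rw [orderOf_eq_one_iff.1 ((hco.coprime_dvd_left (OO.orderOf_dvd_card hv)).eq_one_of_dvd
    (h3.trans (OO.orderOf_dvd_card hs))), coset_one]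
  exact one_mem _

/-- Camina's theorem -/
theorem trichotomy (h : Cam H N) (h1 : N ≠ ⊥) (h2 : N ≠ H) :
    (∀ x ∈ N, x ≠ 1 → H ⊓ 𝐂[x] ≤ N) ∨ IsPrimePow ♯N ∨ IsPrimePow (N.relIndex H) := by
  induction hH : ♯H using Nat.strong_induction_on generalizing H N with
  | _ k ih =>
  have hN := h.normal
  have two : ∀ {m : ℕ}, m ≠ 0 → m ≠ 1 → ¬ IsPrimePow m → ∀ r, ∃ p, p.Prime ∧ p ∣ m ∧ p ≠ r :=
    fun {m} h0 h1 h r => by
      by_contra! hc
      obtain ⟨p, hp, hd⟩ := Nat.exists_prime_and_dvd h1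
      exact h ((isPrimePow_iff_unique_prime_dvd).2 ⟨p, ⟨hp, hd⟩, fun q hq => by
        rw [hc q hq.1 hq.2, hc p hp hd]⟩)
  by_contra! hc
  obtain ⟨⟨x, hx, hx1, hxC⟩, hp1, hp2⟩ := hc
  have main : ∀ (p : ℕ) (_ : p.Prime) (K V : Subgroup G), p ∣ ♯N → p ∣ N.relIndex H → IsProd N K H → V ≤ N →
      V ≠ ⊥ → ¬ p ∣ ♯V → K ≤ 𝐍(V) → ¬ ∀ T ≤ K ⊓ N, IsPGroup p T → T ≤ 𝐂(V) :=
    fun p hp K V a1 a2 a3 a4 a5 a6 a7 a8 => by
      have := Fact.mk hp
      obtain ⟨E, e1, e2, e3, e4⟩ := h.exists_not_isCyclic a1 a2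
      exact e4 (h.isCyclic_of_action a3 a4 a5 a6 a7 a8 e1 e2 e3)
  by_cases hnil : Nil N
  · obtain ⟨g, hg, hgN⟩ := SetLike.not_le_iff_exists.1 hxC
    obtain ⟨q, hq, -, hgq⟩ : ∃ q, q.Prime ∧ q ∣ orderOf g ∧ constt {q} g ∉ N := by
      by_contra! hc
      exact hgN (mem_of_forall_constt_mem hc)
    have := Fact.mk hq
    have hg' := constt_mem {q} hg.1
    have h3 := h.orderOf_dvd hg' hgq hx (mem_cent1.1 (cent1_le_cent1_constt {q} g
      (mem_cent1_comm.1 hg.2))).symm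
    have h4 := piElt_constt {q} g
    have h5 : q ∣ ♯N := by
      obtain ⟨r, hr, hd⟩ := Nat.exists_prime_and_dvd (orderOf_eq_one_iff.not.2 hx1)
      exact (h4 r hr (hd.trans h3) : r = q) ▸ hd.trans (OO.orderOf_dvd_card hx)
    have h6 : q ∣ N.relIndex H := by
      obtain ⟨r, hr, hd⟩ := Nat.exists_prime_and_dvd (orderOf_eq_one_iff.not.2
        ((coset_eq_one_iff (hN.2 hg')).not.2 hgq))
      rw [← card_quo hN.2]
      exact (h4 r hr (hd.trans (orderOf_coset_dvd _ _)) : r = q) ▸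
        hd.trans (OO.orderOf_dvd_card (coset_mem_quo N hg'))
    obtain ⟨r, hr, hd, hrq⟩ := two Nat.card_pos.ne' (card_eq_one.not.2 h1) hp1 q
    have := Fact.mk hr
    obtain ⟨R, hR⟩ := exists_syl r N
    have h7 : ∀ T : Subgroup G, IsPGroup q T → (♯T).Coprime ♯R := fun T hT =>
      IsPGroup.coprime_card_of_ne q r hrq.symm _ _ hT hR.isPGroup
    refine main q hq H R h5 h6 (.of_forall hN.1 le_rfl fun x hx => ⟨1, one_mem _, x, hx, one_mul _⟩) hR.le
      (hR.ne_bot hd) (fun hd => ?_) (hN.2.trans (hR.norm_le_norm_of_normal (hR.norm_of_nil hnil)))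
      fun T hT hTp => le_cent_of_nil_of_coprime hnil (hT.trans inf_le_right) hR.le (h7 T hTp)
    obtain ⟨k, hk⟩ := hR.isPGroup.exists_card_eq
    exact hrq ((Nat.prime_dvd_prime_iff_eq hq hr).1 (hq.dvd_of_dvd_pow (hk ▸ hd))).symm
  · obtain ⟨r, hr, R, hR, hRn⟩ : ∃ (r : ℕ) (_ : Fact r.Prime) (R : Subgroup G), Syl r R N ∧ ¬ N ≤ 𝐍(R) := by
      by_contra! hc
      exact hnil (nil_iff_syl_normal.2 hc)
    have hR1 : R ≠ ⊥ := by rintro rfl; exact hRn (by rw [normalizer_eq_top]; exact le_top)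
    have hK := hR.frattini hN
    obtain ⟨p, hp, hd, hpr⟩ := two (relIndex_pos N H).ne'
      (fun e => h2 (le_antisymm hN.1 (relIndex_eq_one.1 e))) hp2 r
    have := Fact.mk hp
    have hpN : p ∣ ♯N := by_contra fun hpN => by
      obtain ⟨y, hy, ho⟩ := cauchy hp (hd.trans (relIndex_dvd_card N H))
      have hyN : y ∉ N := fun h => hpN (ho ▸ OO.orderOf_dvd_card h)
      refine hnil (prime_Frobenius_sol_kernel_nil (zpowers_le.2 (hN.2 hy)) (by rwa [Nat.card_zpowers, ho])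
        (eq_bot_iff.2 fun n hn => mem_bot.2 ?_))
      have h3 := h.orderOf_dvd hy hyN hn.1 (mem_cent_iff.1 hn.2 y (mem_zpowers y))
      rw [ho, Nat.dvd_prime hp] at h3
      exact orderOf_eq_one_iff.1 (h3.resolve_right fun e => hpN (e ▸ OO.orderOf_dvd_card hn.1))
    have hRK : R ≤ H ⊓ 𝐍(R) ⊓ N := le_inf (le_inf (hR.le.trans hN.1) le_normalizer) hR.le
    have hi : (H ⊓ 𝐍(R) ⊓ N).relIndex (H ⊓ 𝐍(R)) = N.relIndex H := by
      rw [inf_relIndex_left, hK.symm.relIndex_eq]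
    have hpK : ¬ p ∣ ♯(H ⊓ 𝐍(R) ⊓ N) := fun hpK => by
      rcases ih _ (hH ▸ card_lt (lt_of_le_of_ne inf_le_left fun e => hRn (hN.1.trans (e.ge.trans
        inf_le_right)))) (h.restrict hK) (fun e => hR1 (eq_bot_iff.2 (e ▸ hRK))) (fun e => h2
          (le_antisymm hN.1 (hK.sup_eq ▸ sup_le le_rfl (e.ge.trans inf_le_right)))) rfl with h3 | h3 | h3
      · obtain ⟨Y, hY⟩ := Frobenius_kerP.2 ⟨fun e => hR1 (eq_bot_iff.2 (e ▸ hRK)), lt_of_le_of_ne inf_le_left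
          fun e => h2 (le_antisymm hN.1 (hK.sup_eq ▸ sup_le le_rfl (e.ge.trans inf_le_right))),
          (h.restrict hK).normal, h3⟩
        exact hp.ne_one ((hY.coprime.coprime_dvd_left hpK).eq_one_of_dvd
          (by rwa [← hY.sdprod.relIndex_left, hi]))
      · exact hpr ((isPrimePow_iff_unique_prime_dvd.1 h3).unique ⟨hp, hpK⟩ ⟨hr.out,
          (hR.isPGroup.card_eq_or_dvd.resolve_left (card_eq_one.not.2 hR1)).trans (card_dvd_of_le hRK)⟩)
      · exact hp2 (hi ▸ h3)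
    refine main p hp _ R hpN hd hK hR.le hR1 (fun h => hpK (h.trans (card_dvd_of_le hRK))) inf_le_right
      fun T hT hTp => ?_
    rw [card_eq_one.1 (hTp.card_eq_or_dvd.resolve_right fun h => hpK (h.trans (card_dvd_of_le hT)))]
    exact bot_le

end Cam

end Cfsg.Agent.Camina
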