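import Mathlib
import Cfsg.Agent.Lib.Cls.Split
import Cfsg.Agent.Lib.Core.MinNormal
import Cfsg.Agent.Lib.OO.Final

/-!
# Cls/Chain: groups whose class sizes are `1`, `m`, `m n` with `m`, `n` coprime: `m` is a prime power
-/

set_option autoImplicit false
set_option linter.unusedSectionVars false

namespace Cfsg.Agent.Chain

open Cfsg Subgroup Cfsg.Agent.Coprime Cfsg.Agent.Split
open scoped commutatorElement

local notation "𝐂[" x "]" => Subgroup.centralizer ({x} : Set _)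

variable {G : Type*} [Group G] [Finite G] {m n : ℕ}

/-- The class sizes are `1`, `m`, `m n`. -/
structure Hyp (G : Type*) [Group G] (m n : ℕ) : Prop where
  hm : 1 < m
  hn : 1 < n
  cop : m.Coprime n
  idx : ∀ x : G, x ∉ center G → 𝐂[x].index = m ∨ 𝐂[x].index = m * n
  ex1 : ∃ x : G, 𝐂[x].index = m
  ex2 : ∃ x : G, 𝐂[x].index = m * n

theorem not_mem_center_of_le {x y : G} (hx : x ∉ center G) (h : 𝐂[y] ≤ 𝐂[x]) : y ∉ center G :=
  fun hy => hx (Cls.centralizer_single_eq_top_iff.mp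
    (top_le_iff.mp ((Cls.centralizer_single_eq_top_iff.mpr hy).symm.le.trans h)))

theorem not_mem_center_of_not_mem {x g : G} (h : g ∉ 𝐂[x]) : g ∉ center G :=
  fun hg => h (Cls.center_le_centralizer_single x hg)

theorem mem_comm {x y : G} (h : x ∈ 𝐂[y]) : y ∈ 𝐂[x] :=
  Cls.mem_centralizer_single.mpr (Cls.mem_centralizer_single.mp h).symm

namespace Hyp

variable {p : ℕ} [hp : Fact p.Prime]

theorem not_dvd_n (h : Hyp G m n) (hpm : p ∣ m) : ¬ p ∣ n := fun h' =>
  hp.out.one_lt.ne' (Nat.eq_one_of_dvd_coprimes h.cop hpm h')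

theorem m_dvd (h : Hyp G m n) {x : G} (hx : x ∉ center G) : m ∣ 𝐂[x].index := by
  rcases h.idx x hx with e | e <;> rw [e]
  exact Dvd.intro _ rfl

theorem fact (h : Hyp G m n) (hpm : p ∣ m) {x : G} (hx : x ∉ center G) :
    𝐂[x].index.factorization p = m.factorization p := by
  rcases h.idx x hx with e | e <;> rw [e]
  rw [Nat.factorization_mul (by have := h.hm; omega) (by have := h.hn; omega)]
  simp [Nat.factorization_eq_zero_of_not_dvd (h.not_dvd_n hpm)]

theorem sylow_of_le (h : Hyp G m n) (hpm : p ∣ m) {x z : G} (hx : x ∉ center G)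
    (hz : z ∉ center G) {Q : Subgroup G} (hQ : IsSylowIn p Q 𝐂[x]) (hle : Q ≤ 𝐂[z]) :
    IsSylowIn p Q 𝐂[z] :=
  isSylowIn_of_factorization hQ hle ((h.fact hpm hx).trans (h.fact hpm hz).symm)

theorem mem_center_of_sylow_le (h : Hyp G m n) (hpm : p ∣ m) {P : Subgroup G}
    (hP : IsSylowIn p P ⊤) {x : G} (hle : P ≤ 𝐂[x]) : x ∈ center G := by
  by_contra hx
  exact not_dvd_index_of_isSylowIn_le hP hle (hpm.trans (h.m_dvd hx))

/-- Every centralizer contains a noncentral `p`-element. -/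
theorem exists_noncentral (h : Hyp G m n) (hpm : p ∣ m) {x : G} (hx : x ∉ center G) :
    ∃ u ∈ 𝐂[x], (∃ k, orderOf u = p ^ k) ∧ u ∉ center G := by
  by_contra hcon
  push Not at hcon
  obtain ⟨Q, hQ⟩ := exists_isSylowIn p 𝐂[x]
  have hQZ : Q ≤ center G := fun u hu =>
    hcon u (hQ.1 hu) (Core.exists_orderOf_eq_pow_of_mem hQ.2.1 hu)
  obtain ⟨P, hP⟩ := exists_isSylowIn p (⊤ : Subgroup G)
  have : ¬ P ≤ 𝐂[x] := fun hle => hx (h.mem_center_of_sylow_le hpm hP hle)
  obtain ⟨y, hyP, hy⟩ := SetLike.not_le_iff_exists.mp this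
  have hyZ := not_mem_center_of_not_mem hy
  have hQ' := h.sylow_of_le hpm hx hyZ hQ (hQZ.trans (Cls.center_le_centralizer_single y))
  have := Core.normal_of_le_center hQZ
  exact hyZ (hQZ (mem_of_isSylowIn_of_mem_normalizer hQ' (Cls.self_mem_centralizer_single y)
    (Core.exists_orderOf_eq_pow_of_mem hP.2.1 hyP) (by rw [normalizer_eq_top]; exact mem_top _)))

/-- The relative index of two nested centralizers of noncentral elements. -/
theorem relIndex_eq (h : Hyp G m n) {b c : G} (hb : b ∉ center G) (hle : 𝐂[c] ≤ 𝐂[b]) :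
    𝐂[c].relIndex 𝐂[b] = 1 ∨ 𝐂[c].relIndex 𝐂[b] = n := by
  have h1 := relIndex_mul_index hle
  have hm := h.hm
  have hn := h.hn
  rcases h.idx b hb with e | e <;> rcases h.idx c (not_mem_center_of_le hb hle) with e' | e' <;>
    rw [e, e'] at h1
  · left; exact Nat.eq_of_mul_eq_mul_right (by omega) (h1.trans (one_mul m).symm)
  · right; exact Nat.eq_of_mul_eq_mul_right (by omega) (h1.trans (mul_comm m n))
  · exfalso
    have h2 : m * n ∣ m := Dvd.intro_left _ h1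
    have := Nat.le_of_dvd (by omega) h2
    nlinarith
  · left; exact Nat.eq_of_mul_eq_mul_right (by positivity) (h1.trans (one_mul _).symm)

theorem relIndex_of_commute (h : Hyp G m n) {b v : G} (hb : b ∉ center G) (hv : v ∈ 𝐂[b])
    (hc : (orderOf b).Coprime (orderOf v)) :
    𝐂[v].relIndex 𝐂[b] = 1 ∨ 𝐂[v].relIndex 𝐂[b] = n := by
  have e := Cls.centralizer_single_mul (Cls.mem_centralizer_single_commute.mp hv).symm hc
  have := h.relIndex_eq (c := b * v) hb (e ▸ inf_le_left)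
  rwa [e, inf_relIndex_left] at this

theorem not_dvd_relIndex (h : Hyp G m n) (hpm : p ∣ m) {b v : G} (hb : b ∉ center G)
    (hv : v ∈ 𝐂[b]) (hc : (orderOf b).Coprime (orderOf v)) : ¬ p ∣ 𝐂[v].relIndex 𝐂[b] := by
  rcases h.relIndex_of_commute hb hv hc with e | e <;> rw [e]
  · exact hp.out.one_lt.ne' ∘ Nat.dvd_one.mp
  · exact h.not_dvd_n hpm

theorem exists_split (h : Hyp G m n) (hpm : p ∣ m) {b : G} (hb : b ∉ center G)
    (ho : ∃ k, orderOf b = p ^ k) : ∃ B H : Subgroup G, IsSplit p 𝐂[b] B H := by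
  obtain ⟨k, hk⟩ := ho
  exact exists_isSplit fun v hv hc => h.not_dvd_relIndex hpm hb hv (hk ▸ coprime_pow_of_coprime hc)

/-- For two primes `s ≠ t` dividing `m`, the `t`-elements of the centralizer of a noncentral
`s`-element are central in it. -/
theorem le_centralizer (h : Hyp G m n) {s t : ℕ} [hs : Fact s.Prime] [ht : Fact t.Prime]
    (hsm : s ∣ m) (htm : t ∣ m) (hst : s ≠ t) {c d : G} (hc : c ∉ center G)
    (hoc : ∃ k, orderOf c = s ^ k) (hd : d ∈ 𝐂[c]) (hod : ∃ k, orderOf d = t ^ k) :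
    𝐂[c] ≤ 𝐂[d] := by
  obtain ⟨B, H, hS⟩ := h.exists_split hsm hc hoc
  obtain ⟨k, hk⟩ := hoc
  have key : ∀ v ∈ 𝐂[c], (orderOf v).Coprime s → ∃ T, IsSylowIn t T 𝐂[c] ∧ T ≤ 𝐂[v] := by
    intro v hv hov
    have h1 := h.not_dvd_relIndex htm hc hv (hk ▸ coprime_pow_of_coprime hov)
    obtain ⟨T, hT⟩ := exists_isSylowIn t (𝐂[v] ⊓ 𝐂[c])
    exact ⟨T, hT.trans inf_le_right (by rwa [inf_relIndex_right]), hT.1.trans inf_le_left⟩
  obtain ⟨B', H', hS'⟩ := exists_isSplit (p := t) (C := 𝐂[c]) (by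
    intro x hx _
    obtain ⟨u, hu, v, hv, rfl⟩ := hS.exists_mul hx
    obtain ⟨T, hT, hTv⟩ := key v (hS.H_le hv) ((hS.memH v).mp hv).2
    have hTu : T ≤ 𝐂[u] := (hS.le_H_of_isPGroup hst.symm hT.1 hT.2.1).trans (hS.H_le_centralizer hu)
    have hle : T ≤ 𝐂[u * v] := fun g hg => Cls.mem_centralizer_single_commute.mpr
      ((Cls.mem_centralizer_single_commute.mp (hTu hg)).mul_right
        (Cls.mem_centralizer_single_commute.mp (hTv hg)))
    exact fun hdvd => hT.2.2 (hdvd.trans (relIndex_dvd_of_le_left _ hle)))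
  obtain ⟨j, hj⟩ := hod
  obtain ⟨T, hT, hTd⟩ := key d hd (hj ▸ coprime_of_ne_prime ht.out hst.symm)
  have hTB : B' = T := hT.eq_of_le (hS'.le_B hT.1 hT.2.1) hS'.B_le hS'.isPGroup
  exact hS'.le_of (hTB ▸ hTd) (hS'.H_le_centralizer ((hS'.memB d).mpr ⟨hd, j, hj⟩))

end Hyp

/-- The configuration of a Sylow `s`-subgroup `D` of `C` with `C(d) = C` for noncentral `d ∈ D`. -/
structure Cfg (s : ℕ) (C D : Subgroup G) : Prop where
  mem : ∀ u, u ∈ D ↔ u ∈ C ∧ ∃ k, orderOf u = s ^ k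
  le : ∀ d ∈ D, C ≤ 𝐂[d]
  eq : ∀ d ∈ D, d ∉ center G → 𝐂[d] = C
  not_le : ¬ D ≤ center G
  dvd : s ∣ C.index

namespace Cfg

variable {s : ℕ} [hs : Fact s.Prime] {C D : Subgroup G}

theorem D_le (h : Cfg s C D) : D ≤ C := fun u hu => ((h.mem u).mp hu).1

theorem isPGroup (h : Cfg s C D) : IsPGroup s D :=
  Core.isPGroup_of_forall_mem fun x hx => by
    obtain ⟨k, hk⟩ := ((h.mem x).mp hx).2
    exact ⟨k, by rw [← hk, pow_orderOf_eq_one]⟩

theorem comm (h : Cfg s C D) : IsMulCommutative D :=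
  Core.isMulCommutative_of_forall fun _ ha b hb =>
    Cls.mem_centralizer_single.mp (h.le b hb (h.D_le ha))

theorem centralizer_eq (h : Cfg s C D) : centralizer (D : Set G) = C := by
  apply le_antisymm
  · obtain ⟨d, hd, hdZ⟩ := SetLike.not_le_iff_exists.mp h.not_le
    rw [← h.eq d hd hdZ]
    exact centralizer_le (Set.singleton_subset_iff.mpr hd)
  · intro c hc d hd
    exact (Cls.mem_centralizer_single.mp (h.le d hd hc)).symm

theorem normalizer_le (h : Cfg s C D) : normalizer (C : Set G) ≤ normalizer (D : Set G) := by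
  intro g hg
  rw [mem_normalizer_iff] at hg ⊢
  intro x
  rw [h.mem, h.mem, hg x]
  have : orderOf (g * x * g⁻¹) = orderOf x := by
    have := (MulAut.conj g).orderOf_eq x
    simpa using this
  rw [this]

theorem mem_center (h : Cfg s C D) {d g : G} (hd : d ∈ D) (hg : g ∉ C) (hc : g ∈ 𝐂[d]) :
    d ∈ center G := by
  by_contra hZ
  exact hg (h.eq d hd hZ ▸ hc)

theorem exists_elt (h : Cfg s C D) :
    ∃ g ∈ normalizer (C : Set G), g ∉ C ∧ ∃ k, orderOf g = s ^ k := by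
  obtain ⟨S, hS, hDS⟩ := exists_isSylowIn_ge le_top h.isPGroup
  have hne : D ≠ S := fun e => not_dvd_index_of_isSylowIn_le hS (e ▸ h.D_le) h.dvd
  obtain ⟨g, hg, hgD⟩ := SetLike.exists_of_lt (PGrp.lt_inf_normalizer hS.2.1 (lt_of_le_of_ne hDS hne))
  have ho := Core.exists_orderOf_eq_pow_of_mem hS.2.1 (mem_inf.mp hg).1
  refine ⟨g, ?_, fun hC => hgD ((h.mem g).mpr ⟨hC, ho⟩), ho⟩
  rw [← h.centralizer_eq]
  exact Core.le_normalizer_centralizer le_rfl (mem_inf.mp hg).2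

theorem key (h : Cfg s C D) {K : Subgroup G} (hK : K ≤ normalizer (C : Set G))
    (hn : normalizer (C : Set G) ≤ normalizer (K : Set G)) (hKC : ¬ K ≤ C)
    (hpow : ∀ k ∈ K, ∃ j : ℕ, j.Coprime s ∧ k ^ j ∈ C) : False := by
  have hKD := hK.trans h.normalizer_le
  obtain ⟨a, ha⟩ := h.isPGroup.exists_card_eq
  have h1 := inf_centralizer_inf_commutator_eq_bot h.comm hKD (by
    intro k hk
    obtain ⟨j, hj, hkj⟩ := hpow k hk
    exact ⟨j, ha ▸ hj.pow_right a, h.centralizer_eq.symm ▸ hkj⟩)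
  have h2 : ⁅D, K⁆ ≠ ⊥ := fun e =>
    hKC (h.centralizer_eq ▸ commutator_eq_bot_iff_le_centralizer'.mp e)
  obtain ⟨g, hgN, hgC, k, hk⟩ := h.exists_elt
  have hle := commutator_le_of_le_normalizer hKD
  have h3 := PGrp.inf_centralizer_ne_bot (Core.isPGroup_zpowers_of_orderOf hk)
    (h.isPGroup.to_le hle) (Core.le_normalizer_commutator
      (zpowers_le.mpr (h.normalizer_le hgN)) (zpowers_le.mpr (hn hgN))) h2
  apply h3
  rw [eq_bot_iff, ← h1]
  intro e he
  obtain ⟨he1, he2⟩ := mem_inf.mp he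
  rw [Cls.centralizer_zpowers] at he2
  have := h.mem_center (hle he1) hgC (mem_comm he2)
  exact mem_inf.mpr ⟨mem_inf.mpr ⟨hle he1, center_le_centralizer _ this⟩, he1⟩

end Cfg

theorem not_two_cfg_of_odd {s t : ℕ} [hs : Fact s.Prime] [ht : Fact t.Prime] (hst : s ≠ t)
    {C D E : Subgroup G} (h1 : Cfg s C D) (h2 : Cfg t C E)
    (hodd : Odd (C.relIndex (normalizer (C : Set G)))) : False := by
  set N := normalizer (C : Set G) with hN
  have hsol : Group.IsSolvable (N ⧸ C.subgroupOf N) := OO.Feit_Thompson hodd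
  obtain ⟨g, hgN, hgC, -⟩ := h1.exists_elt
  have : Nontrivial (N ⧸ C.subgroupOf N) :=
    ⟨⟨((⟨g, hgN⟩ : N) : N ⧸ C.subgroupOf N), 1, fun e =>
      hgC ((QuotientGroup.eq_one_iff (N := C.subgroupOf N) _).mp e)⟩⟩
  obtain ⟨M, hM⟩ := Core.exists_isMinNormal (G := N ⧸ C.subgroupOf N)
  obtain ⟨r, hr, hMr⟩ := hM.exists_isPGroup inferInstance
  have := hM.normal
  set K := (M.comap (QuotientGroup.mk' (C.subgroupOf N))).map N.subtype with hKdef
  have hK : K ≤ N := map_subtype_le _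
  have hn : N ≤ normalizer (K : Set G) := Core.le_normalizer_map_subtype N _
  have hKC : ¬ K ≤ C := by
    intro hle
    apply hM.ne_bot
    rw [eq_bot_iff]
    intro x hx
    obtain ⟨x, rfl⟩ := QuotientGroup.mk_surjective x
    exact (QuotientGroup.eq_one_iff _).mpr (hle ⟨x, hx, rfl⟩)
  have hpow : ∀ k ∈ K, ∃ a : ℕ, k ^ r ^ a ∈ C := by
    rintro _ ⟨x, hx, rfl⟩
    obtain ⟨a, ha⟩ := hMr ⟨_, hx⟩
    refine ⟨a, ?_⟩
    have h3 : (QuotientGroup.mk' (C.subgroupOf N) x) ^ r ^ a = 1 := congrArg Subtype.val ha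
    rw [← map_pow] at h3
    exact (QuotientGroup.eq_one_iff (N := C.subgroupOf N) _).mp h3
  by_cases hrs : r = s
  · refine h2.key hK hn hKC fun k hk => ?_
    obtain ⟨a, ha⟩ := hpow k hk
    exact ⟨_, coprime_of_ne_prime hr (hrs ▸ hst), ha⟩
  · refine h1.key hK hn hKC fun k hk => ?_
    obtain ⟨a, ha⟩ := hpow k hk
    exact ⟨_, coprime_of_ne_prime hr hrs, ha⟩

/-- The elements of `N` acting trivially on `D` modulo the centre. -/
def triv (N D : Subgroup G) (h : N ≤ normalizer (D : Set G)) : Subgroup G where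
  carrier := {g | g ∈ N ∧ ∀ d ∈ D, d⁻¹ * (g * d * g⁻¹) ∈ center G}
  one_mem' := ⟨N.one_mem, fun d _ => by simp⟩
  mul_mem' := by
    rintro a b ⟨ha, ha'⟩ ⟨hb, hb'⟩
    refine ⟨N.mul_mem ha hb, fun d hd => ?_⟩
    have h1 := mem_center_iff.mp (hb' d hd) a
    have : d⁻¹ * (a * b * d * (a * b)⁻¹) = d⁻¹ * (a * d * a⁻¹) * (d⁻¹ * (b * d * b⁻¹)) := by
      calc d⁻¹ * (a * b * d * (a * b)⁻¹)
          = d⁻¹ * (a * d * a⁻¹) * ((a * (d⁻¹ * (b * d * b⁻¹))) * a⁻¹) := by group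
        _ = _ := by rw [h1]; group
    rw [this]
    exact mul_mem (ha' d hd) (hb' d hd)
  inv_mem' := by
    rintro a ⟨ha, ha'⟩
    refine ⟨N.inv_mem ha, fun d hd => ?_⟩
    have h1 := ha' _ (conj_mem_of_le_normalizer' h ha hd)
    have : d⁻¹ * (a⁻¹ * d * a⁻¹⁻¹) = ((a⁻¹ * d * a)⁻¹ * (a * (a⁻¹ * d * a) * a⁻¹))⁻¹ := by group
    rw [this]
    exact inv_mem h1

theorem pow_conj_of_central {g d z : G} (hz : z ∈ center G) (e : g * d * g⁻¹ = d * z) (j : ℕ) :
    g ^ j * d * (g ^ j)⁻¹ = d * z ^ j := by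
  induction j with
  | zero => simp
  | succ j ih =>
    have h1 := mem_center_iff.mp (pow_mem hz j) g
    calc g ^ (j + 1) * d * (g ^ (j + 1))⁻¹ = g * (g ^ j * d * (g ^ j)⁻¹) * g⁻¹ := by
          rw [pow_succ']; group
      _ = g * d * g⁻¹ * (g * z ^ j * g⁻¹) := by rw [ih]; group
      _ = d * z ^ (j + 1) := by rw [e, h1, pow_succ']; group

theorem pow_eq_one_of_central {g d z : G} (hz : z ∈ center G) (e : g * d * g⁻¹ = d * z) {j : ℕ}
    (hj : d ^ j ∈ center G) : z ^ j = 1 := by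
  have h1 : (g * d * g⁻¹) ^ j = d ^ j := by
    rw [conj_pow, mem_center_iff.mp hj g]; group
  rw [e, (show Commute d z from mem_center_iff.mp hz d).mul_pow] at h1
  simpa using h1

theorem not_two_cfg_of_even {s t : ℕ} [hs : Fact s.Prime] [ht : Fact t.Prime] (hst : s ≠ t)
    (ht2 : t ≠ 2) {C D E : Subgroup G} (h1 : Cfg s C D) (h2 : Cfg t C E)
    (heven : Even (C.relIndex (normalizer (C : Set G)))) : False := by
  set N := normalizer (C : Set G) with hN
  obtain ⟨i, hi⟩ := exists_prime_orderOf_dvd_card' (G := N ⧸ C.subgroupOf N) 2 heven.two_dvd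
  obtain ⟨⟨i, hiN⟩, rfl⟩ := QuotientGroup.mk_surjective i
  have hiC : i ∉ C := by
    intro hC
    have : ((⟨i, hiN⟩ : N) : N ⧸ C.subgroupOf N) = 1 := (QuotientGroup.eq_one_iff _).mpr hC
    rw [this, orderOf_one] at hi
    omega
  have hi2 : i ^ 2 ∈ C := by
    have h3 := pow_orderOf_eq_one ((⟨i, hiN⟩ : N) : N ⧸ C.subgroupOf N)
    rw [hi, ← QuotientGroup.mk_pow] at h3
    exact (QuotientGroup.eq_one_iff (N := C.subgroupOf N) _).mp h3
  have hNE := h2.normalizer_le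
  have hinv : ∀ d ∈ E, d * (i * d * i⁻¹) ∈ center G := by
    intro d hd
    have hd' := conj_mem_of_le_normalizer hNE hiN hd
    refine h2.mem_center (E.mul_mem hd hd') hiC (Cls.mem_centralizer_single.mpr ?_)
    have e1 := Cls.mem_centralizer_single.mp (h2.le d hd hi2)
    have e2 := mul_comm_of_mem h2.comm hd hd'
    calc i * (d * (i * d * i⁻¹)) = (i * d * i⁻¹) * (i ^ 2 * d) * i⁻¹ := by rw [sq]; group
      _ = (i * d * i⁻¹) * d * i := by rw [e1, sq]; group
      _ = _ := by rw [← e2]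
  set K := triv N E hNE with hKdef
  have hKN : K ≤ N := fun g hg => hg.1
  have hKn : N ≤ normalizer (K : Set G) := by
    refine le_normalizer_iff.mpr fun g hg k hk => ⟨N.mul_mem (N.mul_mem hg hk.1) (N.inv_mem hg), ?_⟩
    intro d hd
    have h3 := hk.2 _ (conj_mem_of_le_normalizer' hNE hg hd)
    have h4 := (normal_of_characteristic (center G)).conj_mem _ h3 g
    convert h4 using 1
    group
  by_cases hKC : K ≤ C
  · have hiN' : zpowers i ≤ normalizer (C : Set G) := zpowers_le.mpr hiN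
    refine h2.key (K := C ⊔ zpowers i) (sup_le le_normalizer hiN') ?_
      (fun hle => hiC (hle (mem_sup_right (mem_zpowers i)))) ?_
    · refine le_normalizer_iff.mpr fun g hg => ?_
      change C ⊔ zpowers i ≤ (C ⊔ zpowers i).comap (MulAut.conj g).toMonoidHom
      refine sup_le (fun c hc => mem_sup_left (conj_mem_of_le_normalizer le_rfl hg hc))
        (zpowers_le.mpr ?_)
      change g * i * g⁻¹ ∈ C ⊔ zpowers i
      have h3 : g * i * g⁻¹ * i⁻¹ ∈ K := by
        refine ⟨N.mul_mem (N.mul_mem (N.mul_mem hg hiN) (N.inv_mem hg)) (N.inv_mem hiN), ?_⟩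
        intro d hd
        have he := conj_mem_of_le_normalizer' hNE hiN hd
        have h4 := hinv _ he
        have h5 := (normal_of_characteristic (center G)).conj_mem _
          (hinv _ (conj_mem_of_le_normalizer' hNE hg he)) g
        convert mul_mem (inv_mem h4) h5 using 1
        group
      have : g * i * g⁻¹ = g * i * g⁻¹ * i⁻¹ * i := by group
      rw [this]
      exact mul_mem (mem_sup_left (hKC h3)) (mem_sup_right (mem_zpowers i))
    · intro k hk
      obtain ⟨c, hc, _, ⟨a, rfl⟩, rfl⟩ := (Core.mem_sup_of_le_normalizer' hiN').mp hk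
      refine ⟨2, (Nat.coprime_primes Nat.prime_two ht.out).mpr ht2.symm, ?_⟩
      have h3 := conj_mem_of_le_normalizer le_rfl (N.zpow_mem hiN a) hc
      have h4 := C.zpow_mem hi2 a
      convert mul_mem (mul_mem hc h3) h4 using 1
      rw [sq, sq, (Commute.refl i).mul_zpow]
      group
  · obtain ⟨a, ha⟩ := h2.isPGroup.exists_card_eq
    refine h1.key hKN hKn hKC fun k hk => ⟨t ^ a, coprime_of_ne_prime ht.out hst.symm, ?_⟩
    rw [← h2.centralizer_eq]
    intro d hd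
    have h3 := hk.2 d hd
    have e : k * d * k⁻¹ = d * (d⁻¹ * (k * d * k⁻¹)) := by group
    have h4 := pow_eq_one_of_central h3 e (j := t ^ a) (by
      rw [← ha, orderOf_dvd_iff_pow_eq_one.mp (orderOf_dvd_natCard E hd)]; exact one_mem _)
    have h5 := pow_conj_of_central h3 e (t ^ a)
    rw [h4, mul_one] at h5
    exact (mul_inv_eq_iff_eq_mul.mp h5).symm

theorem Hyp.exists_cfg (h : Hyp G m n) {s t : ℕ} [hs : Fact s.Prime] [ht : Fact t.Prime]
    (hsm : s ∣ m) (htm : t ∣ m) (hst : s ≠ t) {b c : G} (hb : b ∉ center G)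
    (hob : ∃ k, orderOf b = s ^ k) (hc : c ∉ center G) (hoc : ∃ k, orderOf c = t ^ k)
    (hbc : c ∈ 𝐂[b]) : ∃ D, Cfg s 𝐂[b] D := by
  obtain ⟨B, H, hS⟩ := h.exists_split hsm hb hob
  have e : 𝐂[b] = 𝐂[c] := le_antisymm (h.le_centralizer hsm htm hst hb hob hbc hoc)
    (h.le_centralizer htm hsm hst.symm hc hoc (mem_comm hbc) hob)
  have h1 : ∀ d ∈ B, 𝐂[b] ≤ 𝐂[d] := fun d hd => e ▸
    h.le_centralizer htm hsm hst.symm hc hoc (e ▸ hS.B_le hd) ((hS.memB d).mp hd).2
  refine ⟨B, hS.memB, h1, fun d hd hdZ => le_antisymm ?_ (h1 d hd), fun hle => hb (hle ?_),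
    hsm.trans (h.m_dvd hb)⟩
  · rw [e]
    exact h.le_centralizer hsm htm hst hdZ ((hS.memB d).mp hd).2 (h1 d hd hbc) hoc
  · exact (hS.memB b).mpr ⟨Cls.self_mem_centralizer_single b, hob⟩

theorem Hyp.eq_of_dvd (h : Hyp G m n) {s t : ℕ} (hs : s.Prime) (ht : t.Prime)
    (hsm : s ∣ m) (htm : t ∣ m) : s = t := by
  by_contra hst
  have := Fact.mk hs
  have := Fact.mk ht
  obtain ⟨x, hx⟩ := h.ex1
  have hxZ : x ∉ center G := fun hZ => h.hm.ne' (hx.symm.trans
    (Cls.index_centralizer_eq_one_iff.mpr hZ))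
  obtain ⟨b, -, hob, hb⟩ := h.exists_noncentral hsm hxZ
  obtain ⟨c, hbc, hoc, hc⟩ := h.exists_noncentral htm hb
  obtain ⟨D, hD⟩ := h.exists_cfg hsm htm hst hb hob hc hoc hbc
  obtain ⟨E, hE⟩ := h.exists_cfg htm hsm (Ne.symm hst) hc hoc hb hob (mem_comm hbc)
  have e : 𝐂[c] = 𝐂[b] := le_antisymm
    (h.le_centralizer htm hsm (Ne.symm hst) hc hoc (mem_comm hbc) hob)
    (h.le_centralizer hsm htm hst hb hob hbc hoc)
  rw [e] at hE
  rcases Nat.even_or_odd (𝐂[b].relIndex (normalizer (𝐂[b] : Set G))) with he | ho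
  · by_cases ht2 : t = 2
    · exact not_two_cfg_of_even (Ne.symm hst) (fun e => hst (e.trans ht2.symm)) hE hD he
    · exact not_two_cfg_of_even hst ht2 hD hE he
  · exact not_two_cfg_of_odd hst hD hE ho

theorem Hyp.exists_prime_pow (h : Hyp G m n) : ∃ p a : ℕ, p.Prime ∧ 0 < a ∧ m = p ^ a := by
  obtain ⟨p, hp, hpm⟩ := Nat.exists_prime_and_dvd h.hm.ne'
  obtain ⟨a, ha⟩ := Cls.eq_pow_of_forall_prime_eq (p := p) (by have := h.hm; omega : m ≠ 0)
    fun q hq hqm => h.eq_of_dvd hq hp hqm hpm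
  refine ⟨p, a, hp, Nat.pos_of_ne_zero ?_, ha⟩
  rintro rfl
  exact h.hm.ne' (by simpa using ha)

end Cfsg.Agent.Chain
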