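import Mathlib
import Cfsg.Agent.Lib.Cls.Chain
import Cfsg.Agent.Lib.Core.PCore

/-!
# Cls/Chain2: groups whose class sizes are `1`, `m`, `m n` with `m`, `n` coprime: the structure
-/

set_option autoImplicit false
set_option linter.unusedSectionVars false

namespace Cfsg.Agent.Chain

open Cfsg Subgroup Cfsg.Agent.Coprime Cfsg.Agent.Split
open scoped commutatorElement

local notation "𝐂[" x "]" => Subgroup.centralizer ({x} : Set _)

variable {G : Type*} [Group G] [Finite G] {m n : ℕ} {p : ℕ} [hp : Fact p.Prime]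

theorem split_H_eq {y u : G} {B H B' H' : Subgroup G} (h1 : IsSplit p 𝐂[y] B H)
    (h2 : IsSplit p 𝐂[u] B' H') (hy : ∃ k, orderOf y = p ^ k) (hu : ∃ k, orderOf u = p ^ k)
    (hc : u ∈ 𝐂[y]) : H = H' :=
  le_antisymm (h2.le_H (h1.H_le_centralizer ((h1.memB u).mpr ⟨hc, hu⟩)) h1.coprime)
    (h1.le_H (h2.H_le_centralizer ((h2.memB y).mpr ⟨mem_comm hc, hy⟩)) h2.coprime)

/-- A second-central element of a Sylow subgroup with its split centralizer. -/
structure YCfg (p : ℕ) (P : Subgroup G) (y : G) (B H : Subgroup G) : Prop where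
  syl : IsSylowIn p P ⊤
  mem : y ∈ P
  nc : y ∉ center G
  pow : y ^ p ∈ center G
  comm : ∀ g ∈ P, y⁻¹ * (g * y * g⁻¹) ∈ center G
  split : IsSplit p 𝐂[y] B H
  not_le : ¬ H ≤ center G

namespace YCfg

variable {P B H : Subgroup G} {y : G}

theorem ord (c : YCfg p P y B H) {g : G} (hg : g ∈ P) : ∃ k, orderOf g = p ^ k :=
  Core.exists_orderOf_eq_pow_of_mem c.syl.2.1 hg

theorem le_normalizer (c : YCfg p P y B H) : P ≤ normalizer (𝐂[y] : Set G) := by
  refine le_normalizer_iff.mpr fun g hg x hx => ?_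
  have h1 := Cls.centralizer_single_mul_center (x := y) (c.comm g hg)
  rw [mul_inv_cancel_left, Cls.centralizer_single_conj] at h1
  exact h1 ▸ ⟨x, hx, rfl⟩

theorem B_le (c : YCfg p P y B H) : B ≤ P :=
  c.syl.le_of_le_normalizer le_top c.split.isPGroup (c.le_normalizer.trans c.split.normalizer_le_B)

theorem mem_B (c : YCfg p P y B H) {g : G} (hg : g ∈ P) (hy : g ∈ 𝐂[y]) : g ∈ B :=
  (c.split.memB g).mpr ⟨hy, c.ord hg⟩

theorem fixH (c : YCfg p P y B H) (h : Hyp G m n) (hpm : p ∣ m) {g w : G} (hg : g ∈ P)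
    (hy : g ∉ 𝐂[y]) (hw : w ∈ H) (hgw : g ∈ 𝐂[w]) : w ∈ center G := by
  by_contra hZ
  have h1 := h.sylow_of_le hpm c.nc hZ c.split.sylow (c.split.B_le_centralizer hw)
  have h2 := h1.eq_of_le (le_inf c.B_le (c.split.B_le_centralizer hw)) inf_le_right
    (c.syl.2.1.to_le inf_le_left)
  exact hy (c.split.B_le (h2 ▸ mem_inf.mpr ⟨hg, hgw⟩))

theorem fixB (c : YCfg p P y B H) (h : Hyp G m n) (hpm : p ∣ m) {g u : G} (hg : g ∈ P)
    (hy : g ∉ 𝐂[y]) (hu : u ∈ B) (hgu : g ∈ 𝐂[u]) : u ∈ center G := by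
  by_contra hZ
  have hou := ((c.split.memB u).mp hu).2
  obtain ⟨B', H', hS⟩ := h.exists_split hpm hZ hou
  have e := split_H_eq c.split hS (c.ord c.mem) hou (c.split.B_le hu)
  refine c.not_le fun w hw => c.fixH h hpm hg hy hw ?_
  exact hS.B_le_centralizer (e ▸ hw) ((hS.memB g).mpr ⟨hgu, c.ord hg⟩)

theorem m_dvd (c : YCfg p P y B H) (h : Hyp G m n) (hpm : p ∣ m) {a : ℕ} (ha : m = p ^ a) :
    m ∣ p := by
  have hn : P ≤ normalizer (H : Set G) := c.le_normalizer.trans c.split.normalizer_le_H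
  have hBH : ∀ g ∈ P, g ∈ 𝐂[y] → g ∈ centralizer (H : Set G) := fun g hg hy =>
    c.split.B_le_centralizer_H (c.mem_B hg hy)
  have hz : ∀ g : G, g * y * g⁻¹ = y * (y⁻¹ * (g * y * g⁻¹)) := fun g => by group
  have hcyc : IsCyclic (conjHom hn).range := by
    by_contra hnc
    refine c.not_le (le_of_forall_not_mem_centralizer hn
      (coprime_card_of_isPGroup c.split.coprime c.syl.2.1).symm ?_ hnc ?_)
    · intro s hs t ht
      refine hBH _ (mul_mem (inv_mem (mul_mem ht hs)) (mul_mem hs ht))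
        (Cls.mem_centralizer_single.mpr ?_)
      have h1 := c.comm s hs
      have h2 := c.comm t ht
      have e1 := hz s
      have e2 := hz t
      generalize y⁻¹ * (s * y * s⁻¹) = z at h1 e1
      generalize y⁻¹ * (t * y * t⁻¹) = w at h2 e2
      have e3 : s * t * y * (s * t)⁻¹ = y * z * w := by
        calc s * t * y * (s * t)⁻¹ = s * (t * y * t⁻¹) * s⁻¹ := by group
          _ = s * y * s⁻¹ * (s * w * s⁻¹) := by rw [e2]; group
          _ = _ := by rw [e1, mem_center_iff.mp h2 s]; group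
      have e4 : t * s * y * (t * s)⁻¹ = y * z * w := by
        calc t * s * y * (t * s)⁻¹ = t * (s * y * s⁻¹) * t⁻¹ := by group
          _ = t * y * t⁻¹ * (t * z * t⁻¹) := by rw [e1]; group
          _ = y * (w * z) := by rw [e2, mem_center_iff.mp h1 t]; group
          _ = _ := by rw [mem_center_iff.mp h1 w]; group
      calc (t * s)⁻¹ * (s * t) * y = (t * s)⁻¹ * (s * t * y * (s * t)⁻¹) * (s * t) := by group
        _ = (t * s)⁻¹ * (t * s * y * (t * s)⁻¹) * (s * t) := by rw [e3, e4]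
        _ = _ := by group
    · intro g hg hgH w hw
      exact c.fixH h hpm hg (fun hy => hgH (hBH g hg hy)) (mem_inf.mp hw).1
        (mem_comm (mem_inf.mp hw).2)
  have hexp : Monoid.exponent (conjHom hn).range ∣ p := by
    refine Monoid.exponent_dvd_of_forall_pow_eq_one ?_
    rintro ⟨_, ⟨g, rfl⟩⟩
    apply Subtype.ext
    change conjHom hn g ^ p = 1
    rw [← map_pow]
    refine (mem_ker_conjHom hn _).mpr (hBH _ (g ^ p).2 (Cls.mem_centralizer_single.mpr ?_))
    have h1 := pow_conj_of_central (c.comm g g.2) (hz g) p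
    rw [pow_eq_one_of_central (c.comm g g.2) (hz g) c.pow, mul_one] at h1
    exact mul_inv_eq_iff_eq_mul.mp h1
  rw [IsCyclic.exponent_eq_card, ← index_ker] at hexp
  have hker : (conjHom hn).ker ≤ 𝐂[y].subgroupOf P := by
    intro g hg
    by_contra hy
    exact c.not_le fun w hw => c.fixH h hpm g.2 hy hw
      (Cls.mem_centralizer_single.mpr ((mem_ker_conjHom hn g).mp hg w hw).symm)
  have h1 : 𝐂[y].relIndex P ∣ p := (index_dvd_of_le hker).trans hexp
  have h2 : m ∣ 𝐂[y].relIndex P * P.index := by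
    rw [← inf_relIndex_right, relIndex_mul_index inf_le_right]
    exact (h.m_dvd c.nc).trans (index_dvd_of_le inf_le_left)
  have h3 : m.Coprime P.index := by
    rw [ha]
    exact Nat.Coprime.pow_left a ((Nat.Prime.coprime_iff_not_dvd hp.out).mpr
      (not_dvd_index_of_isSylowIn_le c.syl le_rfl))
  exact (h3.dvd_of_dvd_mul_right h2).trans h1

theorem m_eq (c : YCfg p P y B H) (h : Hyp G m n) (hpm : p ∣ m) {a : ℕ} (ha : m = p ^ a) :
    m = p :=
  Nat.dvd_antisymm (c.m_dvd h hpm ha) hpm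

end YCfg

theorem Hyp.exists_not_mem (h : Hyp G m n) (hpm : p ∣ m) {P : Subgroup G}
    (hP : IsSylowIn p P ⊤) {x : G} (hx : x ∉ center G) : ∃ g ∈ P, g ∉ 𝐂[x] :=
  SetLike.not_le_iff_exists.mp fun hle => hx (h.mem_center_of_sylow_le hpm hP hle)

theorem Hyp.nc1 (h : Hyp G m n) {x : G} (hx : 𝐂[x].index = m) : x ∉ center G := fun hZ =>
  h.hm.ne' (hx.symm.trans (Cls.index_centralizer_eq_one_iff.mpr hZ))

theorem Hyp.exists_prime_pow_elt (h : Hyp G m n) {x : G} (hx : 𝐂[x].index = m) :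
    ∃ r : ℕ, r.Prime ∧ ∃ u ∈ zpowers x, (∃ k, orderOf u = r ^ k) ∧ 𝐂[u].index = m := by
  obtain ⟨r, hr, u, hu, ho, hZ⟩ := exists_prime_pow_not_mem (h.nc1 hx)
  refine ⟨r, hr, u, hu, ho, Nat.dvd_antisymm ?_ (h.m_dvd hZ)⟩
  exact hx ▸ index_dvd_of_le (Cls.centralizer_single_le_of_mem_zpowers hu)

section CaseB

/-- If all noncentral `p`-elements have class size `m n`, their `p'`-parts are noncentral. -/
theorem Hyp.not_le_center (h : Hyp G m n) (hpm : p ∣ m)
    (hB : ∀ u : G, (∃ k, orderOf u = p ^ k) → 𝐂[u].index ≠ m) {g : G} (hg : g ∉ center G)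
    (hog : ∃ k, orderOf g = p ^ k) {B H : Subgroup G} (hS : IsSplit p 𝐂[g] B H) :
    ¬ H ≤ center G := by
  intro hH
  obtain ⟨x₀, hx₀⟩ := h.ex1
  obtain ⟨r, hr, x, -, hox, hx⟩ := h.exists_prime_pow_elt hx₀
  have hrp : r ≠ p := fun e => hB x (e ▸ hox) hx
  have := Fact.mk hr
  obtain ⟨u, hux, hou, hu⟩ := h.exists_noncentral hpm (h.nc1 hx)
  obtain ⟨R, hR⟩ := exists_isSylowIn r 𝐂[g]
  have hRZ : R ≤ center G := (hS.le_H_of_isPGroup hrp hR.1 hR.2.1).trans hH
  have e : 𝐂[g].index = 𝐂[u].index :=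
    ((h.idx g hg).resolve_left (hB g hog)).trans ((h.idx u hu).resolve_left (hB u hou)).symm
  have hR' : IsSylowIn r R 𝐂[u] := isSylowIn_of_factorization hR
    (hRZ.trans (Cls.center_le_centralizer_single u)) (by rw [e])
  have := Core.normal_of_le_center hRZ
  exact h.nc1 hx (hRZ (mem_of_isSylowIn_of_mem_normalizer hR' (mem_comm hux) hox
    (by rw [normalizer_eq_top]; exact mem_top _)))

theorem conj_mem_centralizer_of_mem_normalCore {x k y : G} (hk : k ∈ 𝐂[x].normalCore) :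
    k ∈ 𝐂[y * x * y⁻¹] := by
  rw [Cls.centralizer_single_conj]
  refine ⟨y⁻¹ * k * y, ?_, by simp [mul_assoc]⟩
  simpa using hk y⁻¹

theorem Hyp.caseB (h : Hyp G p n)
    (hB : ∀ u : G, (∃ k, orderOf u = p ^ k) → 𝐂[u].index ≠ p) : False := by
  have hpm : p ∣ p := dvd_rfl
  obtain ⟨x₀, hx₀⟩ := h.ex1
  obtain ⟨q, hq, x, -, hox, hx⟩ := h.exists_prime_pow_elt hx₀
  have hqp : q ≠ p := fun e => hB x (e ▸ hox) hx
  have hxZ := h.nc1 hx
  obtain ⟨Q, hQ⟩ := exists_isSylowIn p 𝐂[x]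
  obtain ⟨P, hP, hQP⟩ := exists_isSylowIn_ge le_top hQ.2.1
  obtain ⟨g, hgP, hgx⟩ := h.exists_not_mem hpm hP hxZ
  have hog := Core.exists_orderOf_eq_pow_of_mem hP.2.1 hgP
  have hgZ := not_mem_center_of_not_mem hgx
  have hgK : g ∉ 𝐂[x].normalCore := fun hk => hgx (normalCore_le _ hk)
  obtain ⟨B, H, hS⟩ := h.exists_split hpm hgZ hog
  obtain ⟨w₀, hw₀, hw₀Z⟩ := SetLike.not_le_iff_exists.mp (h.not_le_center hpm hB hgZ hog hS)
  obtain ⟨r, hr, w, hw, how, hwZ⟩ := exists_prime_pow_not_mem hw₀Z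
  have hwH : w ∈ H := (zpowers_le.mpr hw₀) hw
  have hwp := ((hS.memH w).mp hwH).2
  have hrp : r ≠ p := by
    rintro rfl
    obtain ⟨k, hk⟩ := how
    rw [hk] at hwp
    rcases k with _ | k
    · exact hwZ (orderOf_eq_one_iff.mp (by simpa using hk) ▸ one_mem _)
    · exact hp.out.one_lt.ne' (Nat.eq_one_of_dvd_coprimes hwp (dvd_pow_self _ k.succ_ne_zero)
        dvd_rfl)
  have hwg : w ∈ 𝐂[g] := hS.H_le hwH
  have hwK : w ∈ 𝐂[x].normalCore := mem_normalCore_of_commute hx hog hgK hr hrp how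
    (Cls.mem_centralizer_single_commute.mp hwg).symm
  have hwx : w ∈ 𝐂[x] := normalCore_le _ hwK
  have hgidx := (h.idx g hgZ).resolve_left (hB g hog)
  -- `C(g) ≤ C(w)`
  have hgw : 𝐂[g] ≤ 𝐂[w] := by
    obtain ⟨k, hk⟩ := hog
    have e := Cls.centralizer_single_mul (Cls.mem_centralizer_single_commute.mp hwg).symm
      (hk ▸ coprime_pow_of_coprime hwp)
    have hle : 𝐂[g * w] ≤ 𝐂[g] := e ▸ inf_le_left
    have h1 := index_dvd_of_le hle
    rcases h.idx _ (not_mem_center_of_le hgZ hle) with e' | e'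
    · rw [hgidx, e'] at h1
      have := Nat.le_of_dvd hp.out.pos h1
      have := h.hn
      have := hp.out.pos
      nlinarith
    · have := relIndex_mul_index hle
      rw [e', hgidx] at this
      have h2 : 𝐂[g * w].relIndex 𝐂[g] = 1 := Nat.eq_of_mul_eq_mul_right
        (Nat.mul_pos hp.out.pos (by have := h.hn; omega)) (this.trans (one_mul _).symm)
      exact (relIndex_eq_one.mp h2).trans (e ▸ inf_le_right)
  have hwidx : 𝐂[w].index = p := by
    refine (h.idx w hwZ).resolve_right fun e' => ?_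
    have := relIndex_mul_index hgw
    rw [e', hgidx] at this
    have h2 : 𝐂[g].relIndex 𝐂[w] = 1 := Nat.eq_of_mul_eq_mul_right
      (Nat.mul_pos hp.out.pos (by have := h.hn; omega)) (this.trans (one_mul _).symm)
    exact hgx (mem_comm (relIndex_eq_one.mp h2 (mem_comm hwx)))
  have hgKw : g ∈ 𝐂[w].normalCore := mem_normalCore_of_index_eq hwidx hog (mem_comm hwg)
  have hxw : x * w ∉ center G := by
    intro hZ
    have e := Cls.centralizer_single_mul_center (x := x⁻¹) hZ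
    rw [inv_mul_cancel_left, Cls.centralizer_single_inv] at e
    exact hgx (e ▸ mem_comm hwg)
  obtain ⟨y, hy, hoy, hyZ⟩ := h.exists_noncentral hpm hxw
  have hy' : y * (x * w) = x * w * y := Cls.mem_centralizer_single.mp hy
  have ez : x⁻¹ * (y * x * y⁻¹) = w * (y * w * y⁻¹)⁻¹ := by
    calc x⁻¹ * (y * x * y⁻¹) = x⁻¹ * (y * (x * w)) * w⁻¹ * y⁻¹ := by group
      _ = _ := by rw [hy']; group
  have hzZ : x⁻¹ * (y * x * y⁻¹) ∈ center G := by
    by_contra hZ
    have hQz : Q ≤ 𝐂[x⁻¹ * (y * x * y⁻¹)] := by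
      intro k hk
      have hk' := mem_normalCore_of_index_eq hx (Core.exists_orderOf_eq_pow_of_mem hQ.2.1 hk)
        (hQ.1 hk)
      exact Cls.mem_centralizer_single_commute.mpr
        ((Cls.mem_centralizer_single_commute.mp (hQ.1 hk)).inv_right.mul_right
          (Cls.mem_centralizer_single_commute.mp (conj_mem_centralizer_of_mem_normalCore hk')))
    have hgz : g ∈ 𝐂[x⁻¹ * (y * x * y⁻¹)] := by
      rw [ez]
      exact Cls.mem_centralizer_single_commute.mpr
        ((Cls.mem_centralizer_single_commute.mp (mem_comm hwg)).mul_right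
          (Cls.mem_centralizer_single_commute.mp
            (conj_mem_centralizer_of_mem_normalCore hgKw)).inv_right)
    have h1 := (h.sylow_of_le hpm hxZ hZ hQ hQz).eq_of_le (le_inf hQP hQz) inf_le_right
      (hP.2.1.to_le inf_le_left)
    exact hgx (hQ.1 (h1 ▸ mem_inf.mpr ⟨hgP, hgz⟩))
  have hz1 : x⁻¹ * (y * x * y⁻¹) = 1 := by
    have e : y * x * y⁻¹ = x * (x⁻¹ * (y * x * y⁻¹)) := by group
    obtain ⟨k, hk⟩ := hoy
    obtain ⟨j, hj⟩ := hox
    have h1 := pow_conj_of_central hzZ e (p ^ k)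
    rw [← hk, pow_orderOf_eq_one, one_mul, inv_one, mul_one, left_eq_mul, hk] at h1
    have h2 := pow_eq_one_of_central hzZ e (j := q ^ j) (by
      rw [← hj, pow_orderOf_eq_one]; exact one_mem _)
    have h3 := Nat.dvd_gcd (orderOf_dvd_of_pow_eq_one h1) (orderOf_dvd_of_pow_eq_one h2)
    rw [(coprime_pow_of_coprime (coprime_of_ne_prime hq hqp)).gcd_eq_one, Nat.dvd_one] at h3
    exact orderOf_eq_one_iff.mp h3
  have hyx : x ∈ 𝐂[y] := Cls.mem_centralizer_single.mpr (by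
    rw [inv_mul_eq_one] at hz1
    exact (mul_inv_eq_iff_eq_mul.mp hz1.symm).symm)
  have hyw : w ∈ 𝐂[y] := by
    rw [ez, mul_inv_eq_one] at hz1
    exact Cls.mem_centralizer_single.mpr (mul_inv_eq_iff_eq_mul.mp hz1.symm).symm
  obtain ⟨B', H', hS'⟩ := h.exists_split hpm hyZ hoy
  obtain ⟨j, hj⟩ := hox
  have hB'x : B' ≤ 𝐂[x] := hS'.B_le_centralizer ((hS'.memH x).mpr
    ⟨hyx, hj ▸ coprime_of_ne_prime hq hqp⟩)
  have hB'w : B' ≤ 𝐂[w] := hS'.B_le_centralizer ((hS'.memH w).mpr ⟨hyw, hwp⟩)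
  have hsyl := h.sylow_of_le hpm hyZ hwZ hS'.sylow hB'w
  have hB'K : B' ≤ 𝐂[w].normalCore := fun k hk =>
    mem_normalCore_of_index_eq hwidx ((hS'.memB k).mp hk).2 (hB'w hk)
  have hsyl' := hsyl.mono hB'K (normalCore_le _)
  obtain ⟨k, hk⟩ := hog
  obtain ⟨t, -, ht⟩ := hsyl'.exists_le_conj (zpowers_le.mpr hgKw)
    (Core.isPGroup_zpowers_of_orderOf hk)
  obtain ⟨u, hu, hue⟩ := ht (mem_zpowers g)
  have huK := mem_normalCore_of_index_eq hx ((hS'.memB u).mp hu).2 (hB'x hu)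
  exact hgK (hue ▸ (normalCore_normal _).conj_mem u huK t)

end CaseB

end Cfsg.Agent.Chain
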