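import Mathlib
import Cfsg.Agent.Lib.Cls.Split2
import Cfsg.Agent.Lib.Cls.Chain2
import Cfsg.Agent.Lib.Transfer.Fpf
import Cfsg.Agent.Lib.Frob.Kernel
import Cfsg.Agent.S4364

/-!
# Cls/FGroup: groups without proper inclusions between centralizers of noncentral elements
-/

set_option autoImplicit false
set_option linter.unusedSectionVars false

namespace Cfsg.Agent.FGroup

open Cfsg Subgroup Cfsg.Agent.Coprime Cfsg.Agent.Split
open scoped commutatorElement

local notation "𝐂[" x "]" => Subgroup.centralizer ({x} : Set _)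

variable {G : Type*} [Group G] [Finite G]

theorem two_mul_ncard_conj_le {A : Subgroup G} (h : A ≠ normalizer (A : Set G)) :
    2 * {x : G | x ≠ 1 ∧ ∃ g : G, g⁻¹ * x * g ∈ A}.ncard + 2 ≤ Nat.card G := by
  classical
  let f : (G ⧸ normalizer (A : Set G)) × ↥((A : Set G) \ {1}) → G :=
    fun a => a.1.out * a.2 * a.1.out⁻¹
  have h1 : {x : G | x ≠ 1 ∧ ∃ g : G, g⁻¹ * x * g ∈ A} ⊆ Set.range f := by
    rintro x ⟨hx, g, hg⟩
    obtain ⟨n, hn⟩ := QuotientGroup.mk_out_eq_mul (normalizer (A : Set G)) g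
    refine ⟨(QuotientGroup.mk g, ⟨_, conj_mem_of_le_normalizer' le_rfl n.2 hg, fun e => hx ?_⟩), ?_⟩
    · have e' : (n : G)⁻¹ * (g⁻¹ * x * g) * n = 1 := e
      calc x = g * n * ((n : G)⁻¹ * (g⁻¹ * x * g) * n) * (g * n)⁻¹ := by group
        _ = 1 := by rw [e']; group
    · simp only [f, hn]
      group
  have h2 := (Set.ncard_le_ncard h1).trans (Set.image_univ (f := f) ▸ Set.ncard_image_le)
  rw [Set.ncard_univ, Nat.card_prod, Nat.card_coe_set_eq,
    Set.ncard_sdiff_singleton_of_mem A.one_mem, ← Nat.card_coe_set_eq (A : Set G)] at h2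
  change _ ≤ (normalizer (A : Set G)).index * (Nat.card A - 1) at h2
  have h3 := Core.card_mul_relIndex_of_le (le_normalizer (H := A))
  have h4 : A.relIndex (normalizer (A : Set G)) ≠ 1 :=
    fun h5 => h (le_antisymm le_normalizer (relIndex_eq_one.1 h5))
  have h5 : A.relIndex (normalizer (A : Set G)) ≠ 0 := index_ne_zero_of_finite
  have h6 : 0 < (normalizer (A : Set G)).index := Nat.pos_of_ne_zero index_ne_zero_of_finite
  obtain ⟨a, ha⟩ : ∃ a, Nat.card A = a + 1 := ⟨_, (Nat.sub_add_cancel Nat.card_pos).symm⟩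
  rw [← (normalizer (A : Set G)).index_mul_card, ← h3]
  rw [ha, Nat.add_sub_cancel] at h2
  rw [ha]
  have h7 : 2 ≤ A.relIndex (normalizer (A : Set G)) := by omega
  generalize A.relIndex (normalizer (A : Set G)) = e at *
  generalize (normalizer (A : Set G)).index = i at *
  have := Nat.mul_le_mul_left (i * (a + 1)) h7
  nlinarith

theorem not_cover {A B : Subgroup G} (hA : A ≠ normalizer (A : Set G))
    (hB : B ≠ normalizer (B : Set G))
    (h : ∀ x : G, (∃ g : G, g⁻¹ * x * g ∈ A) ∨ ∃ g : G, g⁻¹ * x * g ∈ B) : False := by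
  have h1 := two_mul_ncard_conj_le hA
  have h2 := two_mul_ncard_conj_le hB
  have h3 : (Set.univ : Set G) ⊆ {1} ∪ ({x : G | x ≠ 1 ∧ ∃ g : G, g⁻¹ * x * g ∈ A} ∪
      {x : G | x ≠ 1 ∧ ∃ g : G, g⁻¹ * x * g ∈ B}) := by
    intro x _
    by_cases hx : x = 1
    · exact Or.inl hx
    · exact Or.inr ((h x).imp (fun h => ⟨hx, h⟩) fun h => ⟨hx, h⟩)
  have h4 := (Set.ncard_le_ncard h3).trans ((Set.ncard_union_le _ _).trans
    (Nat.add_le_add_left (Set.ncard_union_le _ _) _))
  rw [Set.ncard_univ, Set.ncard_singleton] at h4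
  omega

theorem isSolvable_of_TI {A : Subgroup G} (hZ : center G ≤ A) (hA : Group.IsSolvable A)
    (hne : ¬ A ≤ center G)
    (hTI : ∀ g : G, g ∉ A → ∀ x ∈ A, g⁻¹ * x * g ∈ A → x ∈ center G) : Group.IsSolvable G := by
  obtain ⟨N, hN, -, h1, h2⟩ := Frob.wielandt A (center G) hZ
    (fun h _ l hl => (inferInstance : (center G).Normal).conj_mem l hl h) hTI
  set f := QuotientGroup.mk' (center G)
  have hf : Function.Surjective f := QuotientGroup.mk'_surjective _
  have := hN.map f hf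
  have h3 : Group.IsNilpotent (N.map f) := by
    refine Transfer.isNilpotent_of_fpf_action (H := A.map f)
      (by rw [normalizer_eq_top]; exact le_top)
      (fun e => hne ((Core.map_mk_eq_bot_iff _ _).mp e)) ?_
    rintro _ ⟨a, ha, rfl⟩ ha1 _ ⟨k, hk, rfl⟩ e
    refine (QuotientGroup.eq_one_iff k).mpr (h1 ▸ mem_inf.mpr ⟨hk, ?_⟩)
    by_contra hkA
    refine ha1 ((QuotientGroup.eq_one_iff a).mpr (hTI k hkA a ha ?_))
    have h4 : a⁻¹ * (k⁻¹ * a * k) ∈ center G := by
      refine (QuotientGroup.eq_one_iff _).mp ?_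
      change f _ = 1
      rw [map_mul, map_mul, map_mul, mul_assoc (f k⁻¹), e, map_inv, map_inv]
      group
    have := A.mul_mem ha (hZ h4)
    rwa [mul_inv_cancel_left] at this
  have h4 : Group.IsSolvable ((N.map f).comap f) := Core.isSolvable_comap
    (by rw [QuotientGroup.ker_mk']; exact Cls.isSolvable_of_isMulCommutative inferInstance)
    inferInstance
  have h5 := Core.isSolvable_sup_of_le_normalizer (A := A) (N := N)
    (by rw [normalizer_eq_top]; exact le_top) hA (Core.isSolvable_of_le h4 (le_comap_map _ _))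
  rw [sup_comm, h2] at h5
  exact Core.isSolvable_top_iff.mp h5

theorem eq_one_of_conj_eq_mul {g d z : G} (hz : z ∈ center G) (e : g * d * g⁻¹ = d * z)
    (hc : (orderOf g).Coprime (orderOf d)) : z = 1 := by
  have h1 := Chain.pow_conj_of_central hz e (orderOf g)
  rw [pow_orderOf_eq_one, one_mul, inv_one, mul_one, left_eq_mul] at h1
  have h2 := Chain.pow_eq_one_of_central hz e (j := orderOf d) (by
    rw [pow_orderOf_eq_one]; exact one_mem _)
  have h3 := Nat.dvd_gcd (orderOf_dvd_of_pow_eq_one h1) (orderOf_dvd_of_pow_eq_one h2)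
  rw [hc.gcd_eq_one, Nat.dvd_one] at h3
  exact orderOf_eq_one_iff.mp h3

theorem commute_of_mk {g d : G} (hc : (orderOf g).Coprime (orderOf d))
    (e : QuotientGroup.mk' (center G) g * QuotientGroup.mk' (center G) d =
      QuotientGroup.mk' (center G) d * QuotientGroup.mk' (center G) g) : g * d = d * g := by
  have hz : d⁻¹ * (g * d * g⁻¹) ∈ center G := by
    refine (QuotientGroup.eq_one_iff _).mp ?_
    change QuotientGroup.mk' (center G) _ = 1
    rw [map_mul, map_mul, map_mul, e, map_inv, map_inv]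
    group
  have := eq_one_of_conj_eq_mul hz (by group) hc
  rw [inv_mul_eq_one] at this
  exact mul_inv_eq_iff_eq_mul.mp this.symm

/-- `C` contains a noncentral `s`-element. -/
def Has (s : ℕ) (C : Subgroup G) : Prop := ∃ u ∈ C, (∃ k, orderOf u = s ^ k) ∧ u ∉ center G

theorem Has.of_factorization {s : ℕ} (hs : s.Prime) {C D : Subgroup G} (h : Has s D)
    (hD : center G ≤ D) (e : C.index.factorization s = D.index.factorization s) : Has s C := by
  by_contra hcon
  have := Fact.mk hs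
  obtain ⟨w, hw, how, hwZ⟩ := h
  obtain ⟨Q, hQ⟩ := exists_isSylowIn s C
  have hQZ : Q ≤ center G := fun u hu => by
    by_contra hZ
    exact hcon ⟨u, hQ.1 hu, Core.exists_orderOf_eq_pow_of_mem hQ.2.1 hu, hZ⟩
  have hQ' := isSylowIn_of_factorization hQ (hQZ.trans hD) e
  have := Core.normal_of_le_center hQZ
  exact hwZ (hQZ (mem_of_isSylowIn_of_mem_normalizer hQ' hw how
    (by rw [normalizer_eq_top]; exact mem_top _)))

theorem has_top_of_dvd {s : ℕ} (hs : s.Prime) {C : Subgroup G} (hC : center G ≤ C)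
    (h : s ∣ C.index) : Has s (⊤ : Subgroup G) := by
  have := Fact.mk hs
  obtain ⟨P, hP⟩ := exists_isSylowIn s (⊤ : Subgroup G)
  obtain ⟨u, hu, huC⟩ := SetLike.not_le_iff_exists.mp fun hle : P ≤ C =>
    not_dvd_index_of_isSylowIn_le hP hle h
  exact ⟨u, mem_top u, Core.exists_orderOf_eq_pow_of_mem hP.2.1 hu, fun hZ => huC (hC hZ)⟩

theorem isSolvable_of_two {p q : ℕ} (hp : p.Prime) (hq : q.Prime)
    (h : ∀ s : ℕ, s.Prime → Has s (⊤ : Subgroup G) → s = p ∨ s = q) : Group.IsSolvable G :=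
  Cls.isSolvable_of_normal_of_quotient (center G)
    (Cls.isSolvable_of_isMulCommutative inferInstance)
    (Char.solvable_of_two_primes hp hq fun s hs hd => h s hs (has_top_of_dvd hs le_rfl hd))

theorem has_self {x : G} (hx : x ∉ center G) : ∃ r : ℕ, r.Prime ∧ Has r 𝐂[x] := by
  obtain ⟨r, hr, u, hu, ho, hZ⟩ := exists_prime_pow_not_mem hx
  exact ⟨r, hr, u, Cls.zpowers_le_centralizer_single x hu, ho, hZ⟩

/-- An abelian subgroup that is the centralizer of each of its noncentral elements. -/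
structure Ab (A : Subgroup G) : Prop where
  le : ∀ d ∈ A, A ≤ 𝐂[d]
  eq : ∀ d ∈ A, d ∉ center G → 𝐂[d] = A

namespace Ab

variable {A : Subgroup G}

theorem comm (h : Ab A) : IsMulCommutative A :=
  Core.isMulCommutative_of_forall fun _ ha b hb => Cls.mem_centralizer_single.mp (h.le b hb ha)

theorem center_le (h : Ab A) {s : ℕ} (hs : Has s A) : center G ≤ A := by
  obtain ⟨u, hu, -, hZ⟩ := hs
  exact h.eq u hu hZ ▸ Cls.center_le_centralizer_single u

theorem split (h : Ab A) (s : ℕ) [hs : Fact s.Prime] : ∃ B H, IsSplit s A B H :=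
  exists_isSplit fun v hv _ => by
    rw [relIndex_eq_one.mpr (h.le v hv)]
    exact hs.out.one_lt.ne' ∘ Nat.dvd_one.mp

theorem cfg (h : Ab A) {s : ℕ} [hs : Fact s.Prime] (h1 : Has s A) (h2 : s ∣ A.index) :
    ∃ D, Chain.Cfg s A D := by
  obtain ⟨B, H, hS⟩ := h.split s
  obtain ⟨u, hu, ho, hZ⟩ := h1
  exact ⟨B, hS.memB, fun d hd => h.le d (hS.B_le hd), fun d hd => h.eq d (hS.B_le hd),
    fun hle => hZ (hle ((hS.memB u).mpr ⟨hu, ho⟩)), h2⟩

theorem eq_of_dvd (h : Ab A) {s t : ℕ} (hs : s.Prime) (ht : t.Prime) (h1 : Has s A)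
    (h2 : s ∣ A.index) (h3 : Has t A) (h4 : t ∣ A.index) : s = t := by
  by_contra hst
  have := Fact.mk hs
  have := Fact.mk ht
  obtain ⟨D, hD⟩ := h.cfg h1 h2
  obtain ⟨E, hE⟩ := h.cfg h3 h4
  rcases Nat.even_or_odd (A.relIndex (normalizer (A : Set G))) with he | ho
  · by_cases ht2 : t = 2
    · exact Chain.not_two_cfg_of_even (Ne.symm hst) (fun e => hst (e.trans ht2.symm)) hE hD he
    · exact Chain.not_two_cfg_of_even hst ht2 hD hE he
  · exact Chain.not_two_cfg_of_odd hst hD hE ho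

theorem mem_normalizer (h : Ab A) {x g : G} (hx : x ∈ A) (hZ : x ∉ center G)
    (hg : g * x * g⁻¹ ∈ A) : g ∈ normalizer (A : Set G) := by
  have h1 := h.eq _ hg (by
    rwa [← Cls.index_centralizer_eq_one_iff, Cls.index_centralizer_conj,
      Cls.index_centralizer_eq_one_iff])
  rw [Cls.centralizer_single_conj, h.eq x hx hZ] at h1
  exact mem_normalizer_fintype fun a ha => h1 ▸ ⟨a, ha, rfl⟩

theorem isSolvable_of_eq (h : Ab A) {s : ℕ} (hs : Has s A) (e : A = normalizer (A : Set G)) :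
    Group.IsSolvable G := by
  refine isSolvable_of_TI (h.center_le hs) (Cls.isSolvable_of_isMulCommutative h.comm) ?_ ?_
  · obtain ⟨u, hu, -, hZ⟩ := hs
    exact fun hle => hZ (hle hu)
  · intro g hg x hx hgx
    by_contra hZ
    have := h.mem_normalizer (g := g⁻¹) hx hZ (by simpa using hgx)
    exact hg (e ▸ (inv_mem_iff.mp this))

theorem exists_conj (h : Ab A) {q : ℕ} (hq : q.Prime) (hd : ¬ q ∣ A.index) {y : G}
    (hy : Has q 𝐂[y]) : ∃ g : G, g⁻¹ * y * g ∈ A := by
  have := Fact.mk hq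
  obtain ⟨w, hw, ho, hZ⟩ := hy
  obtain ⟨g, hg⟩ := exists_conj_mem_of_not_dvd hd ho
  refine ⟨g, h.eq _ hg (by
    rwa [← Cls.index_centralizer_eq_one_iff, index_conj', Cls.index_centralizer_eq_one_iff]) ▸ ?_⟩
  have := Cls.mem_centralizer_single.mp hw
  rw [Cls.mem_centralizer_single]
  calc g⁻¹ * y * g * (g⁻¹ * w * g) = g⁻¹ * (y * w) * g := by group
    _ = _ := by rw [← this]; group

theorem index_eq (h : Ab A) {q : ℕ} (hq : q.Prime) (hd : ¬ q ∣ A.index) {y : G}
    (hZ : y ∉ center G) (hy : Has q 𝐂[y]) : 𝐂[y].index = A.index := by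
  obtain ⟨g, hg⟩ := h.exists_conj hq hd hy
  rw [← index_conj' g, h.eq _ hg (by
    rwa [← Cls.index_centralizer_eq_one_iff, index_conj', Cls.index_centralizer_eq_one_iff])]

/-- The hard configuration: `A = C(y)` with `y` second-central in a Sylow `p`-subgroup, the index
of `A` a `{p, r}`-number and no noncentral `p`-element commuting with a noncentral `r`-element. -/
theorem isSolvable_of_second {p q r : ℕ} [hp : Fact p.Prime] [hq : Fact q.Prime]
    [hr : Fact r.Prime] (hqp : q ≠ p) (hrp : r ≠ p) {P : Subgroup G} (hP : IsSylowIn p P ⊤)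
    {y : G} (hyP : y ∈ P) (hyZ : y ∉ center G) (hyp : y ^ p ∈ center G)
    (hyc : ∀ g ∈ P, y⁻¹ * (g * y * g⁻¹) ∈ center G) (h : Ab 𝐂[y]) (hqA : Has q 𝐂[y])
    (hpA : p ∣ 𝐂[y].index) (hidx : ∀ s : ℕ, s.Prime → s ∣ 𝐂[y].index → s = p ∨ s = r)
    (hpr : ∀ u : G, (∃ k, orderOf u = p ^ k) → u ∉ center G → ¬ Has r 𝐂[u]) :
    Group.IsSolvable G := by
  set f := QuotientGroup.mk' (center G) with hfdef
  have hf : Function.Surjective f := QuotientGroup.mk'_surjective _
  have hf1 : ∀ x : G, f x = 1 ↔ x ∈ center G := fun x => QuotientGroup.eq_one_iff x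
  have hcomm : ∀ g ∈ P, f g * f y = f y * f g := fun g hg => by
    have := (hf1 _).mpr (hyc g hg)
    rw [map_mul, map_mul, map_mul, map_inv, map_inv, inv_mul_eq_one] at this
    exact mul_inv_eq_iff_eq_mul.mp this.symm
  have hP' : IsSylowIn p (P.map f) ⊤ := by
    have := hP.map f
    rwa [map_top_of_surjective f hf] at this
  obtain ⟨g, hg, hgy⟩ := SetLike.not_le_iff_exists.mp fun hle : P ≤ 𝐂[y] =>
    not_dvd_index_of_isSylowIn_le hP hle hpA
  -- `O_r(G / Z) = 1`
  have hO : pCore r (G ⧸ center G) = ⊥ := by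
    by_contra hne
    have hEP : closure {f y, f g} ≤ P.map f := by
      rw [closure_le]
      rintro _ (rfl | rfl)
      · exact ⟨y, hyP, rfl⟩
      · exact ⟨g, hg, rfl⟩
    obtain ⟨e, he, he1, h2⟩ := exists_inf_centralizer_ne_bot (A := closure {f y, f g})
      (G := pCore r (G ⧸ center G)) (isMulCommutative_closure (by
        rintro _ (rfl | rfl) _ (rfl | rfl)
        · rfl
        · exact (hcomm g hg).symm
        · exact hcomm g hg
        · rfl)) (by
        intro hc
        obtain ⟨⟨c, hc1⟩, hc2⟩ := hc.exists_generator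
        obtain ⟨c, rfl⟩ := hf c
        obtain ⟨i, hi⟩ := hc2 ⟨f y, subset_closure (by simp)⟩
        obtain ⟨j, hj⟩ := hc2 ⟨f g, subset_closure (by simp)⟩
        have hi' : f c ^ i = f y := congrArg Subtype.val hi
        have hj' : f c ^ j = f g := congrArg Subtype.val hj
        have h1 : (c ^ i)⁻¹ * y ∈ center G := (hf1 _).mp (by
          rw [map_mul, map_inv, map_zpow, hi', inv_mul_cancel])
        have h2 : (c ^ j)⁻¹ * g ∈ center G := (hf1 _).mp (by
          rw [map_mul, map_inv, map_zpow, hj', inv_mul_cancel])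
        apply hgy
        have e1 : y = c ^ i * ((c ^ i)⁻¹ * y) := by group
        have e2 : g = c ^ j * ((c ^ j)⁻¹ * g) := by group
        rw [e1, Cls.centralizer_single_mul_center h1, e2]
        exact mul_mem (Cls.mem_centralizer_single_commute.mpr (Commute.zpow_zpow_self c j i))
          (Cls.center_le_centralizer_single _ h2))
      (by rw [normalizer_eq_top]; exact le_top)
      (by
        obtain ⟨k, hk⟩ := (Core.isPGroup_pCore (G := G ⧸ center G) r).exists_card_eq
        exact (coprime_card_of_isPGroup (hk ▸ coprime_of_ne_prime hr.out hrp)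
          (hP'.2.1.to_le hEP)).symm) hne
    obtain ⟨o, ho, ho1⟩ := (bot_or_exists_ne_one _).resolve_left h2
    obtain ⟨o, rfl⟩ := hf o
    obtain ⟨o', -, eo, hoo⟩ := Cls.exists_p_lift hr.out f o
      (Core.exists_orderOf_eq_pow_of_mem (Core.isPGroup_pCore r) (mem_inf.mp ho).1)
    obtain ⟨e, heP, rfl⟩ := hEP he
    have hoe := Core.exists_orderOf_eq_pow_of_mem hP.2.1 heP
    refine hpr e hoe (fun hZ => he1 ((hf1 e).mpr hZ)) ⟨o', Cls.mem_centralizer_single.mpr
      (commute_of_mk (coprime_orderOf hr.out hrp hoe hoo).symm ?_), hoo,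
      fun hZ => ho1 (eo ▸ (hf1 o').mpr hZ)⟩
    rw [← hfdef, eo]
    exact Cls.mem_centralizer_single.mp (mem_inf.mp ho).2
  -- the normal closure of `y` is a `p`-group modulo the centre
  have hk : ∃ a, 𝐂[f y].index = r ^ a := by
    refine Cls.eq_pow_of_forall_prime_eq index_ne_zero_of_finite fun s hs hd => ?_
    refine (hidx s hs (hd.trans (Cls.index_centralizer_map_dvd hf y))).resolve_left ?_
    rintro rfl
    refine not_dvd_index_of_isSylowIn_le hP' ?_ hd
    rintro _ ⟨g, hg, rfl⟩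
    exact Cls.mem_centralizer_single.mpr (hcomm g hg)
  set W := normalClosure ({f y} : Set (G ⧸ center G))
  have h2 : W ≤ 𝐂[f y] := normalClosure_le_of_forall_conj fun a => by
    have := S4364.result r (f y) hk a 1
    rw [hO, mem_bot] at this
    simp only [one_mul, inv_one, mul_one] at this
    rw [Cls.mem_centralizer_single]
    rwa [mul_inv_eq_one, mul_inv_eq_iff_eq_mul] at this
  have h3 : W ≤ centralizer (W : Set _) :=
    normalClosure_le_normal (Set.singleton_subset_iff.mpr (Cls.le_centralizer_single_iff.mp h2))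
  have hA : IsMulCommutative W :=
    Core.isMulCommutative_of_forall fun x hx y hy => (h3 hx y hy).symm
  have hW : IsPGroup p W := by
    have : W ≤ Core.powKer _ hA p :=
      normalClosure_le_of_forall_conj fun a => Core.mem_powKer.mpr
        ⟨normalClosure_normal.conj_mem (f y) (subset_normalClosure (Set.mem_singleton _)) a, by
          rw [conj_pow, ← map_pow, (hf1 _).mpr hyp]; group⟩
    exact Core.isPGroup_of_forall_mem fun x hx => ⟨1, by
      rw [pow_one]; exact (Core.mem_powKer.mp (this hx)).2⟩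
  have hWP : W ≤ P.map f := hP'.le_of_le_normalizer le_top hW
    (by rw [normalizer_eq_top]; exact le_top)
  have hPN : P ≤ normalizer (𝐂[y] : Set G) := fun g hg => h.mem_normalizer
    (Cls.self_mem_centralizer_single y) hyZ (by
      have := mul_mem (Cls.self_mem_centralizer_single y)
        (Cls.center_le_centralizer_single y (hyc g hg))
      rwa [mul_inv_cancel_left] at this)
  obtain ⟨a, ha, hoa, haZ⟩ := hqA
  obtain ⟨B, H, hS⟩ := h.split q
  have hN : 𝐂[y].Normal := by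
    rw [Core.normal_iff_top_le_normalizer]
    intro t _
    refine h.mem_normalizer (Cls.self_mem_centralizer_single y) hyZ ?_
    have hyW : f (t * y * t⁻¹) ∈ W := by
      rw [map_mul, map_mul, map_inv]
      exact normalClosure_normal.conj_mem (f y) (subset_normalClosure (Set.mem_singleton _)) _
    have hoy : ∃ k, orderOf (t * y * t⁻¹) = p ^ k := by
      rw [orderOf_conj]; exact Core.exists_orderOf_eq_pow_of_mem hP.2.1 hyP
    generalize t * y * t⁻¹ = y₁ at hyW hoy
    have hy₁ : y₁ ∈ normalizer (𝐂[y] : Set G) := by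
      obtain ⟨u, hu, e⟩ := hWP hyW
      have h4 : u⁻¹ * y₁ ∈ center G := (hf1 _).mp (by rw [map_mul, map_inv, e, inv_mul_cancel])
      have := mul_mem (hPN hu) (center_le_normalizer _ h4)
      rwa [mul_inv_cancel_left] at this
    have haB : a ∈ B := (hS.memB a).mpr ⟨ha, hoa⟩
    have hcB : a⁻¹ * (y₁ * a * y₁⁻¹) ∈ B :=
      mul_mem (inv_mem haB) (conj_mem_of_le_normalizer hS.normalizer_le_B hy₁ haB)
    have hcW : f (a⁻¹ * (y₁ * a * y₁⁻¹)) ∈ W := by
      have := mul_mem (normalClosure_normal.conj_mem _ hyW (f a)⁻¹) (inv_mem hyW)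
      rw [map_mul, map_mul, map_mul, map_inv, map_inv]
      convert this using 1
      group
    have hc1 : f (a⁻¹ * (y₁ * a * y₁⁻¹)) = 1 := by
      obtain ⟨k, hk⟩ := (hS.isPGroup.map f).exists_card_eq
      exact mem_bot.mp (Core.inf_eq_bot_of_isPGroup_of_coprime hW
        (hk ▸ coprime_of_ne_prime hq.out hqp) ▸ mem_inf.mpr ⟨hcW, _, hcB, rfl⟩)
    have := eq_one_of_conj_eq_mul ((hf1 _).mp hc1) (by group) (coprime_orderOf hq.out hqp hoy hoa)
    rw [inv_mul_eq_one] at this
    exact h.eq a ha haZ ▸ Cls.mem_centralizer_single.mpr (mul_inv_eq_iff_eq_mul.mp this.symm)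
  exact Cls.isSolvable_of_normal_of_quotient 𝐂[y] (Cls.isSolvable_of_isMulCommutative h.comm)
    (Char.solvable_of_two_primes hp.out hr.out hidx)

end Ab

/-- No proper inclusion between centralizers of noncentral elements. -/
def IsF (G : Type*) [Group G] : Prop :=
  ∀ x y : G, y ∉ center G → 𝐂[x] ≤ 𝐂[y] → 𝐂[x] = 𝐂[y]

theorem IsF.le (h : IsF G) {x v : G} (hx : x ∉ center G) (hv : v ∈ 𝐂[x])
    (hc : (orderOf x).Coprime (orderOf v)) : 𝐂[x] ≤ 𝐂[v] := by
  have e := Cls.centralizer_single_mul (Cls.mem_centralizer_single_commute.mp hv).symm hc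
  rw [← h (x * v) x hx (e ▸ inf_le_left), e]
  exact inf_le_right

theorem IsF.ab (h : IsF G) {x : G} (hx : x ∉ center G) {p q : ℕ} (hp : p.Prime) (hq : q.Prime)
    (hpq : p ≠ q) (h1 : Has p 𝐂[x]) (h2 : Has q 𝐂[x]) : Ab 𝐂[x] := by
  obtain ⟨r, hr, u, hu, hou, huZ⟩ := exists_prime_pow_not_mem hx
  have e := h x u huZ (Cls.centralizer_single_le_of_mem_zpowers hu)
  obtain ⟨t, ht, htr, v, hv, hov, hvZ⟩ : ∃ t : ℕ, t.Prime ∧ t ≠ r ∧ Has t 𝐂[x] := by
    by_cases hpr : p = r
    · exact ⟨q, hq, fun e => hpq (hpr.trans e.symm), h2⟩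
    · exact ⟨p, hp, hpr, h1⟩
  have := Fact.mk hr
  have := Fact.mk ht
  have e' : 𝐂[u] = 𝐂[v] := h u v hvZ (h.le huZ (e ▸ hv) (coprime_orderOf ht htr hou hov))
  have key : ∀ d ∈ 𝐂[x], 𝐂[x] ≤ 𝐂[d] := by
    intro d hd
    refine Cls.le_centralizer_single_iff.mpr (Cls.mem_of_forall_prime_pow fun s hs w hw how => ?_)
    have hwx : w ∈ 𝐂[x] := (zpowers_le.mpr hd) hw
    refine Cls.le_centralizer_single_iff.mp ?_
    by_cases hsr : s = r
    · rw [e, e']
      exact h.le hvZ (e' ▸ e ▸ hwx) (coprime_orderOf hs (hsr ▸ htr.symm) hov how)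
    · rw [e]
      exact h.le huZ (e ▸ hwx) (coprime_orderOf hs hsr hou how)
  exact ⟨key, fun d hd hZ => (h x d hZ (key d hd)).symm⟩

/-- The centralizer of `x` has noncentral elements for two primes. -/
def Mixed (x : G) : Prop := ∃ p q : ℕ, p.Prime ∧ q.Prime ∧ p ≠ q ∧ Has p 𝐂[x] ∧ Has q 𝐂[x]

theorem IsF.ab' (h : IsF G) {x : G} (hx : x ∉ center G) (hm : Mixed x) : Ab 𝐂[x] := by
  obtain ⟨p, q, hp, hq, hpq, h1, h2⟩ := hm
  exact h.ab hx hp hq hpq h1 h2

theorem IsF.exists_not_dvd (h : IsF G) {x : G} (hx : x ∉ center G) (hm : Mixed x) :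
    ∃ q : ℕ, q.Prime ∧ Has q 𝐂[x] ∧ ¬ q ∣ 𝐂[x].index := by
  have hA := h.ab' hx hm
  obtain ⟨p, q, hp, hq, hpq, h1, h2⟩ := hm
  by_cases hd : p ∣ 𝐂[x].index
  · exact ⟨q, hq, h2, fun hd' => hpq (hA.eq_of_dvd hp hq h1 hd h2 hd')⟩
  · exact ⟨p, hp, h1, hd⟩

theorem has_of_index_eq {s : ℕ} (hs : s.Prime) {x y : G} (h : Has s 𝐂[y])
    (e : 𝐂[x].index = 𝐂[y].index) : Has s 𝐂[x] :=
  h.of_factorization hs (Cls.center_le_centralizer_single y) (by rw [e])

theorem IsF.isSolvable_of_mixed (h : IsF G) {x y : G} (hx : x ∉ center G) (hy : y ∉ center G)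
    (hne : 𝐂[y].index ≠ 𝐂[x].index)
    (hidx : ∀ u : G, u ∉ center G → 𝐂[u].index = 𝐂[x].index ∨ 𝐂[u].index = 𝐂[y].index)
    (hm : Mixed x) : Group.IsSolvable G := by
  have hA := h.ab' hx hm
  obtain ⟨q, hq, hqA, hqd⟩ := h.exists_not_dvd hx hm
  by_cases hm' : Mixed y
  · have hB := h.ab' hy hm'
    obtain ⟨q', hq', hqB, hqd'⟩ := h.exists_not_dvd hy hm'
    by_contra hns
    refine not_cover (fun e => hns (hA.isSolvable_of_eq hqA e))
      (fun e => hns (hB.isSolvable_of_eq hqB e)) fun u => ?_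
    by_cases hu : u ∈ center G
    · exact Or.inl ⟨1, by simpa using Cls.center_le_centralizer_single x hu⟩
    exact (hidx u hu).imp (fun e => hA.exists_conj hq hqd (has_of_index_eq hq hqA e))
      fun e => hB.exists_conj hq' hqd' (has_of_index_eq hq' hqB e)
  obtain ⟨r, hr, hrB⟩ := has_self hy
  have hself : ∀ {s : ℕ} {u : G}, (∃ k, orderOf u = s ^ k) → u ∉ center G → Has s 𝐂[u] :=
    fun ho hu => ⟨_, Cls.self_mem_centralizer_single _, ho, hu⟩
  have hB : ∀ s : ℕ, s.Prime → Has s 𝐂[y] → s = r := fun s hs h1 => by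
    by_contra hsr
    exact hm' ⟨s, r, hs, hr, hsr, h1, hrB⟩
  by_cases hall : ∀ s : ℕ, s.Prime → s ∣ 𝐂[x].index → s = r
  · obtain ⟨k, hk⟩ := Cls.eq_pow_of_forall_prime_eq index_ne_zero_of_finite hall
    exact Cls.isSolvable_of_abelian_of_index_prime_pow hr hA.comm hk
  push Not at hall
  obtain ⟨p, hp, hpd, hpr⟩ := hall
  have hu : ∀ s : ℕ, s.Prime → s ≠ r → ∀ u : G, (∃ k, orderOf u = s ^ k) → u ∉ center G →
      𝐂[u].index = 𝐂[x].index := fun s hs hsr u ho hu =>
    (hidx u hu).resolve_right fun e => hsr (hB s hs (has_of_index_eq hs (hself ho hu) e.symm))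
  have hhas : ∀ s : ℕ, s.Prime → s ≠ r → s ∣ 𝐂[x].index → Has s 𝐂[x] := fun s hs hsr hd => by
    obtain ⟨u, -, ho, huZ⟩ := has_top_of_dvd hs (Cls.center_le_centralizer_single x) hd
    exact has_of_index_eq hs (hself ho huZ) (hu s hs hsr u ho huZ).symm
  have hrd : r ∣ 𝐂[x].index := by
    by_contra hd
    exact hne (hA.index_eq hr hd hy hrB)
  have hrA : ¬ Has r 𝐂[x] := fun h1 => hpr (hA.eq_of_dvd hp hr (hhas p hp hpr hpd) hpd h1 hrd)
  have := Fact.mk hp
  have := Fact.mk hq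
  have := Fact.mk hr
  obtain ⟨P, hP⟩ := exists_isSylowIn p (⊤ : Subgroup G)
  obtain ⟨y₀, hyP, hyZ, hyp, hyc⟩ := exists_second_central hP.2.1 hP.2.1 le_normalizer fun hle =>
    not_dvd_index_of_isSylowIn_le hP (hle.trans (Cls.center_le_centralizer_single x)) hpd
  have hoy := Core.exists_orderOf_eq_pow_of_mem hP.2.1 hyP
  have e := hu p hp hpr y₀ hoy hyZ
  have hqp : q ≠ p := fun e => hqd (e ▸ hpd)
  refine Ab.isSolvable_of_second hqp hpr.symm hP hyP hyZ hyp hyc
    (h.ab hyZ hp hq hqp.symm (hself hoy hyZ) (has_of_index_eq hq hqA e))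
    (has_of_index_eq hq hqA e) (e ▸ hpd) (fun s hs hd => ?_)
    fun u ho huZ h1 => hrA (has_of_index_eq hr h1 (hu p hp hpr u ho huZ).symm)
  rw [e] at hd
  by_cases hsr : s = r
  · exact Or.inr hsr
  · exact Or.inl (hA.eq_of_dvd hs hp (hhas s hs hsr hd) hd (hhas p hp hpr hpd) hpd)

theorem IsF.isSolvable (h : IsF G) {x y : G} (hx : x ∉ center G) (hy : y ∉ center G)
    (hne : 𝐂[y].index ≠ 𝐂[x].index)
    (hidx : ∀ u : G, u ∉ center G → 𝐂[u].index = 𝐂[x].index ∨ 𝐂[u].index = 𝐂[y].index) :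
    Group.IsSolvable G := by
  by_cases hm : Mixed x
  · exact h.isSolvable_of_mixed hx hy hne hidx hm
  by_cases hm' : Mixed y
  · exact h.isSolvable_of_mixed hy hx hne.symm (fun u hu => (hidx u hu).symm) hm'
  obtain ⟨p, hp, hpx⟩ := has_self hx
  obtain ⟨q, hq, hqy⟩ := has_self hy
  refine isSolvable_of_two hp hq ?_
  rintro s hs ⟨u, -, ho, hu⟩
  have h1 : Has s 𝐂[u] := ⟨_, Cls.self_mem_centralizer_single _, ho, hu⟩
  refine (hidx u hu).imp (fun e => ?_) fun e => ?_
  · by_contra hsp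
    exact hm ⟨s, p, hs, hp, hsp, has_of_index_eq hs h1 e.symm, hpx⟩
  · by_contra hsq
    exact hm' ⟨s, q, hs, hq, hsq, has_of_index_eq hs h1 e.symm, hqy⟩

end Cfsg.Agent.FGroup
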