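import Mathlib
import Cfsg.Agent.Lib.Core.Basic
import Cfsg.Agent.Lib.Transfer.SylowIn
import Cfsg.Agent.Lib.Transfer.Alperin

/-!
# Groups in which every 2-element is 2-central have abelian Sylow 2-subgroups
-/

set_option autoImplicit false
set_option linter.unusedSectionVars false

namespace Cfsg.Agent.Cls

open Cfsg Subgroup Cfsg.Agent.Transfer
open scoped Pointwise

universe u

section
variable {G : Type u} [Group G]

/-- the `m`-th powers of the central elements of `S` -/
def centPow (S : Subgroup G) (m : ℕ) : Subgroup G where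
  carrier := {b | ∃ w ∈ S, (∀ d ∈ S, w * d = d * w) ∧ b = w ^ m}
  one_mem' := ⟨1, S.one_mem, by simp, by simp⟩
  mul_mem' := by
    rintro _ _ ⟨w, hw, hw', rfl⟩ ⟨v, hv, hv', rfl⟩
    refine ⟨w * v, S.mul_mem hw hv, fun d hd => ?_, ?_⟩
    · rw [mul_assoc, hv' d hd, ← mul_assoc, hw' d hd, mul_assoc]
    · exact ((show Commute w v from hw' v hv).mul_pow m).symm
  inv_mem' := by
    rintro _ ⟨w, hw, hw', rfl⟩
    refine ⟨w⁻¹, S.inv_mem hw, fun d hd => ?_, by simp⟩
    exact ((show Commute w d from hw' d hd).inv_left).eq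

theorem mem_centPow {S : Subgroup G} {m : ℕ} {b : G} :
    b ∈ centPow S m ↔ ∃ w ∈ S, (∀ d ∈ S, w * d = d * w) ∧ b = w ^ m := Iff.rfl

theorem centPow_le (S : Subgroup G) (m : ℕ) : centPow S m ≤ S := by
  rintro _ ⟨w, hw, -, rfl⟩
  exact S.pow_mem hw m

theorem centPow_comm {S : Subgroup G} {m : ℕ} {b d : G} (hb : b ∈ centPow S m) (hd : d ∈ S) :
    b * d = d * b := by
  obtain ⟨w, -, hw', rfl⟩ := hb
  exact ((show Commute w d from hw' d hd).pow_left m).eq

theorem conj_mem_centPow {S : Subgroup G} {m : ℕ} {b g : G}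
    (hg : g ∈ normalizer (S : Set G)) (hb : b ∈ centPow S m) : g * b * g⁻¹ ∈ centPow S m := by
  obtain ⟨w, hw, hw', rfl⟩ := hb
  refine ⟨g * w * g⁻¹, (mem_normalizer_iff.mp hg w).mp hw, fun d hd => ?_, by rw [conj_pow]⟩
  have hd' : g⁻¹ * d * g ∈ S := by
    have := (mem_normalizer_iff.mp (inv_mem hg) d).mp hd
    simpa using this
  have := hw' _ hd'
  calc g * w * g⁻¹ * d = g * (w * (g⁻¹ * d * g)) * g⁻¹ := by group
    _ = g * ((g⁻¹ * d * g) * w) * g⁻¹ := by rw [this]
    _ = d * (g * w * g⁻¹) := by group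

theorem normalizer_le_normalizer_centPow [Finite G] (S : Subgroup G) (m : ℕ) :
    normalizer (S : Set G) ≤ normalizer ((centPow S m : Subgroup G) : Set G) :=
  fun _ hg => mem_normalizer_of_conj_mem fun _ hb => conj_mem_centPow hg hb

/-- `g` acts on `A` as an element of `H` -/
def ActsAs (H A : Subgroup G) (g : G) : Prop := ∃ h ∈ H, ∀ x ∈ A, g * x * g⁻¹ = h * x * h⁻¹

theorem ActsAs.mono {H A B : Subgroup G} {g : G} (h : ActsAs H B g) (hAB : A ≤ B) :
    ActsAs H A g := by
  obtain ⟨k, hk, h⟩ := h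
  exact ⟨k, hk, fun x hx => h x (hAB hx)⟩

theorem ActsAs.comp {H A B : Subgroup G} {g h : G} (h1 : ActsAs H A g) (h2 : ActsAs H B h)
    (hAB : MulAut.conj g • A ≤ B) : ActsAs H A (h * g) := by
  obtain ⟨k, hk, h1⟩ := h1
  obtain ⟨l, hl, h2⟩ := h2
  refine ⟨l * k, H.mul_mem hl hk, fun x hx => ?_⟩
  have := h2 _ (hAB (conj_mem_conj_smul (g := g) hx))
  calc h * g * x * (h * g)⁻¹ = h * (g * x * g⁻¹) * h⁻¹ := by group
    _ = l * (g * x * g⁻¹) * l⁻¹ := this
    _ = l * (k * x * k⁻¹) * l⁻¹ := by rw [h1 x hx]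
    _ = _ := by group

theorem actsAs_of_mem {H A : Subgroup G} {g : G} (hg : g ∈ H) : ActsAs H A g :=
  ⟨g, hg, fun _ _ => rfl⟩

theorem exists_sq_mem {D T : Subgroup G} (hT : IsPGroup 2 T) (h : ¬ T ≤ D) :
    ∃ s ∈ T, s ∉ D ∧ s * s ∈ D := by
  obtain ⟨t, ht, htD⟩ := SetLike.not_le_iff_exists.mp h
  obtain ⟨k, hk⟩ := hT ⟨t, ht⟩
  have hk' : t ^ 2 ^ k ∈ D := by
    have : t ^ 2 ^ k = 1 := by simpa using congrArg Subtype.val hk
    rw [this]; exact D.one_mem
  clear hk
  induction k with
  | zero => exact absurd (by simpa using hk') htD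
  | succ k ih =>
    by_cases h2 : t ^ 2 ^ k ∈ D
    · exact ih h2
    · exact ⟨t ^ 2 ^ k, T.pow_mem ht _, h2, by rwa [← pow_add, ← two_mul, ← pow_succ']⟩

variable [Finite G]

theorem actsAs_of_frattini {p : ℕ} [Fact p.Prime] {S D K H : Subgroup G}
    (hDS : D ≤ S) (hS : IsSylowIn p (S ⊓ normalizer (D : Set G)) (normalizer (D : Set G)))
    (hKN : K ≤ normalizer (D : Set G))
    (hNK : normalizer (D : Set G) ≤ normalizer (K : Set G)) (hnot : ¬ S ⊓ K ≤ D)
    (hK : ∀ k ∈ K, ActsAs H D k)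
    (ih : ∀ A g, D < A → A ≤ S → MulAut.conj g • A ≤ S → ActsAs H A g)
    {x : G} (hx : x ∈ normalizer (D : Set G)) : ActsAs H D x := by
  have h1 := hS.inf_of_le_normalizer hNK
  rw [inf_eq_right.mpr hKN, inf_assoc, inf_eq_right.mpr hKN] at h1
  obtain ⟨k, hk, y, hy, rfl⟩ := h1.frattini hNK hx
  have hyD : y ∈ normalizer (D : Set G) := by
    have := mul_mem (inv_mem (hKN hk)) hx
    simpa using this
  have h2 : ActsAs H (D ⊔ (S ⊓ K)) y := by
    refine ih _ _ (left_lt_sup.mpr hnot) (sup_le hDS inf_le_left) ?_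
    rw [Subgroup.smul_sup, conj_smul_eq_iff_mem_normalizer.mpr hyD,
      conj_smul_eq_iff_mem_normalizer.mpr hy]
    exact sup_le hDS inf_le_left
  exact (h2.mono le_sup_left).comp (hK k hk) (conj_smul_eq_iff_mem_normalizer.mpr hyD).le

/-- If `x ^ (2 m) = 1` on a Sylow 2-subgroup `S`, the normalizer of the group of `m`-th powers of
central elements of `S` controls fusion in `S`. -/
theorem actsAs_normalizer_centPow (S : Sylow 2 G) {m : ℕ} (hm : ∀ x ∈ (S : Subgroup G), x ^ (2 * m) = 1)
    {A : Subgroup G} {g : G} (hA : A ≤ S) (hg : MulAut.conj g • A ≤ S) :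
    ActsAs (normalizer ((centPow (S : Subgroup G) m : Subgroup G) : Set G)) A g := by
  set H := normalizer ((centPow (S : Subgroup G) m : Subgroup G) : Set G) with hH
  have key : ∀ j n : ℕ, Nat.card (S : Subgroup G) + 1 = n + j → ∀ (A : Subgroup G) (g : G), A ≤ S →
      MulAut.conj g • A ≤ S → n ≤ Nat.card A → ActsAs H A g := by
    intro j
    induction j with
    | zero =>
      intro n hn A g hA _ hc
      have := Subgroup.card_le_of_le hA
      omega
    | succ j ih =>
      intro n hn A g hA hg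
      refine alperin_induction S (T := fun A g => n ≤ Nat.card A → ActsAs H A g) ⟨?_, ?_, ?_⟩ ?_ hA hg
      · intro A B g hAB hB hc
        exact (hB (hc.trans (Subgroup.card_le_of_le hAB))).mono hAB
      · intro A B g h hA hB hAB hc
        refine (hA hc).comp (hB (hc.trans ?_)) hAB
        rw [← card_conj_smul g A]
        exact Subgroup.card_le_of_le hAB
      · intro y hy _
        exact actsAs_of_mem (normalizer_le_normalizer_centPow _ m hy)
      · intro Q hQ x hx _ hc
        set D := (S : Subgroup G) ⊓ Q with hD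
        have hDS : D ≤ S := inf_le_left
        have hSy : IsSylowIn 2 ((S : Subgroup G) ⊓ normalizer (D : Set G)) (normalizer (D : Set G)) :=
          (isSylowIn_inf_iff S.2).mpr hQ.1
        have ih' : ∀ A g, D < A → A ≤ S → MulAut.conj g • A ≤ S → ActsAs H A g := by
          intro A g h1 h2 h3
          have := Core.card_lt_card_of_lt h1
          exact ih (n + 1) (by omega) A g h2 h3 (by omega)
        rcases hDS.lt_or_eq with hlt | heq
        swap
        · rw [heq] at hx
          exact actsAs_of_mem (normalizer_le_normalizer_centPow _ m hx)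
        by_cases hC : (S : Subgroup G) ⊓ centralizer (D : Set G) ≤ D
        · have hle : centPow (S : Subgroup G) m ≤ centPow D m := by
            rintro _ ⟨w, hw, hw', rfl⟩
            refine ⟨w, hC ⟨hw, fun d hd => (hw' d (hDS hd)).symm⟩, fun d hd => hw' d (hDS hd), rfl⟩
          refine actsAs_of_frattini (p := 2)
            (K := normalizer (D : Set G) ⊓ centralizer ((centPow D m : Subgroup G) : Set G))
            hDS hSy inf_le_left ?_ ?_ ?_ ih' hx
          · intro y hy
            refine mem_normalizer_of_conj_mem ?_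
            rintro k ⟨hk1, hk2⟩
            have hk1' : k ∈ normalizer (D : Set G) := hk1
            refine ⟨Subgroup.mul_mem _ (Subgroup.mul_mem _ hy hk1') (Subgroup.inv_mem _ hy), fun b hb => ?_⟩
            have := hk2 _ (conj_mem_centPow (inv_mem hy) hb)
            calc b * (y * k * y⁻¹) = y * (y⁻¹ * b * y⁻¹⁻¹ * k) * y⁻¹ := by group
              _ = y * (k * (y⁻¹ * b * y⁻¹⁻¹)) * y⁻¹ := by rw [this]
              _ = _ := by group
          · intro hle'
            have h1 := lt_inf_normalizer_of_lt S.2 hlt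
            obtain ⟨s, ⟨hsS, hsN⟩, hsD, hs2⟩ := exists_sq_mem (D := D) S.2.to_inf_left (not_le_of_gt h1)
            refine hsD (hle' ⟨hsS, hsN, ?_⟩)
            rintro _ ⟨w, hw, hw', rfl⟩
            have hw2 : s⁻¹ * w * s ∈ D := by
              have := (mem_normalizer_iff.mp (inv_mem hsN) w).mp hw
              simpa using this
            have hw3 : ∀ d ∈ D, Commute (s⁻¹ * w * s) d := by
              intro d hd
              have hd' : s * d * s⁻¹ ∈ D := (mem_normalizer_iff.mp hsN d).mp hd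
              have := hw' _ hd'
              show s⁻¹ * w * s * d = d * (s⁻¹ * w * s)
              calc s⁻¹ * w * s * d = s⁻¹ * (w * (s * d * s⁻¹)) * s := by group
                _ = s⁻¹ * ((s * d * s⁻¹) * w) * s := by rw [this]
                _ = _ := by group
            have e1 : (s * w) ^ 2 = (s * s) * ((s⁻¹ * w * s) * w) := by rw [pow_two]; group
            have e2 := hm (s * w) (mul_mem hsS (hDS hw))
            have c1 : Commute (s * s) ((s⁻¹ * w * s) * w) :=
              Commute.mul_right (hw3 _ hs2).symm (show Commute w (s * s) from hw' _ hs2).symm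
            rw [pow_mul, e1, c1.mul_pow, (hw3 w hw).mul_pow, ← pow_two, ← pow_mul, hm s hsS,
              one_mul] at e2
            have e3 := hm w (hDS hw)
            rw [two_mul, pow_add, ← e2, mul_left_inj] at e3
            have e4 : (s⁻¹ * w * s) ^ m = s⁻¹ * w ^ m * s := by
              have := conj_pow (a := s⁻¹) (b := w) (i := m)
              simpa using this
            rw [e4] at e3
            show w ^ m * s = s * w ^ m
            calc w ^ m * s = s * (s⁻¹ * w ^ m * s) := by group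
              _ = s * w ^ m := by rw [← e3]
          · rintro k ⟨-, hk⟩
            refine actsAs_of_mem (Subgroup.centralizer_le_normalizer _ ?_)
            exact fun b hb => hk b (hle hb)
        · refine actsAs_of_frattini (p := 2) (K := centralizer (D : Set G))
            hDS hSy (Subgroup.centralizer_le_normalizer _) ?_ hC ?_ ih' hx
          · intro y hy
            rw [← conj_smul_eq_iff_mem_normalizer, ← centralizer_conj_smul,
              conj_smul_eq_iff_mem_normalizer.mpr hy]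
          · intro k hk
            refine ⟨1, H.one_mem, fun d hd => ?_⟩
            rw [← hk d hd]; group
  exact key (Nat.card (S : Subgroup G) + 1) 0 (by omega) A g hA hg (Nat.zero_le _)

end

/-- If every element of a Sylow 2-subgroup `S` is conjugate to a central element of `S`, then `S`
is abelian. -/
theorem comm_of_forall_conj_central (G : Type u) [Group G] [Finite G] :
    ∀ (S : Sylow 2 G), (∀ x ∈ (S : Subgroup G), ∃ g : G, g * x * g⁻¹ ∈ (S : Subgroup G) ∧
      ∀ s ∈ (S : Subgroup G), s * (g * x * g⁻¹) = (g * x * g⁻¹) * s) →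
      ∀ x ∈ (S : Subgroup G), ∀ y ∈ (S : Subgroup G), x * y = y * x := by
  refine Core.induction_on_card (P := fun G _ _ => ∀ (S : Sylow 2 G), (∀ x ∈ (S : Subgroup G),
      ∃ g : G, g * x * g⁻¹ ∈ (S : Subgroup G) ∧
      ∀ s ∈ (S : Subgroup G), s * (g * x * g⁻¹) = (g * x * g⁻¹) * s) →
      ∀ x ∈ (S : Subgroup G), ∀ y ∈ (S : Subgroup G), x * y = y * x) ?_ G
  intro G _ _ ih S hS
  -- the exponent
  obtain ⟨e, he⟩ : ∃ e, Monoid.exponent (S : Subgroup G) = 2 ^ e := by
    obtain ⟨n, hn⟩ := IsPGroup.iff_card.mp S.2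
    have := Group.exponent_dvd_nat_card (G := (S : Subgroup G))
    rw [hn] at this
    obtain ⟨e, -, he⟩ := (Nat.dvd_prime_pow Nat.prime_two).mp this
    exact ⟨e, he⟩
  have hpow : ∀ x ∈ (S : Subgroup G), x ^ 2 ^ e = 1 := by
    intro x hx
    have := Monoid.pow_exponent_eq_one (⟨x, hx⟩ : (S : Subgroup G))
    rw [he] at this
    simpa using congrArg Subtype.val this
  rcases e with _ | e
  · intro x hx y hy
    have h1 := hpow x hx
    simp only [pow_zero, pow_one] at h1
    simp [h1]
  have hm : ∀ x ∈ (S : Subgroup G), x ^ (2 * 2 ^ e) = 1 := by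
    intro x hx; rw [← pow_succ']; exact hpow x hx
  set A := centPow (S : Subgroup G) (2 ^ e) with hA
  have hA1 : A ≠ ⊥ := by
    intro hbot
    have : Monoid.exponent (S : Subgroup G) ∣ 2 ^ e := by
      apply Monoid.exponent_dvd_of_forall_pow_eq_one
      rintro ⟨x, hx⟩
      obtain ⟨g, hg1, hg2⟩ := hS x hx
      have : (g * x * g⁻¹) ^ 2 ^ e ∈ A := ⟨_, hg1, fun d hd => (hg2 d hd).symm, rfl⟩
      rw [hbot, mem_bot, conj_pow] at this
      ext
      simpa using this
    rw [he] at this
    have := (Nat.pow_dvd_pow_iff_le_right (by norm_num : 1 < 2)).mp this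
    omega
  set H := normalizer (A : Set G) with hH
  have hSH : (S : Subgroup G) ≤ H := le_normalizer.trans (normalizer_le_normalizer_centPow _ _)
  have hS' : ∀ x ∈ (S : Subgroup G), ∃ g ∈ H, g * x * g⁻¹ ∈ (S : Subgroup G) ∧
      ∀ s ∈ (S : Subgroup G), s * (g * x * g⁻¹) = (g * x * g⁻¹) * s := by
    intro x hx
    obtain ⟨g, hg1, hg2⟩ := hS x hx
    obtain ⟨h, hh, hh2⟩ := actsAs_normalizer_centPow S hm (A := zpowers x) (g := g)
      (zpowers_le.mpr hx) (by
        rw [conj_smul_le_iff]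
        rintro _ ⟨k, rfl⟩
        have := zpow_mem hg1 k
        rwa [conj_zpow] at this)
    have := hh2 x (mem_zpowers x)
    exact ⟨h, hh, this ▸ hg1, this ▸ hg2⟩
  by_cases hHtop : H = ⊤
  · have : A.Normal := normalizer_eq_top_iff.mp hHtop
    have hcard : Nat.card (G ⧸ A) < Nat.card G := Core.card_quotient_lt hA1
    have hsurj := QuotientGroup.mk'_surjective A
    set Sb := S.mapSurjective hsurj with hSb
    have hSbc : (Sb : Subgroup (G ⧸ A)) = (S : Subgroup G).map (QuotientGroup.mk' A) := rfl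
    have hcomm := ih (G ⧸ A) hcard Sb (by
      rintro _ ⟨x, hx, rfl⟩
      obtain ⟨g, hg1, hg2⟩ := hS x hx
      refine ⟨QuotientGroup.mk' A g, ⟨_, hg1, by simp⟩, ?_⟩
      rintro _ ⟨s, hs, rfl⟩
      simpa using congrArg (QuotientGroup.mk' A) (hg2 s hs))
    intro x hx y hy
    obtain ⟨g, hg1, hg2⟩ := hS x hx
    obtain ⟨n, hn, hn2⟩ := Sb.conj_eq_normalizer_conj_of_mem_centralizer (QuotientGroup.mk' A x)
      (QuotientGroup.mk' A g⁻¹) (fun z hz => hcomm z hz _ ⟨x, hx, rfl⟩)
      (fun z hz => hcomm z hz _ ⟨_, hg1, by simp⟩)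
    obtain ⟨n, rfl⟩ := hsurj n
    have hAS : A ≤ S := centPow_le _ _
    have hlift : ∀ z, QuotientGroup.mk' A z ∈ (Sb : Subgroup (G ⧸ A)) → z ∈ (S : Subgroup G) := by
      rintro z ⟨w, hw, hwz⟩
      have : w⁻¹ * z ∈ A := QuotientGroup.eq.mp hwz
      simpa using mul_mem hw (hAS this)
    have h1 : (g * x * g⁻¹)⁻¹ * (n⁻¹ * x * n) ∈ A := by
      apply QuotientGroup.eq.mp
      simpa using hn2
    have h2 : n⁻¹ * y * n ∈ (S : Subgroup G) := by
      apply hlift
      have := (mem_normalizer_iff.mp (inv_mem hn) (QuotientGroup.mk' A y)).mp ⟨y, hy, rfl⟩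
      simpa using this
    have h3 := centPow_comm h1 h2
    have h4 := hg2 _ h2
    have h5 : (n⁻¹ * x * n) * (n⁻¹ * y * n) = (n⁻¹ * y * n) * (n⁻¹ * x * n) := by
      calc (n⁻¹ * x * n) * (n⁻¹ * y * n)
          = (g * x * g⁻¹) * (((g * x * g⁻¹)⁻¹ * (n⁻¹ * x * n)) * (n⁻¹ * y * n)) := by group
        _ = ((g * x * g⁻¹) * (n⁻¹ * y * n)) * ((g * x * g⁻¹)⁻¹ * (n⁻¹ * x * n)) := by
            rw [h3]; group
        _ = _ := by rw [← h4]; group
    calc x * y = n * ((n⁻¹ * x * n) * (n⁻¹ * y * n)) * n⁻¹ := by group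
      _ = y * x := by rw [h5]; group
  · have hcard : Nat.card H < Nat.card G := Core.card_lt_of_ne_top hHtop
    have hcomm := ih H hcard (S.subtype hSH) (by
      rintro ⟨x, hxH⟩ hx
      have hx' : x ∈ (S : Subgroup G) := hx
      obtain ⟨g, hg, hg1, hg2⟩ := hS' x hx'
      refine ⟨⟨g, hg⟩, hg1, ?_⟩
      rintro ⟨s, hsH⟩ hs
      exact Subtype.ext (hg2 s hs))
    intro x hx y hy
    exact congrArg Subtype.val (hcomm ⟨x, hSH hx⟩ hx ⟨y, hSH hy⟩ hy)

/-- Camina–Herzog. -/
theorem isMulCommutative_sylow_two_of_forall_central {G : Type u} [Group G] [Finite G]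
    (P : Sylow 2 G)
    (h : ∀ x : G, (∃ k : ℕ, orderOf x = 2 ^ k) →
      ∃ Q : Sylow 2 G, (Q : Subgroup G) ≤ centralizer ({x} : Set G)) :
    IsMulCommutative (P : Subgroup G) := by
  have := comm_of_forall_conj_central G P (by
    intro x hx
    obtain ⟨k, hk⟩ := IsPGroup.iff_orderOf.mp P.2 ⟨x, hx⟩
    obtain ⟨Q, hQ⟩ := h x ⟨k, by rw [← hk, Subgroup.orderOf_mk]⟩
    obtain ⟨g, hg⟩ := MulAction.exists_smul_eq G Q P
    have hc : ∀ s ∈ (P : Subgroup G), s * (g * x * g⁻¹) = (g * x * g⁻¹) * s := by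
      intro s hs
      rw [← hg, mem_sylow_smul_iff] at hs
      have := hQ hs x rfl
      calc s * (g * x * g⁻¹) = g * ((g⁻¹ * s * g) * x) * g⁻¹ := by group
        _ = g * (x * (g⁻¹ * s * g)) * g⁻¹ := by rw [this]
        _ = _ := by group
    refine ⟨g, ?_, hc⟩
    have hz : IsPGroup 2 (zpowers (g * x * g⁻¹)) := by
      apply IsPGroup.of_card (n := k)
      rw [Nat.card_zpowers, ← hk, Subgroup.orderOf_mk]
      exact (MulAut.conj g).orderOf_eq x
    have hn : zpowers (g * x * g⁻¹) ≤ normalizer ((P : Subgroup G) : Set G) :=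
      zpowers_le.mpr (Subgroup.centralizer_le_normalizer _ hc)
    have h2 := P.3 (IsPGroup.to_sup_of_normal_right' hz P.2 hn) le_sup_right
    exact h2 ▸ (le_sup_left : zpowers (g * x * g⁻¹) ≤ _) (mem_zpowers _))
  exact ⟨⟨fun a b => Subtype.ext (this a a.2 b b.2)⟩⟩

end Cfsg.Agent.Cls
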