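import Mathlib
import Cfsg.Agent.Lib.Cls.FGroup
import Cfsg.Agent.Lib.Cls.Solv
import Cfsg.Agent.S4033
import Cfsg.Agent.S4034

/-!
# Cls/TwoSizes: groups whose primary elements have class size `1` or `m`
-/

set_option autoImplicit false
set_option linter.unusedSectionVars false

namespace Cfsg.Agent.TwoSizes

open Cfsg Subgroup Cfsg.Agent.Coprime Cfsg.Agent.Split Cfsg.Agent.FGroup
open scoped commutatorElement

local notation "𝐂[" x "]" => Subgroup.centralizer ({x} : Set _)

variable {G : Type*} [Group G] [Finite G] {p : ℕ} [hp : Fact p.Prime]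

theorem relIndex_sup_normal (K N : Subgroup G) [N.Normal] :
    K.relIndex (K ⊔ N) = K.relIndex N := by
  have h1 := Core.card_sup_mul_card_inf K N
  have h2 := Core.card_mul_relIndex_of_le (le_sup_left : K ≤ K ⊔ N)
  have h3 := Core.card_inf_mul_relIndex K N
  have h4 : 0 < Nat.card K * Nat.card ↥(K ⊓ N) := Nat.mul_pos Nat.card_pos Nat.card_pos
  refine Nat.eq_of_mul_eq_mul_left h4 ?_
  calc Nat.card K * Nat.card ↥(K ⊓ N) * K.relIndex (K ⊔ N)
      = Nat.card K * K.relIndex (K ⊔ N) * Nat.card ↥(K ⊓ N) := by ring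
    _ = Nat.card K * (Nat.card ↥(K ⊓ N) * K.relIndex N) := by rw [h2, h1, h3]
    _ = _ := by ring

theorem index_mk_mul_relIndex_dvd (N : Subgroup G) [N.Normal] (g : G) :
    𝐂[(g : G ⧸ N)].index * 𝐂[g].relIndex N ∣ 𝐂[g].index := by
  rw [← relIndex_mul_index (le_sup_left : 𝐂[g] ≤ 𝐂[g] ⊔ N), relIndex_sup_normal, mul_comm]
  refine Nat.mul_dvd_mul_left _ ?_
  have h1 := index_map 𝐂[g] (QuotientGroup.mk' N)
  rw [QuotientGroup.ker_mk', MonoidHom.range_eq_top.2 (QuotientGroup.mk'_surjective N), index_top,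
    mul_one] at h1
  rw [← h1]
  exact index_dvd_of_le (Cls.map_centralizer_single_le _ g)

theorem relIndex_dvd_of_normal {K V N : Subgroup G} [V.Normal] (h : V ≤ N) :
    K.relIndex V ∣ K.relIndex N := by
  rw [← relIndex_subgroupOf h]
  exact Cls.relIndex_dvd_index_of_normal' _ _

theorem dvd_relIndex_of_not_le {K V : Subgroup G} (hV : IsPGroup p V) (h : ¬ V ≤ K) :
    p ∣ K.relIndex V := by
  obtain ⟨k, hk⟩ := hV.exists_card_eq
  obtain ⟨j, -, hj⟩ := (Nat.dvd_prime_pow hp.out).1 (hk ▸ relIndex_dvd_card K V)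
  rcases j with _ | j
  · exact absurd (relIndex_eq_one.1 hj) h
  · rw [hj]; exact dvd_pow_self p j.succ_ne_zero

theorem exists_mem_center {P : Subgroup G} (hP : IsPGroup p P) (h : P ≠ ⊥) :
    ∃ z ∈ P, z ≠ 1 ∧ orderOf z = p ∧ P ≤ 𝐂[z] := by
  have h1 := Core.inf_centralizer_ne_bot_of_isNilpotent hP.isNilpotent le_rfl le_normalizer h
  have h2 : p ∣ Nat.card ↥(P ⊓ centralizer (P : Set G)) := by
    obtain ⟨k, hk⟩ := (hP.to_le (inf_le_left : P ⊓ centralizer (P : Set G) ≤ P)).exists_card_eq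
    rcases k with _ | k
    · exact absurd (card_eq_one.1 hk) h1
    · rw [hk]; exact dvd_pow_self p k.succ_ne_zero
  obtain ⟨z, hz, ho⟩ := Core.exists_mem_orderOf_eq_of_dvd_card h2
  refine ⟨z, hz.1, ?_, ho, Cls.le_centralizer_single_iff.2 hz.2⟩
  rintro rfl
  exact hp.out.one_lt.ne (by simpa using ho)

/-- A second-central element `y` whose centralizer centralizes a `p'`-group `U` on which
`P / C_P(y)` acts without noncentral fixed points. -/
theorem relIndex_dvd_of_second {P U : Subgroup G} {y : G} (pow : y ^ p ∈ center G)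
    (comm : ∀ g ∈ P, y⁻¹ * (g * y * g⁻¹) ∈ center G) (hn : P ≤ normalizer (U : Set G))
    (hcop : (Nat.card P).Coprime (Nat.card U))
    (hBH : ∀ g ∈ P, g ∈ 𝐂[y] → g ∈ centralizer (U : Set G))
    (fix : ∀ g ∈ P, g ∉ 𝐂[y] → ∀ w ∈ U, g ∈ 𝐂[w] → w ∈ center G) (not_le : ¬ U ≤ center G) :
    𝐂[y].relIndex P ∣ p := by
  have hz : ∀ g : G, g * y * g⁻¹ = y * (y⁻¹ * (g * y * g⁻¹)) := fun g => by group
  have hcyc : IsCyclic (conjHom hn).range := by
    by_contra hnc
    refine not_le (le_of_forall_not_mem_centralizer hn hcop ?_ hnc ?_)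
    · intro s hs t ht
      refine hBH _ (mul_mem (inv_mem (mul_mem ht hs)) (mul_mem hs ht))
        (Cls.mem_centralizer_single.mpr ?_)
      have h1 := comm s hs
      have h2 := comm t ht
      have e1 := hz s
      have e2 := hz t
      generalize y⁻¹ * (s * y * s⁻¹) = z at h1 e1
      generalize y⁻¹ * (t * y * t⁻¹) = w at h2 e2
      have e3 : s * t * y * (s * t)⁻¹ = y * z * w := by
        calc s * t * y * (s * t)⁻¹ = s * (t * y * t⁻¹) * s⁻¹ := by group
          _ = s * y * s⁻¹ * (s * w * s⁻¹) := by rw [e2]; group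
          _ = _ := by rw [e1, mem_center_iff.mp h2 s]; group
      have e4 : t * s * y * (t * s)⁻¹ = y * z * w := by
        calc t * s * y * (t * s)⁻¹ = t * (s * y * s⁻¹) * t⁻¹ := by group
          _ = t * y * t⁻¹ * (t * z * t⁻¹) := by rw [e1]; group
          _ = y * (w * z) := by rw [e2, mem_center_iff.mp h1 t]; group
          _ = _ := by rw [mem_center_iff.mp h1 w]; group
      calc (t * s)⁻¹ * (s * t) * y = (t * s)⁻¹ * (s * t * y * (s * t)⁻¹) * (s * t) := by group
        _ = (t * s)⁻¹ * (t * s * y * (t * s)⁻¹) * (s * t) := by rw [e3, e4]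
        _ = _ := by group
    · intro g hg hgH w hw
      exact fix g hg (fun hy => hgH (hBH g hg hy)) w (mem_inf.mp hw).1
        (mem_comm (mem_inf.mp hw).2)
  have hexp : Monoid.exponent (conjHom hn).range ∣ p := by
    refine Monoid.exponent_dvd_of_forall_pow_eq_one ?_
    rintro ⟨_, ⟨g, rfl⟩⟩
    apply Subtype.ext
    change conjHom hn g ^ p = 1
    rw [← map_pow]
    refine (mem_ker_conjHom hn _).mpr (hBH _ (g ^ p).2 (Cls.mem_centralizer_single.mpr ?_))
    have h1 := Chain.pow_conj_of_central (comm g g.2) (hz g) p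
    rw [Chain.pow_eq_one_of_central (comm g g.2) (hz g) pow, mul_one] at h1
    exact mul_inv_eq_iff_eq_mul.mp h1
  rw [IsCyclic.exponent_eq_card, ← index_ker] at hexp
  have hker : (conjHom hn).ker ≤ 𝐂[y].subgroupOf P := by
    intro g hg
    by_contra hy
    exact not_le fun w hw => fix g g.2 hy w hw
      (Cls.mem_centralizer_single.mpr ((mem_ker_conjHom hn g).mp hg w hw).symm)
  exact (index_dvd_of_le hker).trans hexp

/-- If the `p`-central elements of an abelian normal `p`-subgroup `V` are central then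
`G / C(V)` has no normal `p'`-subgroup. -/
theorem pPrimeCore_quotient_eq_bot {V : Subgroup G} [V.Normal] (hV : IsPGroup p V)
    (hc : IsMulCommutative V) (h : ∀ v ∈ V, ¬ p ∣ 𝐂[v].index → v ∈ center G) :
    pPrimeCore p (G ⧸ centralizer (V : Set G)) = ⊥ := by
  set K := centralizer (V : Set G) with hK
  set N := (pPrimeCore p (G ⧸ K)).comap (QuotientGroup.mk' K) with hN
  have h1 := inf_centralizer_inf_commutator_eq_bot (K := N) hc (by
    rw [normalizer_eq_top_iff.2 inferInstance]; exact le_top) (fun k hk =>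
      ⟨Nat.card (pPrimeCore p (G ⧸ K)),
        (Core.coprime_card_of_isPGroup hV (Core.coprime_card_pPrimeCore p)).symm, by
        rw [← QuotientGroup.eq_one_iff, QuotientGroup.mk_pow]
        exact congrArg Subtype.val (pow_card_eq_one' (x := (⟨_, hk⟩ : pPrimeCore p (G ⧸ K))))⟩)
  have h2 : ⁅V, N⁆ = ⊥ := by
    by_contra hne
    obtain ⟨P⟩ : Nonempty (Sylow p G) := inferInstance
    have hle : ⁅V, N⁆ ≤ V := commutator_le_left V N
    have h3 := Core.inf_centralizer_ne_bot_of_isNilpotent P.2.isNilpotent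
      (hle.trans ((Core.le_pCore hV).trans (Core.pCore_le_sylow P)))
      (by rw [normalizer_eq_top_iff.2 inferInstance]; exact le_top) hne
    refine h3 (eq_bot_iff.2 fun w hw => h1.le (mem_inf.2 ⟨mem_inf.2 ⟨hle hw.1, ?_⟩, hw.1⟩))
    exact center_le_centralizer _ (h w (hle hw.1)
      (Cls.not_dvd_index_of_sylow_le (Cls.le_centralizer_single_iff.2 hw.2)))
  rw [commutator_comm, commutator_eq_bot_iff_le_centralizer] at h2
  rw [← map_comap_eq_self_of_surjective (QuotientGroup.mk'_surjective K) (pPrimeCore p _)]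
  exact (Core.map_mk_eq_bot_iff K N).2 h2

theorem sq_dvd_index [Group.IsSolvable G] {V : Subgroup G} [V.Normal] (hV : IsPGroup p V)
    (hc : IsMulCommutative V) (h : ∀ v ∈ V, ¬ p ∣ 𝐂[v].index → v ∈ center G) {g : G}
    (hg : (orderOf g).Coprime p) (hgV : ¬ V ≤ 𝐂[g]) : p * p ∣ 𝐂[g].index := by
  set K := centralizer (V : Set G) with hK
  have h1 := Core.centralizer_pCore_le (pPrimeCore_quotient_eq_bot hV hc h)
  refine (Nat.mul_dvd_mul ?_ ?_).trans (index_mk_mul_relIndex_dvd K g)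
  · refine (dvd_relIndex_of_not_le (Core.isPGroup_pCore p) fun hle => hgV ?_).trans
      (Cls.relIndex_dvd_index_of_normal' _ _)
    rw [Cls.le_centralizer_single_iff, ← QuotientGroup.eq_one_iff]
    exact Transfer.eq_one_of_coprime_of_mem_isPGroup (Core.isPGroup_pCore p)
      (hg.coprime_dvd_left (orderOf_map_dvd (QuotientGroup.mk' K) g))
      (h1 (Cls.le_centralizer_single_iff.1 hle))
  · exact (dvd_relIndex_of_not_le hV hgV).trans (relIndex_dvd_of_normal
      fun v hv => mem_centralizer_iff.2 fun w hw =>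
        Core.mul_comm_of_mem_of_isMulCommutative hc hw hv)

theorem pCore_le_center [Group.IsSolvable G] {q m : ℕ} [hq : Fact q.Prime] (hpq : q ≠ p)
    (hpm : p ∣ m) (hqm : q ∣ m)
    (h1 : ∀ u : G, (∃ k, orderOf u = p ^ k) → u ∉ center G → 𝐂[u].index = m)
    (h2 : ∀ u : G, (∃ k, orderOf u = q ^ k) → u ∉ center G → 𝐂[u].index = m)
    (h3 : ∀ y : G, (∃ k, orderOf y = p ^ k) → y ∉ center G →
      ∃ v, (∃ k, orderOf v = q ^ k) ∧ v ∉ center G ∧ 𝐂[y] ≤ 𝐂[v]) : pCore p G ≤ center G := by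
  by_contra hW
  obtain ⟨P⟩ : Nonempty (Sylow p G) := inferInstance
  have hWp := Core.isPGroup_pCore (G := G) p
  obtain ⟨y, hy, hyZ, pow, comm⟩ := exists_second_central P.2 hWp
    (by rw [normalizer_eq_top_iff.2 inferInstance]; exact le_top) hW
  have hoy := Core.exists_orderOf_eq_pow_of_mem hWp hy
  obtain ⟨v, hov, hvZ, hyv⟩ := h3 y hoy hyZ
  have iy := h1 y hoy hyZ
  have eq_of : ∀ w, (∃ k, orderOf w = q ^ k) → w ∉ center G → 𝐂[y] ≤ 𝐂[w] → 𝐂[y] = 𝐂[w] :=
    fun w how hw hle => eq_of_le_of_index_eq hle (iy.trans (h2 w how hw).symm)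
  have evy := eq_of v hov hvZ hyv
  set A := 𝐂[y] ⊓ centralizer (𝐂[y] : Set G) with hA
  obtain ⟨U, H, hS⟩ := exists_isSplit (p := q) (C := A) fun w hw _ hd => by
    rw [relIndex_eq_one.2 (inf_le_left.trans (Cls.le_centralizer_single_iff.2 hw.2))] at hd
    exact hq.out.one_lt.ne' (Nat.dvd_one.1 hd)
  have hPD : (P : Subgroup G) ≤ normalizer (𝐂[y] : Set G) := by
    refine le_normalizer_iff.mpr fun g hg x hx => ?_
    have h1 := Cls.centralizer_single_mul_center (x := y) (comm g hg)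
    rw [mul_inv_cancel_left, Cls.centralizer_single_conj] at h1
    exact h1 ▸ ⟨x, hx, rfl⟩
  have hn : (P : Subgroup G) ≤ normalizer (U : Set G) :=
    (hPD.trans (Transfer.normalizer_le_normalizer_inf_centralizer_self _)).trans hS.normalizer_le_B
  have hvU : v ∈ U := (hS.memB v).2 ⟨mem_inf.2 ⟨evy ▸ Cls.self_mem_centralizer_single v,
    Cls.le_centralizer_single_iff.1 hyv⟩, hov⟩
  have hUy : ∀ w ∈ U, 𝐂[y] ≤ 𝐂[w] := fun w hw =>
    Cls.le_centralizer_single_iff.2 (hS.B_le hw).2
  have hcop : ∀ {X : Subgroup G}, IsPGroup p X → (Nat.card X).Coprime (Nat.card U) := fun hX =>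
    IsPGroup.coprime_card_of_ne p q hpq.symm _ _ hX hS.isPGroup
  have hB : 𝐂[y].relIndex P ∣ p := relIndex_dvd_of_second pow comm hn (hcop P.2)
    (fun g _ hg => mem_centralizer_iff.2 fun w hw =>
      (Cls.mem_centralizer_single.1 (hUy w hw hg)).symm)
    (fun g _ hg w hw hgw => by
      by_contra hZ
      exact hg (eq_of w ((hS.memB w).1 hw).2 hZ (hUy w hw) ▸ hgw))
    fun hle => hvZ (hle hvU)
  have hWy : pCore p G ≤ 𝐂[y] := fun g hg => by
    rw [evy, Cls.mem_centralizer_single]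
    have e1 : v⁻¹ * (g * v * g⁻¹) ∈ U :=
      mul_mem (inv_mem hvU) (Frob.conj_mem_of_mem_normalizer (hn (Core.pCore_le_sylow P hg)) hvU)
    have e2 : v⁻¹ * (g * v * g⁻¹) ∈ pCore p G := by
      rw [show v⁻¹ * (g * v * g⁻¹) = v⁻¹ * g * v⁻¹⁻¹ * g⁻¹ by group]
      exact mul_mem ((inferInstance : (pCore p G).Normal).conj_mem g hg _) (inv_mem hg)
    have e3 := (Core.inf_eq_bot_of_coprime_card (hcop hWp)).le (mem_inf.2 ⟨e2, e1⟩)
    rw [mem_bot, inv_mul_eq_one] at e3
    exact mul_inv_eq_iff_eq_mul.1 e3.symm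
  obtain ⟨Q⟩ : Nonempty (Sylow q G) := inferInstance
  obtain ⟨g, hg, hgy⟩ : ∃ g ∈ (Q : Subgroup G), g ∉ 𝐂[y] := by
    by_contra! hc
    exact Cls.not_dvd_index_of_sylow_le hc (iy ▸ hqm)
  obtain ⟨k, hk⟩ := Core.exists_orderOf_eq_pow_of_mem Q.2 hg
  have hsq := sq_dvd_index (V := pCore p G ⊓ centralizer (pCore p G : Set G)) (g := g)
    (hWp.to_le inf_le_left) (Transfer.isMulCommutative_inf_centralizer_self _)
    (fun w hw hd => by
      by_contra hZ
      exact hd (h1 w (Core.exists_orderOf_eq_pow_of_mem hWp hw.1) hZ ▸ hpm))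
    (hk ▸ coprime_of_ne_prime hq.out hpq)
    fun hle => hgy (mem_comm (hle (mem_inf.2 ⟨hy, Cls.le_centralizer_single_iff.1 hWy⟩)))
  rw [h2 g ⟨k, hk⟩ (not_mem_center_of_not_mem hgy), ← iy] at hsq
  have h4 : 𝐂[y].index ∣ 𝐂[y].relIndex P * (P : Subgroup G).index := by
    rw [← inf_relIndex_right, relIndex_mul_index inf_le_right]
    exact index_dvd_of_le inf_le_left
  have h5 : (p * p).Coprime (P : Subgroup G).index :=
    Nat.Coprime.mul_left (hp.out.coprime_iff_not_dvd.2 P.not_dvd_index)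
      (hp.out.coprime_iff_not_dvd.2 P.not_dvd_index)
  have h6 := Nat.le_of_dvd hp.out.pos ((h5.dvd_of_dvd_mul_right (hsq.trans h4)).trans hB)
  have := hp.out.one_lt
  nlinarith

omit hp in
/-- Two sizes of `p`-regular classes. -/
theorem two_primes (hp : p.Prime) {m : ℕ} (hm : 1 < m)
    (key : ∀ w : G, (orderOf w).Coprime p → 𝐂[w].index = 1 ∨ 𝐂[w].index = m)
    {v : G} (hv : (orderOf v).Coprime p) (hvm : 𝐂[v].index = m) :
    (∀ r : ℕ, r.Prime → r ∣ m → r = p) ∨ ∃ q : ℕ, q.Prime ∧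
      ∀ r : ℕ, r.Prime → r ∣ (center G).index → r = p ∨ r = q := by
  have := Fact.mk hp
  have h2 : (Set.range fun w : {w : G // (orderOf w).Coprime p} =>
      (ConjClasses.mk (w : G)).carrier.ncard) = {1, m} := by
    ext j
    constructor
    · rintro ⟨w, rfl⟩
      simp only [Cls.ncard_carrier_mk]
      exact key w w.2
    · rintro (rfl | rfl)
      · exact ⟨⟨1, by simp⟩, by
          simp only [Cls.ncard_carrier_mk]
          exact Cls.index_centralizer_eq_one_iff.mpr (one_mem _)⟩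
      · exact ⟨⟨_, hv⟩, by simp only [Cls.ncard_carrier_mk]; exact hvm⟩
  rcases S4033.result hp (h2 ▸ Set.ncard_pair hm.ne) with h3 | ⟨q, hq, P, Q, A, -, hA, hc,
    -, -, htop⟩
  · left
    obtain ⟨j, hj⟩ := (S4034.result hp).mpr h3 _ hv
    rw [Cls.ncard_carrier_mk, hvm] at hj
    intro r hr hrn
    exact (Nat.prime_dvd_prime_iff_eq hr hp).mp (hr.dvd_of_dvd_pow (hj ▸ hrn))
  · right
    have := Core.normal_of_le_center hA
    refine ⟨q, hq.out, fun r hr hd => ?_⟩
    replace hd := hd.trans (index_dvd_of_le hA)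
    rw [← relIndex_top_right, ← htop, relIndex_sup_right] at hd
    have h4 := hd.trans (relIndex_dvd_card _ _)
    obtain ⟨a, ha⟩ := P.isPGroup'.exists_card_eq
    obtain ⟨b, hb⟩ := Q.isPGroup'.exists_card_eq
    rw [hc, ha, hb] at h4
    exact ((Nat.Prime.dvd_mul hr).mp h4).imp
      (fun h => (Nat.prime_dvd_prime_iff_eq hr hp).mp (hr.dvd_of_dvd_pow h))
      fun h => (Nat.prime_dvd_prime_iff_eq hr hq.out).mp (hr.dvd_of_dvd_pow h)

omit hp in
theorem mem_center_of_not_dvd {s : ℕ} (hs : s.Prime) (h : ¬ s ∣ (center G).index) {u : G}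
    (ho : ∃ k, orderOf u = s ^ k) : u ∈ center G :=
  have := Fact.mk hs
  mem_center_of_forall_not_dvd
    (fun x hd => h (hd.trans (index_dvd_of_le (Cls.center_le_centralizer_single x)))) ho

omit hp in
/-- If `p`-regular elements have class size `1` or `m` and two primes divide `m`, then only these
matter. -/
theorem mem_center_of_ne (hp : p.Prime) {q m : ℕ} (hq : q.Prime) (hpq : q ≠ p) (hqm : q ∣ m)
    (key : ∀ w : G, (orderOf w).Coprime p → 𝐂[w].index = 1 ∨ 𝐂[w].index = m)
    {s : ℕ} (hs : s.Prime) (hsp : s ≠ p) (hsq : s ≠ q) {u : G} (ho : ∃ k, orderOf u = s ^ k) :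
    u ∈ center G := by
  have := Fact.mk hp
  have hu : (orderOf u).Coprime p := by
    obtain ⟨k, hk⟩ := ho
    exact hk ▸ coprime_of_ne_prime hs hsp
  rcases key u hu with e | e
  · exact Cls.index_centralizer_eq_one_iff.1 e
  have hm : 1 < m := lt_of_lt_of_le hq.one_lt
    (Nat.le_of_dvd (e ▸ Nat.pos_of_ne_zero index_ne_zero_of_finite) hqm)
  rcases two_primes hp hm key hu e with h | ⟨q', -, h⟩
  · exact absurd (h q hq hqm) hpq
  · have h1 := (h q hq ((e ▸ hqm).trans
      (index_dvd_of_le (Cls.center_le_centralizer_single u)))).resolve_left hpq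
    exact mem_center_of_not_dvd hs (fun hd => (h s hs hd).elim hsp (h1 ▸ hsq)) ho

omit hp in
theorem center_eq_top (hp : p.Prime) {q m : ℕ} (hq : q.Prime) (hpq : q ≠ p)
    (hpm : p ∣ m) (hqm : q ∣ m)
    (h1 : ∀ u : G, (∃ k, orderOf u = p ^ k) → u ∉ center G → 𝐂[u].index = m)
    (h2 : ∀ u : G, (∃ k, orderOf u = q ^ k) → u ∉ center G → 𝐂[u].index = m)
    (h3 : ∀ y : G, (∃ k, orderOf y = p ^ k) → y ∉ center G →
      ∃ v, (∃ k, orderOf v = q ^ k) ∧ v ∉ center G ∧ 𝐂[y] ≤ 𝐂[v])
    (h4 : ∀ y : G, (∃ k, orderOf y = q ^ k) → y ∉ center G →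
      ∃ v, (∃ k, orderOf v = p ^ k) ∧ v ∉ center G ∧ 𝐂[y] ≤ 𝐂[v])
    (h5 : ∀ s : ℕ, s.Prime → s ≠ p → s ≠ q → ∀ u : G, (∃ k, orderOf u = s ^ k) → u ∈ center G) :
    center G = ⊤ := by
  have := Fact.mk hp
  have := Fact.mk hq
  have : Group.IsSolvable G := isSolvable_of_two hp hq fun s hs ⟨u, _, ho, hu⟩ => by
    by_contra! hc
    exact hu (h5 s hs hc.1 hc.2 u ho)
  have hF : fittingSubgroup G ≤ center G := Core.fitting_le_of_forall_pCore_le fun s hs => by
    by_cases hsp : s = p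
    · subst hsp
      exact pCore_le_center hpq hpm hqm h1 h2 h3
    by_cases hsq : s = q
    · subst hsq
      exact pCore_le_center hpq.symm hqm hpm h2 h1 h4
    · exact fun u hu => h5 s hs.out hsp hsq u
        (Core.exists_orderOf_eq_pow_of_mem (Core.isPGroup_pCore s) hu)
  refine eq_top_iff.2 (le_trans (fun g _ => ?_) (Core.centralizer_fitting_le.trans hF))
  exact mem_centralizer_iff.2 fun w hw => (mem_center_iff.1 (hF hw) g).symm

universe u

omit hp in
/-- Solvability from an abelian or `p`-subgroup whose index only involves `q` and primes with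
normal complements. -/
theorem isSolvable_of_index {G : Type u} [Group G] [Finite G] (hp : p.Prime) {q : ℕ} (hq : q.Prime)
    {H : Subgroup G} (hH : IsMulCommutative H ∨ IsPGroup p H)
    (h : ∀ r : ℕ, r.Prime → r ∣ H.index → r = q ∨ HasNormalPComplement r G) :
    Group.IsSolvable G := by
  refine Cls.isSolvable_of_hereditary (P := fun G _ _ => ∃ H : Subgroup G,
    (IsMulCommutative H ∨ IsPGroup p H) ∧
      ∀ r : ℕ, r.Prime → r ∣ H.index → r = q ∨ HasNormalPComplement r G) ?_ ?_ ?_ G ⟨H, hH, h⟩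
  · rintro G _ _ N _ ⟨H, hH, h⟩
    refine ⟨H.subgroupOf N, hH.imp (fun (h : IsMulCommutative H) => inferInstance) fun h => h.comap_subtype,
      fun r hr hd => ?_⟩
    have := Fact.mk hr
    exact (h r hr (hd.trans (Cls.relIndex_dvd_index_of_normal' H N))).imp_right
      fun h => Transfer.hasNormalPComplement_subgroup h N
  · rintro G _ _ N _ ⟨H, hH, h⟩
    refine ⟨H.map (QuotientGroup.mk' N), hH.imp (fun (h : IsMulCommutative H) => inferInstance) fun h => h.map _,
      fun r hr hd => ?_⟩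
    have := Fact.mk hr
    exact (h r hr (hd.trans (index_map_dvd H (QuotientGroup.mk'_surjective N)))).imp_right
      fun h => Transfer.hasNormalPComplement_quotient h N
  · rintro G _ _ _ hna ⟨H, hH, h⟩
    have hns : ¬ Group.IsSolvable G := fun hs =>
      hna ⟨⟨IsSimpleGroup.comm_iff_isSolvable.2 hs⟩⟩
    have h1 : ∀ r : ℕ, r.Prime → r ∣ H.index → r = q := fun r hr hd => by
      have := Fact.mk hr
      refine (h r hr hd).resolve_right fun hP => ?_
      rcases (inferInstance : (pResidual r G).Normal).eq_bot_or_eq_top with h0 | h0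
      · have := (Transfer.isPGroup_iff_pResidual_eq_bot.2 h0).isNilpotent
        exact hns inferInstance
      · rw [Transfer.hasNormalPComplement_iff_not_dvd_pResidual, h0, card_top] at hP
        exact hP (hd.trans (index_dvd_card H))
    obtain ⟨k, hk⟩ := Cls.eq_pow_of_forall_prime_eq index_ne_zero_of_finite h1
    rcases hH with hH | hH
    · exact hns (Cls.isSolvable_of_abelian_of_index_prime_pow hq hH hk)
    · have := Fact.mk hp
      obtain ⟨j, hj⟩ := hH.exists_card_eq
      exact hns (Char.solvable_of_card_eq_pow_mul_pow hp hq (by rw [← card_mul_index H, hj, hk]))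

end Cfsg.Agent.TwoSizes
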