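import Mathlib
import Cfsg.Agent.Lib.Cls.TwoSizes
import Cfsg.Agent.Lib.Cls.TwoCentral
import Cfsg.Agent.Lib.Cls.Ito
import Cfsg.Agent.Lib.BSW.Main
import Cfsg.Agent.Lib.OO.Final

/-!
# Cls/Four: centreless groups with few class sizes
-/

set_option autoImplicit false
set_option linter.unusedSectionVars false

namespace Cfsg.Agent.Four

open Cfsg Subgroup Cfsg.Agent.Coprime Cfsg.Agent.Split Cfsg.Agent.FGroup Cfsg.Agent.TwoSizes
open scoped commutatorElement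

local notation "𝐂[" x "]" => Subgroup.centralizer ({x} : Set _)

universe u

section F

variable {G : Type u} [Group G] [Finite G]

/-- An abelian subgroup of even order which is the centralizer of its nonidentity elements. -/
theorem solvable_or_psl_of_ab (hZ : center G = ⊥) {H : Subgroup G} (hH : Ab H) (S : Sylow 2 G)
    (hS : (S : Subgroup G) ≤ H) : Group.IsSolvable G ∨ ∃ n : ℕ, 2 ≤ n ∧ Nat.card H = 2 ^ n ∧
      Nonempty (G ≃* Matrix.ProjectiveSpecialLinearGroup (Fin 2) (GaloisField 2 n)) := by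
  by_cases hb : (S : Subgroup G) = ⊥
  · left
    have := S.not_dvd_index
    rw [hb, index_bot] at this
    exact OO.Feit_Thompson (Nat.not_even_iff_odd.1 fun e => this e.two_dvd)
  obtain ⟨z, hz, z1, zo, -⟩ := exists_mem_center S.2 hb
  have nc : ∀ {x : G}, x ≠ 1 → x ∉ center G := fun h e => h (by rwa [hZ, mem_bot] at e)
  by_cases h1 : H = normalizer (H : Set G)
  · exact Or.inl (hH.isSolvable_of_eq (s := 2) ⟨z, hS hz, ⟨1, by rw [zo, pow_one]⟩, nc z1⟩ h1)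
  by_cases h2 : normalizer (H : Set G) = ⊤
  · left
    have := normalizer_eq_top_iff.1 h2
    exact Cls.isSolvable_of_normal_of_quotient H (Cls.isSolvable_of_isMulCommutative hH.comm)
      (OO.Feit_Thompson (Nat.not_even_iff_odd.1 fun e =>
        Cls.not_dvd_index_of_sylow_le hS e.two_dvd))
  right
  have cc : ∀ x ∈ H, x ≠ 1 → ∀ g : G, g * x = x * g ↔ g ∈ H := fun x hx x1 g => by
    rw [← Cls.mem_centralizer_single, hH.eq x hx (nc x1)]
  have hI : BSW.HypI H := ⟨fun x hx x1 _ g => cc x hx x1 g,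
    z, hS hz, z1, by rw [← sq, ← zo, pow_orderOf_eq_one]⟩
  obtain ⟨t, ht, t2⟩ := hI.exists_inv_not_mem h2
  have hC : BSW.HypC H t := ⟨hI, fun x hx x1 g e => (cc x hx x1 g).1 e, by
    by_contra! hc
    exact h1 (le_antisymm le_normalizer hc), ht, t2⟩
  obtain ⟨n, hn, hc, -, e⟩ := hC.main fun x hx j hj =>
    Core.mul_comm_of_mem_of_isMulCommutative hH.comm hx
      (Frob.conj_mem_of_mem_normalizer (BSW.mem_Kt.1 hj).1 hx)
  exact ⟨n, hn, hc, e⟩

omit [Finite G] in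
theorem has_of_mem (hZ : center G = ⊥) {s : ℕ} {C : Subgroup G} {u : G} (hu : u ∈ C) (u1 : u ≠ 1)
    (ho : ∃ k, orderOf u = s ^ k) : Has s C :=
  ⟨u, hu, ho, fun e => u1 (by rwa [hZ, mem_bot] at e)⟩

theorem isPGroup_of_not_mixed (hZ : center G = ⊥) {p : ℕ} [hp : Fact p.Prime] {x : G}
    (hx : Has p 𝐂[x]) (hm : ¬ Mixed x) : IsPGroup p 𝐂[x] := by
  refine Transfer.isPGroup_of_forall_coprime_eq_one fun g hg hc => ?_
  by_contra g1
  obtain ⟨r, hr, u, hu, ⟨k, hk⟩, u1⟩ := exists_prime_pow_not_mem (K := ⊥) (mt mem_bot.1 g1)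
  rw [mem_bot] at u1
  refine hm ⟨p, r, hp.out, hr, ?_, hx, has_of_mem hZ (zpowers_le.2 hg hu) u1 ⟨k, hk⟩⟩
  rintro rfl
  exact u1 (Transfer.eq_one_of_coprime_of_pow_pow
    (hc.coprime_dvd_left (orderOf_dvd_of_mem_zpowers hu)) (k := k)
    (by rw [← hk, pow_orderOf_eq_one]))

/-- Centreless `F`-groups are solvable or `PSL₂(2ⁿ)`. -/
theorem solvable_or_psl_of_isF (hZ : center G = ⊥) (hF : IsF G) :
    Group.IsSolvable G ∨ ∃ n : ℕ, 2 ≤ n ∧
      Nonempty (G ≃* Matrix.ProjectiveSpecialLinearGroup (Fin 2) (GaloisField 2 n)) := by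
  have nc : ∀ {x : G}, x ≠ 1 → x ∉ center G := fun h e => h (by rwa [hZ, mem_bot] at e)
  suffices h : ∃ (H : Subgroup G) (S : Sylow 2 G), Ab H ∧ (S : Subgroup G) ≤ H by
    obtain ⟨H, S, h1, h2⟩ := h
    exact (solvable_or_psl_of_ab hZ h1 S h2).imp_right fun ⟨n, h, _, e⟩ => ⟨n, h, e⟩
  by_cases h : ∃ (S : Sylow 2 G) (t : G), t ≠ 1 ∧ (S : Subgroup G) ≤ 𝐂[t] ∧ Mixed t
  · obtain ⟨S, t, t1, hS, hm⟩ := h
    exact ⟨_, S, hF.ab' (nc t1) hm, hS⟩
  push Not at h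
  have key : ∀ u : G, u ≠ 1 → (∃ k, orderOf u = 2 ^ k) →
      ∃ T : Sylow 2 G, (T : Subgroup G) = 𝐂[u] := by
    intro u u1 ⟨k, hk⟩
    have hu := Cls.self_mem_centralizer_single u
    have hm : ¬ Mixed u := fun hm => by
      obtain ⟨T, hT⟩ := (Core.isPGroup_zpowers_of_orderOf hk).exists_le_sylow
      have huT := hT (mem_zpowers u)
      obtain ⟨t, -, t1, -, htT⟩ := exists_mem_center T.2 fun e => u1 (by rwa [e, mem_bot] at huT)
      have e := (hF.ab' (nc u1) hm).eq t (mem_comm (htT huT)) (nc t1)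
      refine h T t t1 htT ?_
      unfold Mixed at hm ⊢
      rwa [e]
    obtain ⟨T, hT⟩ := (isPGroup_of_not_mixed hZ (has_of_mem hZ hu u1 ⟨k, hk⟩) hm).exists_le_sylow
    obtain ⟨t, -, t1, -, htT⟩ := exists_mem_center T.2 fun e => u1 (by
      have := hT hu
      rwa [e, mem_bot] at this)
    exact ⟨T, le_antisymm (hF u t (nc t1) (hT.trans htT) ▸ htT) hT⟩
  obtain ⟨S⟩ : Nonempty (Sylow 2 G) := inferInstance
  have hS := Cls.isMulCommutative_sylow_two_of_forall_central S fun u ho => by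
    by_cases u1 : u = 1
    · exact ⟨S, by rw [Cls.centralizer_single_eq_top_iff.2 (u1 ▸ one_mem _)]; exact le_top⟩
    · obtain ⟨T, hT⟩ := key u u1 ho
      exact ⟨T, hT.le⟩
  have hle : ∀ d ∈ (S : Subgroup G), (S : Subgroup G) ≤ 𝐂[d] := fun d hd g hg =>
    Cls.mem_centralizer_single.2 (Core.mul_comm_of_mem_of_isMulCommutative hS hg hd)
  refine ⟨S, S, ⟨hle, fun d hd hdZ => ?_⟩, le_rfl⟩
  obtain ⟨T, hT⟩ := key d (fun e => hdZ (e ▸ one_mem _))
    (Core.exists_orderOf_eq_pow_of_mem S.2 hd)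
  exact S.3 (hT ▸ T.2) (hle d hd)

end F

variable {G : Type*} [Group G] [Finite G] {a m c : ℕ}

/-- The class sizes are among `1`, `a`, `a m`, `c`. -/
structure Hyp (G : Type*) [Group G] (a m c : ℕ) : Prop where
  hZ : center G = ⊥
  ha : 1 < a
  hm : 1 < m
  hc : 1 < c
  cop : a.Coprime c
  idx : ∀ x : G, x ≠ 1 → 𝐂[x].index = a ∨ 𝐂[x].index = a * m ∨ 𝐂[x].index = c

namespace Hyp

theorem nc (h : Hyp G a m c) {x : G} (hx : x ≠ 1) : x ∉ center G :=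
  fun e => hx (by rwa [h.hZ, mem_bot] at e)

theorem not_a_dvd_c (h : Hyp G a m c) : ¬ a ∣ c := fun e => h.ha.ne' (h.cop.eq_one_of_dvd e)

theorem not_c_dvd_a (h : Hyp G a m c) : ¬ c ∣ a := fun e => h.hc.ne' (h.cop.symm.eq_one_of_dvd e)

theorem not_b_dvd_a (h : Hyp G a m c) : ¬ a * m ∣ a := fun e => by
  have := Nat.le_of_dvd (by have := h.ha; omega) e
  have := h.ha
  have := h.hm
  nlinarith

theorem ne_one (h : Hyp G a m c) {x : G} (hx : a ∣ 𝐂[x].index) : x ≠ 1 := by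
  rintro rfl
  rw [Cls.index_centralizer_eq_one_iff.2 (one_mem _), Nat.dvd_one] at hx
  exact h.ha.ne' hx

theorem eq_a (h : Hyp G a m c) {x : G} (hx : x ≠ 1) (hd : 𝐂[x].index ∣ a) : 𝐂[x].index = a := by
  rcases h.idx x hx with e | e | e
  · exact e
  · exact absurd (e ▸ hd) h.not_b_dvd_a
  · exact absurd (e ▸ hd) h.not_c_dvd_a

theorem eq_c (h : Hyp G a m c) {x : G} (hx : x ≠ 1) (hd : 𝐂[x].index ∣ c) : 𝐂[x].index = c := by
  rcases h.idx x hx with e | e | e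
  · exact absurd (e ▸ hd) h.not_a_dvd_c
  · exact absurd ((Dvd.intro _ rfl).trans (e ▸ hd)) h.not_a_dvd_c
  · exact e

theorem of_a_dvd (h : Hyp G a m c) {x : G} (hd : a ∣ 𝐂[x].index) :
    𝐂[x].index = a ∨ 𝐂[x].index = a * m := by
  rcases h.idx x (h.ne_one hd) with e | e | e
  · exact Or.inl e
  · exact Or.inr e
  · exact absurd (e ▸ hd) h.not_a_dvd_c

theorem eq_of_le_b (h : Hyp G a m c) {x y : G} (hx : 𝐂[x].index = a * m) (hle : 𝐂[y] ≤ 𝐂[x]) :
    𝐂[y] = 𝐂[x] := by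
  have h1 := hx ▸ index_dvd_of_le hle
  refine eq_of_le_of_index_eq hle (hx ▸ (h.of_a_dvd ((Dvd.intro _ rfl).trans h1)).resolve_left
    fun e => h.not_b_dvd_a (e ▸ h1))

theorem eq_of_le_a (h : Hyp G a m c) {x y : G} (hx : 𝐂[x].index = a) (hy : y ≠ 1)
    (hle : 𝐂[x] ≤ 𝐂[y]) : 𝐂[x] = 𝐂[y] :=
  eq_of_le_of_index_eq hle (hx.trans (h.eq_a hy (hx ▸ index_dvd_of_le hle)).symm)

theorem eq_of_le_c (h : Hyp G a m c) {x y : G} (hx : 𝐂[x].index = c) (hy : y ≠ 1)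
    (hle : 𝐂[x] ≤ 𝐂[y]) : 𝐂[x] = 𝐂[y] :=
  eq_of_le_of_index_eq hle (hx.trans (h.eq_c hy (hx ▸ index_dvd_of_le hle)).symm)

theorem swap (h : Hyp G a m c) {m' : ℕ} (e : a * m = c * m') : Hyp G c m' a where
  hZ := h.hZ
  ha := h.hc
  hm := by
    by_contra hc
    have h1 : m' = 0 ∨ m' = 1 := by omega
    have := h.ha
    have := h.hm
    rcases h1 with rfl | rfl
    · nlinarith
    · exact h.not_a_dvd_c ⟨m, by rw [e, mul_one]⟩
  hc := h.ha
  cop := h.cop.symm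
  idx := fun x hx => by
    rw [← e]
    rcases h.idx x hx with e | e | e <;> simp [e]

theorem relIndex_eq (h : Hyp G a m c) {x v : G} (hx : 𝐂[x].index = a) (hv : v ∈ 𝐂[x])
    (hc : (orderOf x).Coprime (orderOf v)) :
    𝐂[v].relIndex 𝐂[x] = 1 ∨ 𝐂[v].relIndex 𝐂[x] = m := by
  have e := Cls.centralizer_single_mul (Cls.mem_centralizer_single_commute.mp hv).symm hc
  have h1 := relIndex_mul_index (inf_le_left : 𝐂[x] ⊓ 𝐂[v] ≤ 𝐂[x])
  rw [inf_relIndex_left, hx, ← e] at h1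
  have ha := h.ha
  rcases h.of_a_dvd (Dvd.intro_left _ h1) with e | e <;> rw [e] at h1
  · left; exact Nat.eq_of_mul_eq_mul_right (by omega) (h1.trans (one_mul a).symm)
  · right; exact Nat.eq_of_mul_eq_mul_right (by omega) (h1.trans (mul_comm a m))

theorem exists_primary (h : Hyp G a m c) {x : G} (hx : 𝐂[x].index = a) :
    ∃ s : ℕ, s.Prime ∧ ∃ u, (∃ k, orderOf u = s ^ k) ∧ 𝐂[x] = 𝐂[u] := by
  obtain ⟨s, hs, u, hu, ho, u1⟩ :=
    exists_prime_pow_not_mem (K := ⊥) (mt mem_bot.1 (h.ne_one hx.symm.dvd))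
  exact ⟨s, hs, u, ho, h.eq_of_le_a hx (mt mem_bot.2 u1)
    (Cls.centralizer_single_le_of_mem_zpowers hu)⟩

theorem exists_center (h : Hyp G a m c) (hb : a * m ∣ Nat.card G) {x : G} (hx : 𝐂[x].index = a)
    {s r : ℕ} (hs : s.Prime) (ho : ∃ k, orderOf x = s ^ k) (hr : r.Prime) (hrs : r ≠ s)
    (hrm : r ∣ m) (hra : ¬ r ∣ a) : ∃ z, orderOf z = r ∧ 𝐂[x] = 𝐂[z] := by
  have := Fact.mk hr
  have := Fact.mk hs
  obtain ⟨R, hR⟩ := Cls.exists_sylow_le_of_not_dvd_index (hx ▸ hra)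
  obtain ⟨z, hz, z1, zo, hRz⟩ := exists_mem_center R.2 fun e => by
    have := R.not_dvd_index
    rw [e, index_bot] at this
    exact this ((hrm.mul_left a).trans hb)
  refine ⟨z, zo, h.eq_of_le_a hx z1 (relIndex_eq_one.1 ((h.relIndex_eq hx (hR hz)
    (coprime_orderOf hr hrs ho ⟨1, by rw [zo, pow_one]⟩)).resolve_right fun e => ?_))⟩
  refine R.not_dvd_index (((e ▸ hrm).trans (relIndex_dvd_of_le_left _ hRz)).trans ?_)
  exact relIndex_dvd_index_of_le hR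

theorem exists_two (h : Hyp G a m c) (hb : a * m ∣ Nat.card G) {x : G} (hx : 𝐂[x].index = a)
    {p q : ℕ} (hp : p.Prime) (hq : q.Prime) (hpq : q ≠ p) (hpm : p ∣ m) (hpa : ¬ p ∣ a)
    (hqm : q ∣ m) (hqa : ¬ q ∣ a) : ∃ z, orderOf z = q ∧ 𝐂[x] = 𝐂[z] := by
  obtain ⟨s, hs, u, ho, e⟩ := h.exists_primary hx
  rw [e] at hx ⊢
  by_cases hqs : q = s
  · obtain ⟨z, zo, e⟩ := h.exists_center hb hx hs ho hp (hqs ▸ hpq.symm) hpm hpa
    rw [e] at hx ⊢
    exact h.exists_center hb hx hp ⟨1, by rw [zo, pow_one]⟩ hq hpq hqm hqa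
  · exact h.exists_center hb hx hs ho hq hqs hqm hqa

theorem index_sub (h : Hyp G a m c) {x z : G} (hx : 𝐂[x].index = a) (e : 𝐂[x] = 𝐂[z]) {p : ℕ}
    (zo : orderOf z = p) (w : 𝐂[x]) (hw : (orderOf w).Coprime p) :
    𝐂[w].index = 1 ∨ 𝐂[w].index = m := by
  rw [Cls.index_centralizer_subgroup]
  have := h.relIndex_eq (v := w) (e ▸ hx) (e ▸ w.2) (by rw [zo, orderOf_coe]; exact hw.symm)
  rwa [← e] at this

theorem exists_partner (h : Hyp G a m c) (hb : a * m ∣ Nat.card G) {x : G} (hx : 𝐂[x].index = a)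
    {p q : ℕ} (hp : p.Prime) (hq : q.Prime) (hpq : q ≠ p) (hpm : p ∣ m) (hpa : ¬ p ∣ a)
    (hqm : q ∣ m) (hqa : ¬ q ∣ a) (y : 𝐂[x]) (ho : ∃ k, orderOf y = p ^ k)
    (hy : y ∉ center 𝐂[x]) :
    ∃ v : 𝐂[x], (∃ k, orderOf v = q ^ k) ∧ v ∉ center 𝐂[x] ∧ 𝐂[y] ≤ 𝐂[v] := by
  have := Fact.mk hp
  have := Fact.mk hq
  obtain ⟨zq, hzq, eq⟩ := h.exists_two hb hx hp hq hpq hpm hpa hqm hqa
  obtain ⟨zp, hzp, ep⟩ := h.exists_two hb hx hq hp hpq.symm hqm hqa hpm hpa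
  have key : ∀ {v : 𝐂[x]}, v ∈ center 𝐂[x] ↔ 𝐂[x] ≤ 𝐂[(v : G)] := fun {v} => by
    rw [← Cls.index_centralizer_eq_one_iff, Cls.index_centralizer_subgroup, relIndex_eq_one]
  have le' : ∀ {v : 𝐂[x]}, 𝐂[x] ⊓ 𝐂[(y : G)] ≤ 𝐂[(v : G)] → 𝐂[y] ≤ 𝐂[v] := fun {v} hv g hg =>
    Cls.mem_centralizer_single.2 (Subtype.ext (Cls.mem_centralizer_single.1 (hv (mem_inf.2
      ⟨g.2, Cls.mem_centralizer_single.2
        (congrArg Subtype.val (Cls.mem_centralizer_single.1 hg))⟩))))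
  have ho' : ∃ k, orderOf (y : G) = p ^ k := by rwa [orderOf_coe]
  have hyq : (y : G) ∈ 𝐂[zq] := eq ▸ y.2
  have hyp : (y : G) ∈ 𝐂[zp] := ep ▸ y.2
  have iy : 𝐂[y].index = m := (h.index_sub hx eq hzq y (by
    obtain ⟨k, hk⟩ := ho
    exact hk ▸ coprime_of_ne_prime hp hpq.symm)).resolve_left
      fun e => hy (Cls.index_centralizer_eq_one_iff.1 e)
  have iD : (𝐂[x] ⊓ 𝐂[(y : G)]).index = a * m := by
    rw [← relIndex_mul_index (inf_le_left : 𝐂[x] ⊓ 𝐂[(y : G)] ≤ 𝐂[x]), inf_relIndex_left, hx,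
      ← Cls.index_centralizer_subgroup, iy, mul_comm]
  rcases h.idx y (fun e => hy ((Subtype.ext e : y = 1) ▸ one_mem _)) with e | e | e
  · obtain ⟨v, hv, ev⟩ := h.exists_two hb e hp hq hpq hpm hpa hqm hqa
    have hvx : v ∈ 𝐂[x] := ep ▸ mem_comm (ev ▸ mem_comm hyp)
    exact ⟨⟨v, hvx⟩, ⟨1, by rw [← orderOf_coe, pow_one]; exact hv⟩,
      fun hZ => hy (key.2 (ev ▸ key.1 hZ)), le' (ev ▸ inf_le_right)⟩
  · obtain ⟨v', -, hov', hv'⟩ := has_top_of_dvd hq (Cls.center_le_centralizer_single y) (iy ▸ hqm)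
    have iv' : 𝐂[v'].index = m := (h.index_sub hx ep hzp v' (by
      obtain ⟨k, hk⟩ := hov'
      exact hk ▸ coprime_of_ne_prime hq hpq)).resolve_left
        fun e => hv' (Cls.index_centralizer_eq_one_iff.1 e)
    obtain ⟨v, hv, hov, hvZ⟩ := has_of_index_eq hq
      ⟨v', Cls.self_mem_centralizer_single v', hov', hv'⟩ (iy.trans iv'.symm)
    refine ⟨v, hov, hvZ, le' (inf_le_right.trans ?_)⟩
    have e1 := Cls.centralizer_single_mul (x := (y : G)) (y := (v : G))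
      (congrArg Subtype.val (Cls.mem_centralizer_single.1 hv).symm)
      (coprime_orderOf hq hpq ho' (by rwa [orderOf_coe]))
    rw [← h.eq_of_le_b e (e1 ▸ inf_le_left), e1]
    exact inf_le_right
  · exfalso
    obtain ⟨m', hm'⟩ : c ∣ a * m := e ▸ iD ▸ index_dvd_of_le inf_le_right
    obtain ⟨s, hs, hsa⟩ := Nat.exists_prime_and_dvd h.ha.ne'
    have hsc : ¬ s ∣ c := fun hd => hs.one_lt.ne' (Nat.eq_one_of_dvd_coprimes h.cop hsa hd)
    have hsp : s ≠ p := fun e => hpa (e ▸ hsa)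
    have hsq : s ≠ q := fun e => hqa (e ▸ hsa)
    obtain ⟨w, hw, ew⟩ := (h.swap hm').exists_center (hm' ▸ hb) e hp ho' hs hsp
      (((Nat.Prime.dvd_mul hs).1 (hm' ▸ hsa.mul_right m)).resolve_left hsc) hsc
    have hwx : w ∈ 𝐂[x] := eq ▸ mem_comm (ew ▸ mem_comm hyq)
    have := mem_center_of_ne hp hq hpq hqm (h.index_sub hx ep hzp) hs hsp hsq (u := ⟨w, hwx⟩)
      ⟨1, by rw [← orderOf_coe, pow_one]; exact hw⟩
    exact h.not_c_dvd_a (hx ▸ e ▸ ew ▸ index_dvd_of_le (key.1 this))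

theorem comm_of_two (h : Hyp G a m c) (hb : a * m ∣ Nat.card G) {x : G} (hx : 𝐂[x].index = a)
    {p q : ℕ} (hp : p.Prime) (hq : q.Prime) (hpq : q ≠ p) (hpm : p ∣ m) (hpa : ¬ p ∣ a)
    (hqm : q ∣ m) (hqa : ¬ q ∣ a) : center 𝐂[x] = ⊤ := by
  have := Fact.mk hp
  have := Fact.mk hq
  obtain ⟨zq, hzq, eq⟩ := h.exists_two hb hx hp hq hpq hpm hpa hqm hqa
  obtain ⟨zp, hzp, ep⟩ := h.exists_two hb hx hq hp hpq.symm hqm hqa hpm hpa
  refine center_eq_top hp hq hpq hpm hqm (fun u ⟨k, hk⟩ hu => ?_) (fun u ⟨k, hk⟩ hu => ?_)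
    (h.exists_partner hb hx hp hq hpq hpm hpa hqm hqa)
    (h.exists_partner hb hx hq hp hpq.symm hqm hqa hpm hpa)
    fun s hs hsp hsq u ho => mem_center_of_ne hp hq hpq hqm (h.index_sub hx ep hzp) hs hsp hsq ho
  · exact (h.index_sub hx eq hzq u (hk ▸ coprime_of_ne_prime hp hpq.symm)).resolve_left
      fun e => hu (Cls.index_centralizer_eq_one_iff.1 e)
  · exact (h.index_sub hx ep hzp u (hk ▸ coprime_of_ne_prime hq hpq)).resolve_left
      fun e => hu (Cls.index_centralizer_eq_one_iff.1 e)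

theorem exists_prime (h : Hyp G a m c) {x y : G} (hx : 𝐂[x].index = a) (hle : 𝐂[y] ≤ 𝐂[x])
    (hne : 𝐂[y] ≠ 𝐂[x]) : 𝐂[y].index = a * m ∧
      ∃ q : ℕ, q.Prime ∧ ∀ r : ℕ, r.Prime → r ∣ m → r ∣ a ∨ r = q := by
  have hy : 𝐂[y].index = a * m := (h.of_a_dvd (hx ▸ index_dvd_of_le hle)).resolve_left
    fun e => hne (eq_of_le_of_index_eq hle (e.trans hx.symm))
  refine ⟨hy, ?_⟩
  by_cases hq : ∃ q : ℕ, q.Prime ∧ q ∣ m ∧ ¬ q ∣ a
  · obtain ⟨q, hq, hqm, hqa⟩ := hq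
    refine ⟨q, hq, fun r hr hrm => ?_⟩
    by_contra! hc
    have h1 := h.comm_of_two (hy ▸ index_dvd_card _) hx hq hr hc.2 hqm hqa hrm hc.1
    refine hne (le_antisymm hle fun g hg => Cls.mem_centralizer_single.2 ?_)
    have h2 : (⟨y, hle (Cls.self_mem_centralizer_single y)⟩ : 𝐂[x]) ∈ center 𝐂[x] :=
      h1 ▸ mem_top _
    exact congrArg Subtype.val (mem_center_iff.1 h2 ⟨g, hg⟩)
  · push Not at hq
    exact ⟨2, Nat.prime_two, fun r hr hrm => Or.inl (hq r hr hrm)⟩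

theorem dvd_of_has (h : Hyp G a m c) {s : ℕ} (hs : s.Prime) (h1 : Has s (⊤ : Subgroup G)) :
    s ∣ a * m ∨ s ∣ c := by
  by_contra! hc
  obtain ⟨u, -, ho, hu⟩ := h1
  have := Fact.mk hs
  refine hu (mem_center_of_forall_not_dvd (fun x hd => ?_) ho)
  by_cases hx : x = 1
  · rw [Cls.index_centralizer_eq_one_iff.mpr (hx ▸ one_mem _), Nat.dvd_one] at hd
    exact hs.one_lt.ne' hd
  rcases h.idx x hx with e | e | e <;> rw [e] at hd
  · exact hc.1 (hd.mul_right m)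
  · exact hc.1 hd
  · exact hc.2 hd

section Iso

variable (h : Hyp G a m c) (iso : ∀ z y : G, 𝐂[z].index = c → 𝐂[y] ≤ 𝐂[z] → 𝐂[y] = 𝐂[z])
include h iso

omit h in
theorem le_of_iso {z v : G} (hz : 𝐂[z].index = c) (hv : v ∈ 𝐂[z])
    (hc : (orderOf z).Coprime (orderOf v)) : 𝐂[z] ≤ 𝐂[v] := by
  have e := Cls.centralizer_single_mul (Cls.mem_centralizer_single_commute.mp hv).symm hc
  rw [← iso z (z * v) hz (e ▸ inf_le_left), e]
  exact inf_le_right

omit h in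
theorem split_of_iso {p : ℕ} [hp : Fact p.Prime] {z : G} (hz : 𝐂[z].index = c)
    (ho : ∃ k, orderOf z = p ^ k) : ∃ B H : Subgroup G, IsSplit p 𝐂[z] B H := by
  obtain ⟨k, hk⟩ := ho
  refine exists_isSplit fun v hv hc hd => ?_
  rw [relIndex_eq_one.2 (le_of_iso iso hz hv (hk ▸ coprime_pow_of_coprime hc)), Nat.dvd_one] at hd
  exact hp.out.one_lt.ne' hd

theorem eq_of_sylow_le {p : ℕ} [hp : Fact p.Prime] (P : Sylow p G) {z w : G}
    (hzP : z ∈ (P : Subgroup G)) (z1 : z ≠ 1) (hz : (P : Subgroup G) ≤ 𝐂[z])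
    (hw : 𝐂[w].index = c) (hP : (P : Subgroup G) ≤ 𝐂[w]) : 𝐂[w] = 𝐂[z] := by
  refine h.eq_of_le_c hw z1 ?_
  have w1 : w ≠ 1 := by
    rintro rfl
    exact h.hc.ne (hw ▸ (Cls.index_centralizer_eq_one_iff.2 (one_mem _)).symm)
  obtain ⟨s, hs, u, hu, ho, u1⟩ := exists_prime_pow_not_mem (K := ⊥) (mt mem_bot.1 w1)
  have e := h.eq_of_le_c hw (mt mem_bot.2 u1) (Cls.centralizer_single_le_of_mem_zpowers hu)
  rw [e] at hw hP ⊢
  have hoz := Core.exists_orderOf_eq_pow_of_mem P.2 hzP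
  by_cases hsp : s = p
  · subst hsp
    obtain ⟨B, H, hS⟩ := split_of_iso iso hw ho
    have hB := hS.le_B hP P.2
    exact hS.le_of (P.3 hS.isPGroup hB ▸ hz) (hS.H_le_centralizer (hB hzP))
  · exact le_of_iso iso hw (hP hzP) (coprime_orderOf hs hsp hoz ho).symm

theorem isSolvable_of_iso (ha : a ∣ Nat.card G) {q : ℕ} (hq : q.Prime)
    (hr : ∀ r : ℕ, r.Prime → r ∣ m → r ∣ a ∨ r = q) : Group.IsSolvable G := by
  obtain ⟨p, hp, hpa⟩ := Nat.exists_prime_and_dvd h.ha.ne'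
  have := Fact.mk hp
  obtain ⟨P⟩ : Nonempty (Sylow p G) := inferInstance
  obtain ⟨z, hzP, z1, zo, hz⟩ := exists_mem_center P.2 fun e => by
    have := P.not_dvd_index
    rw [e, index_bot] at this
    exact this (hpa.trans ha)
  have hoz : ∃ k, orderOf z = p ^ k := ⟨1, by rw [zo, pow_one]⟩
  have iz : 𝐂[z].index = c := by
    have h1 := Cls.not_dvd_index_of_sylow_le hz
    rcases h.idx z z1 with e | e | e
    · exact absurd (e ▸ hpa) h1
    · exact absurd (e ▸ hpa.mul_right m) h1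
    · exact e
  set Z := 𝐂[z] ⊓ centralizer (𝐂[z] : Set G) with hZ
  by_cases hN : Z = normalizer (Z : Set G)
  · have e : 𝐂[z] = Z := le_antisymm ((le_normalizer.trans
      (Transfer.normalizer_le_normalizer_inf_centralizer_self _)).trans hN.ge) inf_le_left
    have hle : ∀ d ∈ 𝐂[z], 𝐂[z] ≤ 𝐂[d] := fun d hd =>
      Cls.le_centralizer_single_iff.2 (e.le hd).2
    refine Ab.isSolvable_of_eq (A := 𝐂[z]) (s := p) ⟨hle, fun d hd hdZ =>
      (h.eq_of_le_c iz (fun e : d = 1 => hdZ (e ▸ one_mem _)) (hle d hd)).symm⟩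
      ⟨z, hz hzP, hoz, h.nc z1⟩ ?_
    rwa [e]
  have hcount := two_mul_ncard_conj_le hN
  refine isSolvable_of_index hp hq (H := 𝐂[z]) ?_ fun r hr' hd => ?_
  · obtain ⟨B, H, hS⟩ := split_of_iso iso iz hoz
    by_cases hH : H = ⊥
    · right
      exact hS.isPGroup.to_le (hS.le_of le_rfl (hH ▸ bot_le))
    left
    obtain ⟨d, hd, d1⟩ := (H.bot_or_exists_ne_one).resolve_left hH
    have hod := ((hS.memH d).1 hd).2
    have e := h.eq_of_le_c iz d1 (le_of_iso iso iz (hS.H_le hd) (zo ▸ hod.symm))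
    have hle : ∀ g ∈ 𝐂[z], 𝐂[z] ≤ 𝐂[g] := fun g hg => by
      obtain ⟨u, hu, v, hv, rfl⟩ := hS.exists_mul hg
      refine le_trans (le_inf ?_ ?_) (inf_le_centralizer_mul u v)
      · obtain ⟨k, hk⟩ := ((hS.memB u).1 hu).2
        exact e ▸ le_of_iso iso (e ▸ iz) (e ▸ hS.B_le hu) (hk ▸ (coprime_pow_of_coprime hod).symm)
      · exact le_of_iso iso iz (hS.H_le hv) (zo ▸ ((hS.memH v).1 hv).2.symm)
    exact Core.isMulCommutative_of_forall fun g hg k hk =>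
      Cls.mem_centralizer_single.1 (hle k hk hg)
  · rw [iz] at hd
    have hra : ¬ r ∣ a := fun hd' => hr'.one_lt.ne' (Nat.eq_one_of_dvd_coprimes h.cop hd' hd)
    by_cases hrm : r ∣ m
    · exact Or.inl ((hr r hr' hrm).resolve_left hra)
    right
    by_contra hP
    have := Fact.mk hr'
    have h1 := Cls.two_mul_ncard_not_dvd_index_le hP
    have h3 : (Set.univ : Set G) ⊆ {x : G | ¬ r ∣ 𝐂[x].index} ∪
        {x : G | x ≠ 1 ∧ ∃ g : G, g⁻¹ * x * g ∈ Z} := by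
      intro x _
      by_cases hx : r ∣ 𝐂[x].index
      · right
        have x1 : x ≠ 1 := by
          rintro rfl
          rw [Cls.index_centralizer_eq_one_iff.mpr (one_mem _), Nat.dvd_one] at hx
          exact hr'.one_lt.ne' hx
        have ix : 𝐂[x].index = c := by
          rcases h.idx x x1 with e | e | e
          · exact absurd (e ▸ hx) hra
          · exact absurd ((Nat.Prime.dvd_mul hr').1 (e ▸ hx)) (not_or.2 ⟨hra, hrm⟩)
          · exact e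
        obtain ⟨g, hg⟩ := Cls.exists_conj_mem_centralizer_sylow P (x := x) (by
          rw [ix]
          exact fun hd => hp.one_lt.ne' (Nat.eq_one_of_dvd_coprimes h.cop hpa hd))
        have e := h.eq_of_sylow_le iso P hzP z1 hz ((index_conj' g x).trans ix)
          (Cls.le_centralizer_single_iff.2 hg)
        exact ⟨x1, g, mem_inf.2 ⟨e ▸ Cls.self_mem_centralizer_single _,
          Cls.le_centralizer_single_iff.1 e.ge⟩⟩
      · exact Or.inl hx
    have h4 := (Set.ncard_le_ncard h3).trans (Set.ncard_union_le _ _)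
    rw [Set.ncard_univ] at h4
    omega

end Iso

theorem isSolvable (h : Hyp G a m c) {x y : G} (hx : 𝐂[x].index = a) (hle : 𝐂[y] ≤ 𝐂[x])
    (hne : 𝐂[y] ≠ 𝐂[x]) : Group.IsSolvable G := by
  obtain ⟨-, q, hq, h1⟩ := h.exists_prime hx hle hne
  by_cases iso : ∀ z y : G, 𝐂[z].index = c → 𝐂[y] ≤ 𝐂[z] → 𝐂[y] = 𝐂[z]
  · exact h.isSolvable_of_iso iso (hx ▸ index_dvd_card _) hq h1
  push Not at iso
  obtain ⟨z, w, hz, hle', hne'⟩ := iso
  have hd : c ∣ 𝐂[w].index := hz ▸ index_dvd_of_le hle'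
  have w1 : w ≠ 1 := by
    rintro rfl
    rw [Cls.index_centralizer_eq_one_iff.2 (one_mem _), Nat.dvd_one] at hd
    exact h.hc.ne' hd
  obtain ⟨m', hm'⟩ : c ∣ a * m := by
    rcases h.idx w w1 with e | e | e
    · exact absurd (e ▸ hd) h.not_c_dvd_a
    · exact e ▸ hd
    · exact absurd (eq_of_le_of_index_eq hle' (e.trans hz.symm)) hne'
  obtain ⟨-, p, hp, h2⟩ := (h.swap hm').exists_prime hz hle' hne'
  have h3 : ∀ r : ℕ, r.Prime → r ∣ a → r = p := fun r hr hra => by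
    have hrc : ¬ r ∣ c := fun hd => hr.one_lt.ne' (Nat.eq_one_of_dvd_coprimes h.cop hra hd)
    exact (h2 r hr (((Nat.Prime.dvd_mul hr).1 (hm' ▸ hra.mul_right m)).resolve_left
      hrc)).resolve_left hrc
  refine isSolvable_of_two hp hq fun s hs h4 => ?_
  have h5 : s ∣ a * m := (h.dvd_of_has hs h4).elim id fun hd => hm' ▸ hd.mul_right m'
  rcases (Nat.Prime.dvd_mul hs).1 h5 with h6 | h6
  · exact Or.inl (h3 s hs h6)
  · exact (h1 s hs h6).imp_left (h3 s hs)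

end Hyp

end Cfsg.Agent.Four
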