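import Mathlib
import Cfsg.Agent.Lib.ODD.Char2
import Cfsg.Agent.Lib.Blk.Weak

/-!
# Cls/IdxTwo: an abelian Sylow subgroup `P` with `|N(P) : C(P)| = 2` and `C(x) = C(P)` on `P#`

The virtual character `(1 - φ)^G - 1` is a sum of two signed irreducible characters.
-/

set_option autoImplicit false

namespace Cfsg.Agent.IdxTwo

open Subgroup OO ODD
open scoped ComplexConjugate

universe u

variable {G : Type u} [Group G] [Finite G]

/-- the sum of `χ` over products of two conjugates of `z` -/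
noncomputable def W (z : G) (χ : G → ℂ) : ℂ :=
  ∑ j ∈ elts ((⊤ : Subgroup G) : Set G), ∑ i ∈ elts ((⊤ : Subgroup G) : Set G),
    χ (i⁻¹ * z * i * (j⁻¹ * z * j))

theorem W_add (z : G) (χ ψ : G → ℂ) : W z (χ + ψ) = W z χ + W z ψ := by
  simp only [W, Pi.add_apply, Finset.sum_add_distrib]

theorem W_dirr (z : G) {χ : G → ℂ} (hχ : IsDirr ⊤ χ) :
    χ 1 * W z χ = (Nat.card G : ℂ) ^ 2 * χ z ^ 2 := by
  have key : ∀ χ : G → ℂ, IsIrr ⊤ χ → χ 1 * W z χ = (Nat.card G : ℂ) ^ 2 * χ z ^ 2 :=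
    fun χ hχ => by
      rw [W, Finset.mul_sum, Finset.sum_congr rfl (g := fun _ => Nat.card G * χ z * χ z)
        fun j _ => ?_, sum_elts_const, card_top, nsmul_eq_mul]
      · ring
      have := Blk.sum_conj_mul hχ (mem_top z) (j⁻¹ * z * j)
      rw [← sum_elts_inv, cfunJ' hχ.mem_CF (mem_top j), card_top] at this
      simpa only [inv_inv] using this
  rcases hχ with h | h
  · exact key χ h
  · have := key _ h
    simp only [W, Pi.neg_apply, Finset.sum_neg_distrib] at this ⊢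
    linear_combination this

theorem W_cfInd (z : G) (K : Subgroup G) (F : G → ℂ) :
    W z (cfInd ⊤ K F) = (Nat.card K : ℂ)⁻¹ * Nat.card G * W z F := by
  have e : ∀ x : G, ∑ j ∈ elts ((⊤ : Subgroup G) : Set G), ∑ i ∈ elts ((⊤ : Subgroup G) : Set G),
      F (x⁻¹ * (i⁻¹ * z * i * (j⁻¹ * z * j)) * x) = W z F := fun x => by
    rw [W, ← sum_elts_mul_right (mem_top x) fun j => ∑ i ∈ elts ((⊤ : Subgroup G) : Set G),
      F (i⁻¹ * z * i * (j⁻¹ * z * j))]
    refine Finset.sum_congr rfl fun j _ => ?_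
    rw [← sum_elts_mul_right (mem_top x) fun i => F (i⁻¹ * z * i * ((j * x)⁻¹ * z * (j * x)))]
    exact Finset.sum_congr rfl fun i _ => by congr 1; group
  have e2 : ∑ x ∈ elts ((⊤ : Subgroup G) : Set G), ∑ j ∈ elts ((⊤ : Subgroup G) : Set G),
      ∑ i ∈ elts ((⊤ : Subgroup G) : Set G), F (x⁻¹ * (i⁻¹ * z * i * (j⁻¹ * z * j)) * x) =
      Nat.card G * W z F := by
    rw [Finset.sum_congr rfl fun x _ => e x, sum_elts_const, card_top, nsmul_eq_mul]
  rw [mul_assoc, ← e2, W, Finset.sum_comm (s := elts ((⊤ : Subgroup G) : Set G))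
    (f := fun x j => ∑ i ∈ elts ((⊤ : Subgroup G) : Set G),
      F (x⁻¹ * (i⁻¹ * z * i * (j⁻¹ * z * j)) * x)), Finset.mul_sum]
  refine Finset.sum_congr rfl fun j _ => ?_
  rw [Finset.sum_comm, Finset.mul_sum]
  exact Finset.sum_congr rfl fun i _ => cfIndE _ _ (mem_top _)

omit [Finite G] in
theorem center_eq_bot [IsSimpleGroup G] (hna : ¬ IsMulCommutative G) : center G = ⊥ :=
  (IsSimpleGroup.eq_bot_or_eq_top_of_normal _ inferInstance).resolve_right fun e =>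
    hna ⟨⟨fun a b => mem_center_iff.1 (e ▸ mem_top b) a⟩⟩

theorem dirr_eq_zero [IsSimpleGroup G] (hna : ¬ IsMulCommutative G) {v : G → ℂ} (hv : IsDirr ⊤ v)
    (h1 : ⟪v, cf1 ⊤⟫[⊤] = 0) {a : ℤ} (ha : v 1 = a) {x : G} (x1 : x ≠ 1)
    (hc : a.natAbs.Coprime 𝐂[x].index) : v x = 0 := by
  have key : ∀ χ : G → ℂ, IsIrr ⊤ χ → ⟪χ, cf1 ⊤⟫[⊤] = 0 → ∀ b : ℤ, χ 1 = b →
      b.natAbs.Coprime 𝐂[x].index → χ x = 0 := fun χ hχ h1 b hb hc => by
    obtain ⟨m, -, hm⟩ := hχ.exists_one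
    obtain rfl : b = m := by exact_mod_cast hb.symm.trans hm
    refine (coprime_degree_support_cfcenter hχ hm (by simpa using hc)).resolve_right fun h2 => ?_
    rcases (normalIn_top.1 (cfker_normal hχ.mem_CF)).eq_bot_or_eq_top with h3 | h3
    · refine x1 (mem_bot.1 (center_eq_bot hna ▸ mem_center_iff.2 fun y => ?_))
      have := hχ.isChar.commutator_mem_cfker (mem_top x) h2 (mem_top y)
      rw [h3, mem_bot, mul_inv_eq_one, mul_inv_eq_iff_eq_mul] at this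
      exact this.symm
    · rw [hχ.le_cfker_iff.1 h3.ge, cfdot_cf1] at h1
      exact one_ne_zero h1
  rcases hv with h | h
  · exact key v h h1 a ha hc
  · exact neg_eq_zero.1 (key _ h (by rw [cfdotNl, h1, neg_zero]) (-a)
      (by rw [Pi.neg_apply, ha, Int.cast_neg]) (by rwa [Int.natAbs_neg]))

theorem dirr_natAbs_dvd {v : G → ℂ} (hv : IsDirr ⊤ v) {a : ℤ} (ha : v 1 = a) :
    a.natAbs ∣ Nat.card G := by
  have key : ∀ χ : G → ℂ, IsIrr ⊤ χ → ∀ b : ℤ, χ 1 = b → b.natAbs ∣ Nat.card G :=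
    fun χ hχ b hb => by
      obtain ⟨m, -, hm⟩ := hχ.exists_one
      obtain rfl : b = m := by exact_mod_cast hb.symm.trans hm
      simpa using dvd_irr1_cardG hχ hm
  rcases hv with h | h
  · exact key v h a ha
  · rw [← Int.natAbs_neg]
    exact key _ h (-a) (by rw [Pi.neg_apply, ha, Int.cast_neg])

theorem two_dvd_of_eq_zero {v : G → ℂ} (hv : v ∈ ZIrr ⊤) {a : ℤ} (ha : v 1 = a) {t : G}
    (t1 : t ≠ 1) (t2 : t * t = 1) (h : v t = 0) : 2 ∣ a := by
  have hε : IsPrimitiveRoot (-1 : ℂ) 2 := IsPrimitiveRoot.neg_one 0 (by norm_num)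
  have := vchar_ker_mod_prim Nat.prime_two hε hv (mem_top t) (mem_top 1)
    (orderOf_eq_prime (by rwa [sq]) t1) (one_mem _)
  rw [mul_one, h, ha] at this
  exact int_eqAmod_prime_prim Nat.prime_two hε this.symm

structure Hyp (K P : Subgroup G) (e : ℕ) (n : G) : Prop where
  le : P ≤ K
  cent : ∀ g, g ∈ K ↔ ∀ a ∈ P, g * a = a * g
  pow_in : ∀ y ∈ K, y ^ e ∈ P
  mul_pow : ∀ x ∈ K, ∀ y ∈ K, (x * y) ^ e = x ^ e * y ^ e
  cop : (2 * e).Coprime (Nat.card P)
  ne : P ≠ ⊥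
  inv : ∀ a ∈ P, n * a * n⁻¹ = a⁻¹
  ti : ∀ a ∈ P, a ≠ 1 → ∀ x : G, x * a * x⁻¹ ∈ P → x ∈ K ∨ n⁻¹ * x ∈ K

/-- the linear character `y ↦ l (y ^ e)` of `K` -/
noncomputable def lift (K : Subgroup G) (e : ℕ) (l : G → ℂ) : G → ℂ :=
  (K : Set G).indicator fun y => l (y ^ e)

omit [Finite G] in
theorem lift_apply {K : Subgroup G} {e : ℕ} {l : G → ℂ} {y : G} (hy : y ∈ K) :
    lift K e l y = l (y ^ e) := Set.indicator_of_mem hy _

namespace Hyp

variable {K P : Subgroup G} {e : ℕ} {n : G} (h : Hyp K P e n) {l v w : G → ℂ}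
include h

omit [Finite G] in
theorem comm {g a : G} (hg : g ∈ K) (ha : a ∈ P) : g * a = a * g := (h.cent g).1 hg a ha

omit [Finite G] in
theorem exists_pow {a : G} (ha : a ∈ P) : ∃ b ∈ P, b ^ (2 * e) = a := by
  obtain ⟨m, hm⟩ := exists_pow_eq_self_of_coprime (x := a)
    (h.cop.coprime_dvd_right (orderOf_dvd_natCard _ ha))
  exact ⟨a ^ m, pow_mem ha m, by rw [← pow_mul, mul_comm, pow_mul, hm]⟩

omit [Finite G] in
theorem eq_one_of_mul_self {a : G} (ha : a ∈ P) (h2 : a * a = 1) : a = 1 := by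
  obtain ⟨m, hm⟩ := exists_pow_eq_self_of_coprime (x := a)
    (h.cop.coprime_dvd_right (orderOf_dvd_natCard _ ha))
  rw [← hm, pow_mul, sq, h2, one_pow, one_pow]

omit [Finite G] in
theorem inverts {x a : G} (hx : n⁻¹ * x ∈ K) (ha : a ∈ P) : x * a * x⁻¹ = a⁻¹ := by
  rw [← h.inv a ha, show x * a * x⁻¹ = n * (n⁻¹ * x * a) * x⁻¹ by group, h.comm hx ha]
  group

omit [Finite G] in
theorem mem_of_inverts {x : G} (hx : ∀ a ∈ P, x * a * x⁻¹ = a⁻¹) : n⁻¹ * x ∈ K :=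
  (h.cent _).2 fun a ha => by
    have h1 := h.inv a ha
    rw [← hx a ha] at h1
    calc n⁻¹ * x * a = n⁻¹ * (x * a * x⁻¹) * x := by group
      _ = a * (n⁻¹ * x) := by rw [← h1]; group

omit [Finite G] in
theorem mul_mem_of {x y : G} (hx : n⁻¹ * x ∈ K) (hy : n⁻¹ * y ∈ K) : x * y ∈ K :=
  (h.cent _).2 fun a ha => by
    calc x * y * a = x * (y * a * y⁻¹) * x⁻¹ * (x * y) := by group
      _ = a * (x * y) := by rw [h.inverts hy ha, h.inverts hx (inv_mem ha), inv_inv]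

omit [Finite G] in
theorem conj_mem {x y : G} (hx : n⁻¹ * x ∈ K) (hy : y ∈ K) : x * y * x⁻¹ ∈ K :=
  h.mul_mem_of (by rw [← mul_assoc]; exact mul_mem hx hy) (h.mem_of_inverts fun a ha => by
    have := h.inverts hx (inv_mem ha)
    rw [inv_inv] at this
    calc x⁻¹ * a * x⁻¹⁻¹ = x⁻¹ * (x * a⁻¹ * x⁻¹) * x⁻¹⁻¹ := by rw [this]
      _ = a⁻¹ := by group)

omit [Finite G] in
theorem not_mem_of_inverts {x a : G} (ha : a ∈ P) (a1 : a ≠ 1) (hx : x * a * x⁻¹ = a⁻¹) : x ∉ K :=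
  fun hK => a1 (h.eq_one_of_mul_self ha (by
    rw [h.comm hK ha, mul_inv_cancel_right] at hx
    exact mul_eq_one_iff_eq_inv.2 hx))

omit [Finite G] in
theorem not_mem {x : G} (hx : n⁻¹ * x ∈ K) : x ∉ K := by
  obtain ⟨⟨a, ha⟩, a1⟩ := (ne_bot_iff_exists_ne_one).1 h.ne
  exact h.not_mem_of_inverts ha (fun e => a1 (Subtype.ext e)) (h.inverts hx ha)

omit [Finite G] in
theorem ab : Ab P := Core.isMulCommutative_of_forall fun _ ha _ hb => h.comm (h.le ha) hb

theorem lin (hl : IsIrr P l) : IsLinChar K (lift K e l) :=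
  isLinChar_of_mul (fun _ hx => Set.indicator_of_notMem hx _)
    (by rw [lift_apply (one_mem _), one_pow, (irr_abelian_lin h.ab hl).one]) fun x hx y hy => by
    rw [lift_apply hx, lift_apply hy, lift_apply (mul_mem hx hy), h.mul_pow x hx y hy,
      lin_charM (irr_abelian_lin h.ab hl) (h.pow_in x hx) (h.pow_in y hy)]

theorem exists_sq_ne (hl : IsIrr P l) (l1 : l ≠ cf1 P) : ∃ b ∈ P, lift K e l b ^ 2 ≠ 1 := by
  by_contra hc
  push Not at hc
  refine l1 (cfun_ext hl.mem_CF (cf1_mem_CF P) fun a ha => ?_)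
  obtain ⟨b, hb, rfl⟩ := h.exists_pow ha
  rw [cf1E ha, ← hc b hb, lift_apply (h.le hb), mul_comm, pow_mul,
    lin_charX (irr_abelian_lin h.ab hl) (pow_mem hb e)]

theorem nr (hl : IsIrr P l) (l1 : l ≠ cf1 P) : star (lift K e l) ≠ lift K e l := fun hs => by
  obtain ⟨b, hb, h1⟩ := h.exists_sq_ne hl l1
  have := lin_char_mul_conj (h.lin hl) (h.le hb)
  rw [← cfConjCE, hs] at this
  exact h1 (by rw [sq, this])

theorem sub_apply_eq_zero (hl : IsIrr P l) {y : G} (hy : y ^ e = 1) :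
    (cf1 K - lift K e l) y = 0 := by
  by_cases hK : y ∈ K
  · rw [Pi.sub_apply, cf1E hK, lift_apply hK, hy, (irr_abelian_lin h.ab hl).one, sub_self]
  · exact cfun0 (sub_mem (cf1_mem_CF K) (h.lin hl).mem_CF) hK

theorem eta_of_pow (hl : IsIrr P l) {y : G} (hy : y ^ e = 1) : eta K (lift K e l) y = -1 := by
  rw [eta, Pi.sub_apply, cfInd_eq_zero, cf1E (mem_top y), zero_sub]
  intro x _
  refine h.sub_apply_eq_zero hl ?_
  rw [show x⁻¹ * y * x = x⁻¹ * y * x⁻¹⁻¹ by rw [inv_inv], conj_pow, hy]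
  simp

theorem eta_apply (hl : IsIrr P l) {y : G} (hy : y ∈ K) :
    eta K (lift K e l) y = 1 - lift K e l y - conj (lift K e l y) := by
  classical
  by_cases y1 : y ^ e = 1
  · rw [h.eta_of_pow hl y1, lift_apply hy, y1, (irr_abelian_lin h.ab hl).one]; simp
  have hF := sub_mem (cf1_mem_CF K) (h.lin hl).mem_CF
  let I : Set G := {x | n⁻¹ * x ∈ K}
  have hu : elts ((K : Set G) ∪ I) = elts (K : Set G) ∪ elts I := by ext x; simp
  have hd : Disjoint (elts (K : Set G)) (elts I) := Finset.disjoint_left.2 fun x h1 h2 =>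
    h.not_mem ((mem_elts (A := I)).1 h2) (mem_elts.1 h1)
  rw [eta, Pi.sub_apply, cf1E (mem_top y), cfIndE' _ _ (mem_top y),
    ← sum_elts_subset (A := (K : Set G) ∪ I) (fun x _ => mem_top x) fun x _ hx => cfun0 hF fun e' =>
      hx (h.ti _ (h.pow_in y hy) y1 x (by rw [← conj_pow]; exact h.pow_in _ e')),
    hu, Finset.sum_union hd,
    Finset.sum_congr (s₁ := elts (K : Set G)) rfl (g := fun _ => 1 - lift K e l y) fun x hx => by
      rw [cfunJ hF (mem_elts.1 hx), Pi.sub_apply, cf1E hy],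
    Finset.sum_congr (s₁ := elts I) rfl (g := fun _ => 1 - conj (lift K e l y)) fun x hx => by
      have hx' : n⁻¹ * x ∈ K := (mem_elts (A := I)).1 hx
      rw [Pi.sub_apply, cf1E (h.conj_mem hx' hy), lift_apply (h.conj_mem hx' hy), conj_pow,
        h.inverts hx' (h.pow_in y hy), char_inv hl.isChar, lift_apply hy],
    ← sum_elts_equiv (A := (K : Set G)) (B := I) (Equiv.mulLeft n) (fun x => by simp [I]),
    sum_elts_const, sum_elts_const, nsmul_eq_mul, nsmul_eq_mul]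
  have := cardC_ne_zero K
  field_simp
  ring

theorem exists_dec (hl : IsIrr P l) (l1 : l ≠ cf1 P) : ∃ v w, Dec K (lift K e l) v w := by
  classical
  have hφ := (h.lin hl).isIrr
  have nr := h.nr hl l1
  have n1 := ne_cf1_of_nr (K := K) nr
  have h3 : star (lift K e l) ≠ cf1 K := fun e' => n1 (by rw [← star_star (lift K e l), e', star_cf1])
  have e1 : ∀ χ, ⟪eta K (lift K e l), χ⟫[K] = ⟪cf1 K - lift K e l - star (lift K e l), χ⟫[K] :=
    fun χ => cfdot_congr (fun x hx => by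
      rw [h.eta_apply hl hx, Pi.sub_apply, Pi.sub_apply, cf1E hx, cfConjCE]) fun _ _ => rfl
  have h2 : cfnorm ⊤ (eta K (lift K e l)) = 2 := cfnorm_eq_of_cfdot (by
    rw [eta_dot hφ (vchar_mem_CF (eta_vchar hφ)), cfdot_symm0 (ODD.Hyp.eta_dot_one hφ n1), e1, e1,
      cfdotBl, cfdotBl, cfdotBl, cfdotBl, cfdot_cf1, hφ.cfdot_cf1 n1, hφ.star.cfdot_cf1 h3,
      cfdot_symm0 (hφ.cfdot_cf1 n1), cfdot_irr_self hφ, cfdot_irr_ne hφ.star hφ nr]
    norm_num)
  obtain ⟨S, h3, h4, h5, h6⟩ := vchar_small_norm (eta_vchar hφ) (by rw [h2]; norm_num)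
  obtain ⟨v, w, hne, rfl⟩ := Finset.card_eq_two.1 (by exact_mod_cast h5.trans h2 : S.card = 2)
  exact ⟨v, w, hφ, nr, h4 v (by simp), h4 w (by simp), h6.trans (Finset.sum_pair hne),
    h3.2 v (by simp) w (by simp) hne⟩

theorem W_sub (hl : IsIrr P l) (l1 : l ≠ cf1 P) {z : G} (z2 : z * z = 1) :
    ∃ j : ℕ, W z (cf1 K - lift K e l) = (Nat.card P * j : ℂ) ^ 2 := by
  classical
  have hF := sub_mem (cf1_mem_CF K) (h.lin hl).mem_CF
  let J : Set G := {i | n⁻¹ * (i⁻¹ * z * i) ∈ K}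
  have hJ : ∀ p ∈ P, ∀ i, i ∈ J ↔ i * p ∈ J := by
    have : ∀ p ∈ P, ∀ i, i ∈ J → i * p ∈ J := fun p hp i hi => by
      refine h.mem_of_inverts fun a ha => ?_
      have h1 := h.inverts hi ha
      have h2 := h.comm (h.le hp) ha
      calc (i * p)⁻¹ * z * (i * p) * a * ((i * p)⁻¹ * z * (i * p))⁻¹
          = p⁻¹ * (i⁻¹ * z * i * (p * a * p⁻¹) * (i⁻¹ * z * i)⁻¹) * p := by group
        _ = a⁻¹ := by
          rw [h2, mul_inv_cancel_right, h1, ← mul_inv_rev, ← h2]; group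
    exact fun p hp i => ⟨this p hp i, fun hi => by simpa using this _ (inv_mem hp) _ hi⟩
  have hc : ∃ j : ℕ, (elts J).card = Nat.card P * j := by
    refine ⟨Nat.card (QuotientGroup.mk '' J : Set (G ⧸ P)), ?_⟩
    rw [← QuotientGroup.card_preimage_mk, card_elts_set, ← Nat.card_coe_set_eq]
    congr 2
    ext x
    refine ⟨fun hx => ⟨x, hx, rfl⟩, fun ⟨y, hy, e'⟩ => ?_⟩
    simpa using (hJ _ (QuotientGroup.eq.1 e') y).1 hy
  obtain ⟨j, hj⟩ := hc
  refine ⟨j, ?_⟩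
  have c2 : ∀ i : G, i⁻¹ * z * i * (i⁻¹ * z * i) = 1 := fun i => by
    rw [show i⁻¹ * z * i * (i⁻¹ * z * i) = i⁻¹ * (z * z) * i by group, z2]; group
  have key : ∀ a b : G, a * a = 1 → b * b = 1 → (cf1 K - lift K e l) (a * b) ≠ 0 →
      n⁻¹ * a ∈ K ∧ n⁻¹ * b ∈ K := fun a b a2 b2 h0 => by
    have hK : a * b ∈ K := by_contra fun hn => h0 (cfun0 hF hn)
    have h1 : (a * b) ^ e ≠ 1 := fun e' => h0 (h.sub_apply_eq_zero hl e')
    have h2 : a * (a * b) ^ e * a⁻¹ = ((a * b) ^ e)⁻¹ := by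
      rw [← conj_pow, ← inv_pow, mul_inv_rev, ← mul_assoc, a2, one_mul,
        inv_eq_of_mul_eq_one_right b2]
    have h3 := (h.ti _ (h.pow_in _ hK) h1 a (h2 ▸ inv_mem (h.pow_in _ hK))).resolve_left
      (h.not_mem_of_inverts (h.pow_in _ hK) h1 h2)
    refine ⟨h3, ?_⟩
    have := mul_mem h3 hK
    rwa [mul_assoc, ← mul_assoc a, a2, one_mul] at this
  obtain ⟨b, hb, hb2⟩ := h.exists_sq_ne hl l1
  have zero : ∀ y, n⁻¹ * y ∈ K → ∑ i ∈ elts J, lift K e l (i⁻¹ * z * i * y) = 0 := fun y hy => by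
    have h1 := sum_elts_equiv (A := J) (B := J) (Equiv.mulRight b⁻¹) (hJ _ (inv_mem hb))
      fun i => lift K e l (i⁻¹ * z * i * y)
    rw [Finset.sum_congr rfl (g := fun i => lift K e l b ^ 2 * lift K e l (i⁻¹ * z * i * y))
      fun i hi => ?_, ← Finset.mul_sum] at h1
    · exact (mul_eq_zero.1 (show (lift K e l b ^ 2 - 1) * _ = 0 by
        rw [sub_mul, h1, one_mul, sub_self])).resolve_left (sub_ne_zero.2 hb2)
    have hi' : n⁻¹ * (i⁻¹ * z * i) ∈ K := (mem_elts (A := J)).1 hi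
    have h2 := h.inverts hi' (inv_mem hb)
    rw [inv_inv] at h2
    rw [← lin_charX (h.lin hl) (h.le hb), ← lin_charMl (h.lin hl) (pow_mem (h.le hb) 2)]
    congr 1
    calc (Equiv.mulRight b⁻¹ i)⁻¹ * z * Equiv.mulRight b⁻¹ i * y
        = b * (i⁻¹ * z * i * b⁻¹ * (i⁻¹ * z * i)⁻¹) * (i⁻¹ * z * i * y) := by
          simp only [Equiv.coe_mulRight]; group
      _ = _ := by rw [h2, sq]
  rw [W, ← sum_elts_subset (A := J) (fun x _ => mem_top x) fun x _ hx =>
      Finset.sum_eq_zero fun i _ => by_contra fun h0 => hx (key _ _ (c2 i) (c2 x) h0).2,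
    Finset.sum_congr rfl (g := fun _ => ((elts J).card : ℂ)) fun x hx => ?_, Finset.sum_const,
    nsmul_eq_mul, hj]
  · push_cast; ring
  have hx' : n⁻¹ * (x⁻¹ * z * x) ∈ K := (mem_elts (A := J)).1 hx
  rw [← sum_elts_subset (A := J) (fun x _ => mem_top x) fun i _ hi =>
      by_contra fun h0 => hi (key _ _ (c2 i) (c2 x) h0).1]
  simp only [Pi.sub_apply, Finset.sum_sub_distrib]
  rw [zero _ hx', sub_zero, Finset.sum_congr rfl (g := fun _ => (1 : ℂ)) fun i hi =>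
    cf1E (h.mul_mem_of ((mem_elts (A := J)).1 hi) hx'), Finset.sum_const, nsmul_eq_mul, mul_one]

/-- If one constituent vanishes at an involution, the degree of the other one is prime to `q`. -/
theorem not_dvd (hl : IsIrr P l) (l1 : l ≠ cf1 P) (d : Dec K (lift K e l) v w) (he : Even e)
    {z : G} (z2 : z * z = 1) (hz : v z = 0) {q : ℕ} (hq : q.Prime) (hi : ¬ q ∣ P.index) {a b : ℤ}
    (ha : v 1 = a) (hb : w 1 = b) : ¬ (q : ℤ) ∣ b := fun hd => by
  obtain ⟨j, hj⟩ := h.W_sub hl l1 z2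
  have e1 := W_cfInd z K (cf1 K - lift K e l)
  have e2 := W_dirr z d.hv
  have e3 := W_dirr z d.hw
  have e4 := W_dirr z (isIrr_cf1 (⊤ : Subgroup G)).isDirr
  have e5 : v 1 + w 1 = -1 := by rw [← h.eta_of_pow hl (one_pow e), d.eq, Pi.add_apply]
  have e6 : v z + w z = -1 := by
    obtain ⟨k, hk⟩ := he
    rw [← h.eta_of_pow hl (y := z) (by rw [hk, ← two_mul, pow_mul, sq, z2, one_pow]), d.eq,
      Pi.add_apply]
  rw [hz, zero_add] at e6
  rw [eq_add_of_sub_eq d.eq, W_add, W_add, hj] at e1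
  rw [cf1E (mem_top _), cf1E (mem_top _)] at e4
  rw [hz, ha] at e2
  rw [e6, hb] at e3
  rw [ha, hb] at e5
  have a0 : (a : ℂ) ≠ 0 := ha ▸ d.hv.one_ne_zero
  have e7 : W z v = 0 := (mul_eq_zero.1 (e2.trans (by ring))).resolve_left a0
  have c1 := card_mul_relIndexC h.le
  have c2 : (Nat.card P : ℂ) * P.index = Nat.card G := by exact_mod_cast P.card_mul_index
  have g0 : (Nat.card G : ℂ) ≠ 0 := Nat.cast_ne_zero.2 Nat.card_pos.ne'
  have p0 := cardC_ne_zero P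
  have k0 := cardC_ne_zero K
  have e8 : (b : ℂ) * j ^ 2 = -(a * P.relIndex K * P.index) := by
    rw [e7, zero_add, mul_assoc, eq_inv_mul_iff_mul_eq₀ k0] at e1
    refine mul_left_cancel₀ (mul_ne_zero g0 (pow_ne_zero 2 p0)) ?_
    rw [← c1] at e1
    linear_combination -b * e1 + (Nat.card P * P.relIndex K) * e3 +
      (Nat.card P * P.relIndex K * b) * e4 + (Nat.card P * P.relIndex K * Nat.card G ^ 2) * e5 +
      a * P.relIndex K * Nat.card G * Nat.card P * c2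
  have e9 : b * j ^ 2 = -(a * P.relIndex K * P.index) := by exact_mod_cast e8
  have e10 : a + b = -1 := by exact_mod_cast e5
  have hq' := Nat.prime_iff_prime_int.1 hq
  have h1 : (q : ℤ) ∣ a * P.relIndex K * P.index := (dvd_neg).1 (e9 ▸ hd.mul_right _)
  rcases hq'.dvd_or_dvd h1 with h2 | h2
  · rcases hq'.dvd_or_dvd h2 with h3 | h3
    · exact hq'.not_dvd_one ((dvd_neg).1 (e10 ▸ h3.add hd))
    · exact hi ((Int.natCast_dvd_natCast.1 h3).trans (relIndex_dvd_index_of_le h.le))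
  · exact hi (Int.natCast_dvd_natCast.1 h2)

theorem exists_ne_zero (hl : IsIrr P l) (d : Dec K (lift K e l) v w) :
    ∃ y ∈ K, y ≠ 1 ∧ v y ≠ 0 := by
  by_contra hc
  push Not at hc
  have h1 := d.dot_self
  rw [eta_dot d.irr d.hv.mem_CF, d.dot_one, sub_zero, ← cfdotBr,
    cfdot_eq_zero_of_forall fun y hy => ?_] at h1
  · exact zero_ne_one h1
  by_cases y1 : y = 1
  · exact Or.inr (h.sub_apply_eq_zero hl (by rw [y1, one_pow]))
  · exact Or.inl (hc y hy y1)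

/-- With only the primes `2, q, r`, no involution has a class size prime to `r`. -/
theorem false [IsSimpleGroup G] (hna : ¬ IsMulCommutative G) (he : Even e) {q r : ℕ}
    (hq : q.Prime) (hi : ¬ q ∣ P.index)
    (hπ : ∀ s : ℕ, s.Prime → s ∣ Nat.card G → s = 2 ∨ s = q ∨ s = r) {z t : G} (z1 : z ≠ 1)
    (z2 : z * z = 1) (hz : ¬ 2 ∣ 𝐂[z].index) (t1 : t ≠ 1) (t2 : t * t = 1)
    (ht : ¬ r ∣ 𝐂[t].index) : False := by
  obtain ⟨l, hl, l1⟩ := exists_irr_ne_cf1 h.ne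
  have key : ∀ v w, Dec K (lift K e l) v w → ∀ a b : ℤ, v 1 = a → w 1 = b → 2 ∣ b :=
    fun v w d a b ha hb => by
    by_contra b2
    have e5 : v 1 + w 1 = -1 := by rw [← h.eta_of_pow hl (one_pow e), d.eq, Pi.add_apply]
    rw [ha, hb] at e5
    have e6 : a + b = -1 := by exact_mod_cast e5
    have nd : ∀ s : ℕ, s.Prime → s ∣ a.natAbs → ¬ s ∣ b.natAbs := fun s hs h1 h2 =>
      (Nat.prime_iff_prime_int.1 hs).not_dvd_one ((dvd_neg).1
        (e6 ▸ (Int.natCast_dvd.2 h1).add (Int.natCast_dvd.2 h2)))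
    have b2' : ¬ 2 ∣ b.natAbs := fun e' => b2 (Int.natCast_dvd.2 e')
    have hqb : ¬ q ∣ b.natAbs := fun hqb => by
      by_cases hrb : r ∣ b.natAbs
      · refine h.not_dvd hl l1 d he z2 (dirr_eq_zero hna d.hv d.dot_one ha z1
          (Nat.coprime_of_dvd fun s hs h1 h2 => ?_)) hq hi ha hb (Int.natCast_dvd.2 hqb)
        rcases hπ s hs (h1.trans (dirr_natAbs_dvd d.hv ha)) with rfl | rfl | rfl
        exacts [hz h2, nd s hs h1 hqb, nd s hs h1 hrb]
      · obtain ⟨y, hy, y1, h0⟩ := h.exists_ne_zero hl d.symm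
        refine h0 (dirr_eq_zero hna d.hw d.symm.dot_one hb y1
          (Nat.coprime_of_dvd fun s hs h1 h2 => ?_))
        rcases hπ s hs (h1.trans (dirr_natAbs_dvd d.hw hb)) with rfl | rfl | rfl
        exacts [b2' h1, hi (h2.trans (index_dvd_of_le fun a ha =>
          Cls.mem_centralizer_single.2 (h.comm hy ha).symm)), hrb h1]
    refine b2 (two_dvd_of_eq_zero d.hw.vchar hb t1 t2 (dirr_eq_zero hna d.hw d.symm.dot_one hb t1
      (Nat.coprime_of_dvd fun s hs h1 h2 => ?_)))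
    rcases hπ s hs (h1.trans (dirr_natAbs_dvd d.hw hb)) with rfl | rfl | rfl
    exacts [b2' h1, hqb h1, ht h2]
  obtain ⟨v, w, d⟩ := h.exists_dec hl l1
  obtain ⟨a, ha⟩ := Cint_vchar1 d.hv.vchar
  obtain ⟨b, hb⟩ := Cint_vchar1 d.hw.vchar
  have e5 : v 1 + w 1 = -1 := by rw [← h.eta_of_pow hl (one_pow e), d.eq, Pi.add_apply]
  rw [ha, hb] at e5
  have e6 : a + b = -1 := by exact_mod_cast e5
  have h1 := key v w d a b ha hb
  have h2 := key w v d.symm b a hb ha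
  omega

end Hyp

end Cfsg.Agent.IdxTwo
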