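import Mathlib
import Cfsg.Agent.Lib.Cls.Count

/-!
# Cls/ManyClasses: many classes of `π`-elements force a nilpotent Hall `π`-subgroup
-/

set_option autoImplicit false

namespace Cfsg.Agent.Cls

open Subgroup Coprime

universe u

variable {G : Type*} [Group G]

theorem arith_orbits {p r k f m : ℕ} (hr : p + 1 ≤ r) (hm : p ^ 2 ≤ m)
    (h : r * k + f ≤ r * f + f * m) : p * k ≤ f * m := by
  rcases Nat.eq_zero_or_pos p with rfl | hp
  · simp
  obtain ⟨a, rfl⟩ := Nat.exists_eq_add_of_le hr
  obtain ⟨b, rfl⟩ := Nat.exists_eq_add_of_le hm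
  obtain ⟨q, rfl⟩ : ∃ q, p = q + 1 := ⟨p - 1, by omega⟩
  refine le_of_mul_le_mul_left (a := q + 1 + 1 + a) ?_ (by omega)
  have h1 := Nat.mul_le_mul_left (q + 1) h
  nlinarith [Nat.zero_le (f * a * q * (q + 1)), Nat.zero_le (f * b), Nat.zero_le (f * a * b),
    Nat.zero_le (f * a * q)]

/-- A Sylow subgroup central in its normalizer normalizes a conjugate of a nilpotent Hall
subgroup. -/
theorem exists_nilpHall_le_normalizer_of_burnside [Finite G] {σ : Set ℕ} {r : ℕ} [hr : Fact r.Prime]
    (hrσ : r ∉ σ) (R : Sylow r G)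
    (hR : normalizer ((R : Subgroup G) : Set G) ≤ centralizer ((R : Subgroup G) : Set G))
    {H : Subgroup G} (hH : IsPiHall σ H) (hHn : Group.IsNilpotent H) :
    ∃ H' : Subgroup G, IsPiHall σ H' ∧ Group.IsNilpotent H' ∧
      (R : Subgroup G) ≤ normalizer (H' : Set G) := by
  have h1 := hasNormalPComplement_of_normalizer_le_centralizer R hR
  rw [Transfer.hasNormalPComplement_iff_coprime_pResidual] at h1
  set K := pResidual r G
  have hHr : (Nat.card H).Coprime r :=
    ((Nat.Prime.coprime_iff_not_dvd hr.out).2 fun hd => hrσ (hH.1 r hr.out hd)).symm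
  have hHK : H ≤ K := Transfer.le_pResidual_of_coprime hHr
  have hHK' : IsPiHallOf σ H K := isPiHallOf_of_isPiHall hH hHK
  obtain ⟨g, -, hg⟩ := exists_invariant_conj (A := (R : Subgroup G)) (G := K) le_normalizer_of_normal
    (Core.coprime_card_of_isPGroup R.2 h1) (Or.inl (isSolvable_of_isPGroup R.2)) H fun a _ =>
      nilpHallOf_conj hHK' hHn (isPiHallOf_map_conj hHK' (le_normalizer_of_normal (mem_top a)))
        (Core.isNilpotent_map hHn _)
  exact ⟨_, isPiHall_map_conj hH g, Core.isNilpotent_map hHn _, hg⟩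

/-- A nilpotent Hall `σ`-subgroup normalized but not centralized by an `r`-subgroup, `r` larger
than the primes of `σ`, meets few classes. -/
theorem mul_ncard_piClasses_le_of_normalized [Finite G] {σ : Set ℕ} {p r : ℕ} [hr : Fact r.Prime]
    (hσ : ∀ s ∈ σ, p ≤ s ∧ s < r) (hpr : p < r) {R H : Subgroup G} (hR : IsPGroup r R)
    (hH : IsPiHall σ H) (hHn : Group.IsNilpotent H) (hRH : R ≤ normalizer (H : Set G))
    (hn : ¬ H ≤ centralizer (R : Set G)) : p * (piClasses σ G).ncard ≤ Nat.card H := by
  have h1 := mul_ncard_classes_le' hRH r fun q hq hd => by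
    obtain ⟨k, hk⟩ := hR.exists_card_eq
    exact ((Nat.prime_dvd_prime_iff_eq hq hr.out).1 (hq.dvd_of_dvd_pow (hk ▸ hd))).ge
  have h2 := Core.card_inf_mul_relIndex (centralizer (R : Set G)) H
  rw [inf_comm] at h2
  rw [piClasses_eq_range hH hHn, ← h2]
  rw [← h2] at h1
  refine arith_orbits hpr ?_ h1
  have hHr : ¬ r ∣ Nat.card H := fun hd => lt_irrefl _ (hσ r (hH.1 r hr.out hd)).2
  have h3 := relIndex_centralizer_modEq_one hRH hR hHr
  have h4 : (centralizer (R : Set G)).relIndex H ≠ 1 := fun h => hn (relIndex_eq_one.1 h)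
  have h5 : ∀ q, q.Prime → q ∣ (centralizer (R : Set G)).relIndex H → q ∈ σ :=
    fun q hq hd => hH.1 q hq (hd.trans (relIndex_dvd_card _ _))
  refine sq_le_of_not_prime h4 index_ne_zero_of_finite (fun hq => ?_)
    fun q hq hd => (hσ q (h5 q hq hd)).1
  have h6 := (hσ _ (h5 _ hq dvd_rfl)).2
  exact h4 (Nat.ModEq.eq_of_lt_of_lt h3 h6 hr.out.one_lt)

/-- A nilpotent Hall subgroup central in its normalizer has a conjugate normalizing a given
Sylow subgroup for another prime. -/
theorem exists_nilpHall_le_normalizer_of_central [Finite G] {σ : Finset ℕ} (hσ : ∀ s ∈ σ, s.Prime)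
    {r : ℕ} [hr : Fact r.Prime] (hrσ : r ∉ σ) (R : Sylow r G) {H : Subgroup G}
    (hH : IsPiHall (σ : Set ℕ) H) (hHn : Group.IsNilpotent H)
    (hc : normalizer (H : Set G) ≤ centralizer (H : Set G)) :
    ∃ H' : Subgroup G, IsPiHall (σ : Set ℕ) H' ∧ Group.IsNilpotent H' ∧
      H' ≤ normalizer ((R : Subgroup G) : Set G) := by
  have key : ∀ s ∈ σ, HasNormalPComplement s G := by
    intro s hs
    have : Fact s.Prime := ⟨hσ s hs⟩
    obtain ⟨S, hS⟩ := exists_isSylowIn s H
    have hS2 : IsSylowIn s S ⊤ := hS.trans le_top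
      (by rw [relIndex_top_right]; exact hH.2 s (hσ s hs) hs)
    obtain ⟨S', rfl⟩ := hS2.exists_sylow_top
    refine hasNormalPComplement_of_normalizer_le_centralizer S' fun n hn => ?_
    have hHC : H ≤ centralizer ((S' : Subgroup G) : Set G) :=
      (le_normalizer.trans hc).trans (centralizer_le hS.1)
    have h1 := isPiHallOf_of_isPiHall hH hHC
    obtain ⟨c, hc1, hc2⟩ := nilpHallOf_conj h1 hHn
      (isPiHallOf_map_conj h1 (Core.le_normalizer_centralizer le_rfl hn)) (Core.isNilpotent_map hHn _)
    have h2 : c⁻¹ * n ∈ normalizer (H : Set G) := by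
      rw [← Core.map_conj_eq_iff, ← Core.map_conj_map_conj, hc2, Core.map_conj_inv_map_conj]
    have h3 := mul_mem hc1 (centralizer_le hS.1 (hc h2))
    simpa using h3
  set K : Subgroup G := ⨅ q ∈ σ, pResidual q G with hK
  have hKn : K.Normal := normal_iInf_normal fun q => normal_iInf_normal fun _ => inferInstance
  have hK1 : ∀ s : ℕ, s.Prime → s ∣ Nat.card K → s ∉ (σ : Set ℕ) := by
    intro s hs hd hsσ
    have : Fact s.Prime := ⟨hs⟩
    have h1 := key s hsσ
    rw [Transfer.hasNormalPComplement_iff_not_dvd_pResidual] at h1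
    exact h1 (hd.trans (card_dvd_of_le (biInf_le _ hsσ)))
  have hRK : (R : Subgroup G) ≤ K := by
    refine le_iInf₂ fun q hq => ?_
    exact Transfer.le_pResidual_of_coprime (Core.coprime_card_of_isPGroup R.2
      ((Nat.coprime_primes (hσ q hq) hr.out).2 fun h => hrσ (h ▸ hq)))
  obtain ⟨P, hP, hHP⟩ := exists_invariant_sylow r (A := H) (G := K) le_normalizer_of_normal
    (coprime_of_pi hH.1 hK1) (Or.inl inferInstance)
  obtain ⟨g, -, hg⟩ := hP.exists_conj ((isSylowIn_top R).mono hRK le_top)
  refine ⟨_, isPiHall_map_conj hH g, Core.isNilpotent_map hHn _, ?_⟩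
  rw [hg, Core.normalizer_map_conj]
  exact map_mono hHP

theorem two_mul_ncard_piClasses_le [Finite G] {σ : Set ℕ} {p : ℕ}
    (hσ : ∀ s ∈ σ, p ≤ s) {H : Subgroup G} (hH : IsPiHall σ H) (hHn : Group.IsNilpotent H)
    (hc : ¬ normalizer (H : Set G) ≤ centralizer (H : Set G)) :
    2 * p * (piClasses σ G).ncard ≤ (p + 1) * Nat.card H := by
  have h1 := mul_ncard_classes_le (H := H) (R := normalizer (H : Set G)) le_rfl 2 fun x _ h => by
    have h1 : (centralizer ({x} : Set G)).relIndex (normalizer (H : Set G)) ≠ 1 :=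
      fun h1 => h (relIndex_eq_one.1 h1)
    have h2 : (centralizer ({x} : Set G)).relIndex (normalizer (H : Set G)) ≠ 0 :=
      index_ne_zero_of_finite
    omega
  have h2 := Core.card_inf_mul_relIndex (centralizer (normalizer (H : Set G) : Set G)) H
  rw [inf_comm] at h2
  have h3 : p ≤ (centralizer (normalizer (H : Set G) : Set G)).relIndex H :=
    le_of_one_lt_of_forall_prime (fun h => hc (le_centralizer_iff.1 (relIndex_eq_one.1 h)))
      index_ne_zero_of_finite fun q hq hd => hσ q (hH.1 q hq (hd.trans (relIndex_dvd_card _ _)))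
  rw [piClasses_eq_range hH hHn]
  have h4 := Nat.mul_le_mul_left (Nat.card ↥(H ⊓ centralizer (normalizer (H : Set G) : Set G))) h3
  rw [h2] at h4
  nlinarith

theorem isPiHall_map_subtype_of_card [Finite G] {σ : Set ℕ} {X H0 : Subgroup G} (h0 : IsPiHall σ H0)
    {H : Subgroup X} (hc : Nat.card H = Nat.card H0) : IsPiHall σ (H.map X.subtype) :=
  isPiHallOf_top.1 (isPiHallOf_of_card_eq (isPiHallOf_top.2 h0) le_top
    (by rw [Core.card_map_subtype, hc]))

theorem isPiHall_subgroupOf [Finite G] {σ : Set ℕ} {X H : Subgroup G} (h : IsPiHall σ H)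
    (hX : H ≤ X) : IsPiHall σ (H.subgroupOf X) :=
  (isPiHallOf_iff_subgroupOf.1 (isPiHallOf_of_isPiHall h hX)).2

theorem map_subtype_le_centralizer {X R : Subgroup G} (hR : R ≤ X) {H : Subgroup X}
    (h : H ≤ centralizer (R.subgroupOf X : Set X)) : H.map X.subtype ≤ centralizer (R : Set G) := by
  rintro _ ⟨x, hx, rfl⟩ s hs
  exact congrArg Subtype.val (h hx ⟨s, hR hs⟩ hs)

theorem map_subtype_le_normalizer {X R : Subgroup G} (hR : R ≤ X) {H : Subgroup X}
    (h : H ≤ normalizer (R.subgroupOf X : Set X)) : H.map X.subtype ≤ normalizer (R : Set G) := by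
  rw [← subgroupOf_normalizer_eq hR] at h
  rintro _ ⟨x, hx, rfl⟩
  exact h hx

/-- `∑_{z ∈ R} |C_N(z)| = ∑_{g ∈ N} |C_R(g)|`. -/
theorem sum_card_inf_centralizer_comm (R N : Subgroup G) [Fintype R] [Fintype N] :
    ∑ z : R, Nat.card ↥(N ⊓ centralizer ({(z : G)} : Set G)) =
      ∑ g : N, Nat.card ↥(R ⊓ centralizer ({(g : G)} : Set G)) := by
  classical
  have key : ∀ (A : Subgroup G) [Fintype A] (x : G), Nat.card ↥(A ⊓ centralizer ({x} : Set G)) =
      ∑ a : A, if (a : G) * x = x * a then 1 else 0 := by
    intro A _ x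
    rw [inf_comm, ← Core.card_subgroupOf, ← Finset.card_filter, Nat.card_eq_fintype_card,
      Fintype.card_subtype]
    congr 1
    ext a
    simp [mem_subgroupOf, mem_centralizer_single]
  simp only [key]
  rw [Finset.sum_comm]
  simp only [eq_comm]

/-- Sum of the stabilizer orders over a union of orbits. -/
theorem sum_card_inf_centralizer_conjOrbit [Finite G] {R N : Subgroup G} [Fintype R]
    (hN : N ≤ normalizer (R : Set G)) (y : R) [DecidablePred fun z : R => (z : G) ∈ conjOrbit N y] :
    ∑ z ∈ Finset.univ.filter (fun z : R => (z : G) ∈ conjOrbit N y),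
      Nat.card ↥(N ⊓ centralizer ({(z : G)} : Set G)) = Nat.card N := by
  rw [Finset.sum_congr rfl fun z hz =>
    card_inf_centralizer_of_mem_conjOrbit (Finset.mem_filter.1 hz).2, Finset.sum_const, smul_eq_mul,
    ← ncard_conjOrbit_mul N y]
  congr 1
  rw [← Set.ncard_coe_finset, ← Set.ncard_image_of_injective _ R.subtype_injective]
  congr 1
  ext x
  simp only [Finset.coe_filter, Finset.mem_univ, true_and, Set.mem_image, Set.mem_ofPred_eq,
    coe_subtype]
  constructor
  · rintro ⟨z, hz, rfl⟩; exact hz
  · rintro ⟨n, hn, rfl⟩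
    exact ⟨⟨_, (mem_normalizer_iff.1 (hN hn) y).1 y.2⟩, ⟨n, hn, rfl⟩, rfl⟩

theorem arith_caseI {q r c n R D T : ℕ} (hr : q + 1 < r) (hD : r * D ≤ n * R)
    (hT : r ^ 2 * T ≤ (c + n) * R) (hcn : c ≤ n ∨ T = 0) :
    2 * c * R + 2 * (q + 1) * D + q * T ≤ 2 * (c + n) * R := by
  obtain ⟨a, rfl⟩ := Nat.exists_eq_add_of_lt hr
  rcases hcn with h | rfl
  · refine le_of_mul_le_mul_left (a := (q + 1 + a + 1) ^ 2) ?_ (by positivity)
    have h1 := Nat.mul_le_mul_left (2 * (q + 1) * (q + 1 + a + 1)) hD
    have h2 := Nat.mul_le_mul_left q hT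
    have h3 : q * ((c + n) * R) ≤ q * ((n + n) * R) := by gcongr
    nlinarith [Nat.zero_le (n * R), Nat.zero_le (n * R * a), Nat.zero_le (n * R * a * q),
      Nat.zero_le (n * R * a * a)]
  · nlinarith [Nat.zero_le (a * D), Nat.zero_le D]

/-- The inductive step: `r` is the largest prime, with abelian Sylow subgroup `R`. -/
theorem mul_ncard_piClasses_insert_le [Finite G] {σ : Finset ℕ} (hσp : ∀ s ∈ σ, s.Prime)
    {p r : ℕ} [hr : Fact r.Prime] (hσ : ∀ s ∈ σ, p ≤ s ∧ s < r) (hpr : p < r) (hp : 1 ≤ p)
    (IH : ∀ X : Subgroup G, piPart σ (Nat.card X) < p * (piClasses (σ : Set ℕ) X).ncard →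
      ∃ H : Subgroup X, IsPiHall (σ : Set ℕ) H ∧ Group.IsNilpotent H)
    (R : Sylow r G) (hRc : IsMulCommutative (R : Subgroup G))
    (hno : ∀ H : Subgroup G, IsPiHall (σ : Set ℕ) H → Group.IsNilpotent H →
      ¬ H ≤ centralizer ((R : Subgroup G) : Set G)) :
    p * (piClasses ({r} ∪ (σ : Set ℕ)) G).ncard ≤
      Nat.card (R : Subgroup G) * piPart σ (Nat.card G) := by
  classical
  have hrσ : r ∉ σ := fun h => lt_irrefl _ (hσ r h).2
  set M := piPart σ (Nat.card G) with hM
  set N := normalizer ((R : Subgroup G) : Set G) with hN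
  set C := centralizer ((R : Subgroup G) : Set G) with hC
  have := Fintype.ofFinite (R : Subgroup G)
  have := Fintype.ofFinite N
  have := Fintype.ofFinite (piClasses {r} G)
  have hCN : C ≤ N := centralizer_le_normalizer _
  let w : ↥(R : Subgroup G) → ℕ := fun z =>
    (piClasses (σ : Set ℕ) (centralizer ({(z : G)} : Set G))).ncard
  let e : ↥(R : Subgroup G) → ℕ := fun z => Nat.card ↥(N ⊓ centralizer ({(z : G)} : Set G))
  let special : ↥(R : Subgroup G) → Prop := fun z => ∃ H : Subgroup G, IsPiHall (σ : Set ℕ) H ∧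
    Group.IsNilpotent H ∧ H ≤ centralizer ({(z : G)} : Set G) ∧ H ≤ N
  have hRz : ∀ z : (R : Subgroup G), (R : Subgroup G) ≤ centralizer ({(z : G)} : Set G) :=
    fun z x hx => mem_centralizer_single.2 (Core.mul_comm_of_mem_of_isMulCommutative hRc hx z.2)
  have hdvd : ∀ X : Subgroup G, piPart σ (Nat.card X) ∣ M := fun X =>
    piPart_dvd_piPart σ Nat.card_pos.ne' (card_subgroup_dvd_card X)
  have hw0 : ∀ z, w z ≤ M := fun z => (ncard_piClasses_le σ hσp _).trans
    (Nat.le_of_dvd (piPart_pos hσp _) (hdvd _))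
  have hw1 : ∀ z, p * w z ≤ M ∨ ∃ H : Subgroup G, IsPiHall (σ : Set ℕ) H ∧ Group.IsNilpotent H ∧
      H ≤ centralizer ({(z : G)} : Set G) := by
    intro z
    obtain ⟨a, ha⟩ := hdvd (centralizer ({(z : G)} : Set G))
    by_cases ha1 : a = 1
    · rw [ha1, mul_one] at ha
      refine or_iff_not_imp_left.2 fun h => ?_
      obtain ⟨H, hH, hHn⟩ := IH _ (ha ▸ not_le.1 h)
      refine ⟨H.map (Subgroup.subtype _), isPiHall_of_card_eq_piPart hσp ?_,
        Core.isNilpotent_map hHn _, map_subtype_le _⟩
      rw [Core.card_map_subtype, card_eq_piPart_of_isPiHall hσp hH, ← ha]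
    · left
      have h1 : p ≤ a := le_of_one_lt_of_forall_prime ha1
        (by rintro rfl; exact (piPart_pos hσp _).ne' (hM ▸ ha))
        fun q hq hd => (hσ q (isPiNum_piPart hσp _ q hq (hM ▸ ha ▸ hd.mul_left _))).1
      rw [ha, mul_comm]
      exact Nat.mul_le_mul (ncard_piClasses_le σ hσp _) h1
  have hreg : ∀ z : (R : Subgroup G), N ⊓ centralizer ({(z : G)} : Set G) ≤ C → p * w z ≤ M := by
    intro z hz
    refine (hw1 z).elim id ?_
    rintro ⟨H, hH, hHn, hHz⟩
    set X := centralizer ({(z : G)} : Set G)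
    obtain ⟨H', hH', hH'n, hRH'⟩ := exists_nilpHall_le_normalizer_of_burnside (G := X)
      (σ := (σ : Set ℕ)) hrσ (R.subtype (hRz z)) (by
        intro x hx s hs
        have hx' : (x : G) ∈ N := map_subtype_le_normalizer (hRz z) le_rfl ⟨x, hx, rfl⟩
        exact Subtype.ext (hz ⟨hx', x.2⟩ s hs))
      (isPiHall_subgroupOf hH hHz) (Core.isNilpotent_subgroupOf hHn X)
    have hc : Nat.card H' = Nat.card H := by
      rw [card_eq_of_isPiHall hH' (isPiHall_subgroupOf hH hHz), Core.card_subgroupOf_of_le hHz]
    have := mul_ncard_piClasses_le_of_normalized (σ := (σ : Set ℕ)) hσ hpr (R.subtype (hRz z)).2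
      hH' hH'n hRH' fun h => hno _ (isPiHall_map_subtype_of_card hH hc)
        (Core.isNilpotent_map hH'n _) (map_subtype_le_centralizer (hRz z) h)
    rwa [hc, card_eq_piPart_of_isPiHall hσp hH] at this
  have hnon : ∀ z, 2 * p * w z ≤ (p + 1) * M ∨ special z := by
    intro z
    rcases hw1 z with h | ⟨H, hH, hHn, hHz⟩
    · left; nlinarith
    set X := centralizer ({(z : G)} : Set G)
    by_cases hc : normalizer (H.subgroupOf X : Set X) ≤ centralizer (H.subgroupOf X : Set X)
    · right
      obtain ⟨H', hH', hH'n, hRH'⟩ := exists_nilpHall_le_normalizer_of_central (G := X) hσp hrσ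
        (R.subtype (hRz z)) (isPiHall_subgroupOf hH hHz) (Core.isNilpotent_subgroupOf hHn X) hc
      have hc : Nat.card H' = Nat.card H := by
        rw [card_eq_of_isPiHall hH' (isPiHall_subgroupOf hH hHz), Core.card_subgroupOf_of_le hHz]
      exact ⟨_, isPiHall_map_subtype_of_card hH hc, Core.isNilpotent_map hH'n _,
        map_subtype_le _, map_subtype_le_normalizer (hRz z) hRH'⟩
    · left
      have := two_mul_ncard_piClasses_le (G := X) (fun s hs => (hσ s hs).1)
        (isPiHall_subgroupOf hH hHz) (Core.isNilpotent_subgroupOf hHn X) hc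
      rwa [Core.card_subgroupOf_of_le hHz, card_eq_piPart_of_isPiHall hσp hH] at this
  set c := Nat.card C with hc
  have hCz : ∀ z : (R : Subgroup G), C ≤ N ⊓ centralizer ({(z : G)} : Set G) := fun z =>
    le_inf hCN fun x hx => mem_centralizer_single.2 (hx z z.2).symm
  have he : ∀ z, ∃ d, e z = c + d ∧ ((d = 0 ∧ p * w z ≤ M) ∨ c ≤ d) := by
    intro z
    obtain ⟨a, ha⟩ := card_dvd_of_le (hCz z)
    have ha0 : a ≠ 0 := by rintro rfl; exact Nat.card_pos.ne' ha
    by_cases ha1 : a = 1
    · rw [ha1, mul_one] at ha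
      exact ⟨0, ha, Or.inl ⟨rfl, hreg z (Core.eq_of_le_of_card_eq (hCz z) ha.symm).ge⟩⟩
    · obtain ⟨b, rfl⟩ : ∃ b, a = b + 2 := ⟨a - 2, by omega⟩
      exact ⟨c * (b + 1), by simp only [e]; rw [ha]; ring, Or.inr (by nlinarith)⟩
  choose d hd hd' using he
  obtain ⟨n, hn⟩ : ∃ n, Nat.card N = c + n := Nat.exists_eq_add_of_le (card_le_of_le hCN)
  -- the sum over the classes of `r`-elements
  have h1 : (c + n) * (piClasses ({r} ∪ (σ : Set ℕ)) G).ncard ≤ ∑ z, w z * e z := by
    have hrep : ∀ k : piClasses {r} G, ∃ z : (R : Subgroup G), ConjClasses.mk (z : G) = k :=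
      fun k => piClasses_single_subset R k.2
    choose rep hrep using hrep
    refine (Nat.mul_le_mul_left _ (ncard_piClasses_union_le_sum {r} σ _ hrep)).trans ?_
    have h2 : ∀ z : (R : Subgroup G), ConjClasses.mk (z : G) ∈ piClasses {r} G := fun z => by
      rw [piClasses_single_eq R]; exact ⟨z, rfl⟩
    rw [← Finset.sum_fiberwise Finset.univ (fun z => (⟨_, h2 z⟩ : piClasses {r} G)), Finset.mul_sum]
    refine Finset.sum_le_sum fun k _ => ?_
    rw [← hn, ← sum_card_inf_centralizer_conjOrbit (R := (R : Subgroup G)) (N := N) le_rfl (rep k), Finset.sum_mul]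
    refine (Finset.sum_le_sum fun z hz => ?_).trans (Finset.sum_le_sum_of_subset ?_)
    · rw [mul_comm, ← ncard_piClasses_centralizer_of_isConj
        (isConj_of_mem_conjOrbit (Finset.mem_filter.1 hz).2)]
    · intro z hz
      refine Finset.mem_filter.2 ⟨Finset.mem_univ _, Subtype.ext ?_⟩
      rw [← hrep k]
      exact ConjClasses.mk_eq_mk_iff_isConj.2 (isConj_of_mem_conjOrbit (Finset.mem_filter.1 hz).2).symm
  -- the sum of the stabilizer orders
  have h2 : r * ∑ z, d z ≤ n * Nat.card (R : Subgroup G) := by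
    have h3 : ∑ z, e z = c * Nat.card (R : Subgroup G) + ∑ z, d z := by
      simp only [hd, Finset.sum_add_distrib, Finset.sum_const, Finset.card_univ, smul_eq_mul,
        Nat.card_eq_fintype_card, mul_comm]
    have h4 : ∀ g : N, r * Nat.card ↥((R : Subgroup G) ⊓ centralizer ({(g : G)} : Set G)) +
        (if (g : G) ∈ C then 1 else 0) * Nat.card (R : Subgroup G) ≤
        r * ((if (g : G) ∈ C then 1 else 0) * Nat.card (R : Subgroup G)) +
          Nat.card (R : Subgroup G) := by
      intro g
      split_ifs with hg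
      · simp only [one_mul, add_le_add_iff_right]
        exact Nat.mul_le_mul_left _ (card_le_of_le inf_le_left)
      · simp only [zero_mul, add_zero, mul_zero, zero_add]
        rw [← Core.card_inf_mul_relIndex (centralizer ({(g : G)} : Set G)) R, inf_comm, mul_comm]
        refine Nat.mul_le_mul_left _ (le_of_one_lt_of_forall_prime (fun h => hg fun s hs =>
          mem_centralizer_single.1 (relIndex_eq_one.1 h hs)) index_ne_zero_of_finite
          fun q hq hd => ?_)
        obtain ⟨k, hk⟩ := R.2.exists_card_eq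
        exact ((Nat.prime_dvd_prime_iff_eq hq hr.out).1
          (hq.dvd_of_dvd_pow (hk ▸ hd.trans (relIndex_dvd_card _ _)))).ge
    have h5 := Finset.sum_le_sum fun g (_ : g ∈ Finset.univ) => h4 g
    have h6 : ∑ g : N, (if (g : G) ∈ C then 1 else 0) = c := by
      rw [← Finset.card_filter, hc, ← Core.card_subgroupOf_of_le hCN, Nat.card_eq_fintype_card,
        Fintype.card_subtype]
      rfl
    rw [Finset.sum_add_distrib, Finset.sum_add_distrib, ← Finset.mul_sum, ← Finset.mul_sum,
      ← Finset.sum_mul, h6, ← sum_card_inf_centralizer_comm, Finset.sum_const, Finset.card_univ,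
      ← Nat.card_eq_fintype_card, hn, smul_eq_mul] at h5
    change r * ∑ z, e z + _ ≤ _ at h5
    rw [h3] at h5
    nlinarith
  have hcn : 0 < c + n := hn ▸ Nat.card_pos
  obtain ⟨q, rfl⟩ : ∃ q, p = q + 1 := ⟨p - 1, by omega⟩
  by_cases hbig : 2 * q + 1 ≤ r
  · have h3 : ∀ z, (q + 1) * (w z * e z) ≤ M * (c + (2 * q + 1) * d z) := by
      intro z
      rw [hd]
      rcases hd' z with ⟨h, h'⟩ | h
      · rw [h]; nlinarith
      · have := hw0 z
        calc (q + 1) * (w z * (c + d z)) ≤ (q + 1) * (M * (c + d z)) := by gcongr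
          _ ≤ _ := by nlinarith [Nat.mul_le_mul_left (M * q) h]
    have h4 := Finset.sum_le_sum fun z (_ : z ∈ Finset.univ) => h3 z
    rw [← Finset.mul_sum, ← Finset.mul_sum, Finset.sum_add_distrib, ← Finset.mul_sum,
      Finset.sum_const, Finset.card_univ, ← Nat.card_eq_fintype_card, smul_eq_mul] at h4
    refine le_of_mul_le_mul_left (a := c + n) ?_ hcn
    have h5 := Nat.mul_le_mul_left (q + 1) h1
    have h6 := Nat.mul_le_mul_right (∑ z, d z) hbig
    nlinarith [Nat.mul_le_mul_left M (h6.trans h2)]
  · set T := ∑ z with special z, e z with hT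
    have h3 : ∀ z, 2 * (q + 1) * (w z * e z) ≤
        M * (2 * c + 2 * (q + 1) * d z + q * (if special z then e z else 0)) := by
      intro z
      rcases hd' z with ⟨h, h'⟩ | h
      · rw [hd, h]; nlinarith [Nat.zero_le (M * (q * if special z then c + 0 else 0))]
      · split_ifs with hs
        · have := hw0 z
          rw [hd]
          calc 2 * (q + 1) * (w z * (c + d z)) ≤ 2 * (q + 1) * (M * (c + d z)) := by gcongr
            _ ≤ _ := by nlinarith [Nat.mul_le_mul_left (M * q) h]
        · have := Nat.mul_le_mul_right (e z) ((hnon z).resolve_right hs)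
          rw [hd] at this ⊢
          nlinarith [Nat.mul_le_mul_left (M * q) h]
    have h4 := Finset.sum_le_sum fun z (_ : z ∈ Finset.univ) => h3 z
    rw [← Finset.mul_sum, ← Finset.mul_sum, Finset.sum_add_distrib, Finset.sum_add_distrib,
      ← Finset.mul_sum _ _ (2 * (q + 1)), ← Finset.mul_sum _ _ q, ← Finset.sum_filter, ← hT,
      Finset.sum_const, Finset.card_univ, ← Nat.card_eq_fintype_card, smul_eq_mul] at h4
    have h7 : r ^ 2 * T ≤ (c + n) * Nat.card (R : Subgroup G) ∧ (c ≤ n ∨ T = 0) := by
      by_cases hs : ∃ z, special z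
      · obtain ⟨z0, H0, hH0, hH0n, -, hH0N⟩ := hs
        have hnc := hno H0 hH0 hH0n
        set F := (R : Subgroup G) ⊓ centralizer (H0 : Set G) with hF
        refine ⟨?_, Or.inl ?_⟩
        · -- `T ≤ |N| |F|` and `r² |F| ≤ |R|`
          have h8 : T ≤ (c + n) * Nat.card F := by
            have h9 : ∀ z, special z → ∃ y : (R : Subgroup G), (y : G) ∈ F ∧
                (z : G) ∈ conjOrbit N y := by
              rintro z ⟨H, hH, hHn, hHz, hHN⟩
              obtain ⟨g, hg, rfl⟩ := nilpHallOf_conj (isPiHallOf_of_isPiHall hH0 hH0N) hH0n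
                (isPiHallOf_of_isPiHall hH hHN) hHn
              have hy : g⁻¹ * z * g ∈ (R : Subgroup G) := by
                simpa using (mem_normalizer_iff.1 (inv_mem hg) z).1 z.2
              refine ⟨⟨_, hy⟩, ⟨hy, fun h hh => ?_⟩, g, hg, by simp [mul_assoc]⟩
              have := mem_centralizer_single.1 (hHz (Core.conj_mem_map_conj hh))
              calc h * (g⁻¹ * z * g) = g⁻¹ * (g * h * g⁻¹ * z) * g := by group
                _ = _ := by rw [this]; group
            calc T ≤ ∑ z ∈ (Finset.univ.filter fun y : (R : Subgroup G) => (y : G) ∈ F).biUnion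
                  (fun y => Finset.univ.filter fun z : (R : Subgroup G) =>
                    (z : G) ∈ conjOrbit N y), e z := by
                  refine Finset.sum_le_sum_of_subset fun z hz => ?_
                  obtain ⟨y, hy, hz⟩ := h9 z (Finset.mem_filter.1 hz).2
                  simp only [Finset.mem_biUnion, Finset.mem_filter, Finset.mem_univ, true_and]
                  exact ⟨y, hy, hz⟩
              _ ≤ ∑ y ∈ (Finset.univ.filter fun y : (R : Subgroup G) => (y : G) ∈ F),
                  ∑ z ∈ (Finset.univ.filter fun z : (R : Subgroup G) =>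
                    (z : G) ∈ conjOrbit N y), e z := by
                  induction (Finset.univ.filter fun y : (R : Subgroup G) => (y : G) ∈ F)
                    using Finset.induction_on with
                  | empty => simp
                  | insert a s ha ih =>
                    rw [Finset.biUnion_insert, Finset.sum_insert ha]
                    refine le_trans ?_ (Nat.add_le_add_left ih _)
                    rw [← Finset.sum_union_inter]
                    exact Nat.le_add_right _ _
              _ = _ := by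
                  rw [Finset.sum_congr rfl fun y _ =>
                    sum_card_inf_centralizer_conjOrbit (R := (R : Subgroup G)) (N := N) le_rfl y, Finset.sum_const,
                    smul_eq_mul, hn, mul_comm, ← Core.card_subgroupOf_of_le (inf_le_left : F ≤ R),
                    Nat.card_eq_fintype_card, Fintype.card_subtype]
                  rfl
          have h10 : r ^ 2 * Nat.card F ≤ Nat.card (R : Subgroup G) := by
            have h11 := Core.card_inf_mul_relIndex (centralizer (H0 : Set G)) R
            rw [inf_comm] at h11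
            rw [← h11, mul_comm]
            refine Nat.mul_le_mul_left _ (sq_le_of_not_prime
              (fun h => hnc (le_centralizer_iff.1 (relIndex_eq_one.1 h))) index_ne_zero_of_finite
              (fun hpr' => ?_) fun s hs hd => ?_)
            · obtain ⟨k, hk⟩ := R.2.exists_card_eq
              have h12 : (centralizer (H0 : Set G)).relIndex R = r :=
                (Nat.prime_dvd_prime_iff_eq hpr' hr.out).1
                  (hpr'.dvd_of_dvd_pow (hk ▸ relIndex_dvd_card _ _))
              -- some Sylow subgroup of `H0` does not centralize `R`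
              have : ∃ (s : ℕ) (_ : Fact s.Prime) (S : Subgroup G), S ≤ H0 ∧ IsPGroup s S ∧
                  ¬ S ≤ C := by
                by_contra h13
                push Not at h13
                exact hnc (Core.le_of_forall_isPGroup_le h13)
              obtain ⟨s, hs, S, hS, hSp, hSC⟩ := this
              have hsσ : s ∈ σ := by
                obtain ⟨j, hj⟩ := hSp.exists_card_eq
                refine hH0.1 s hs.out ((dvd_pow_self s fun h0 => hSC ?_).trans
                  (hj ▸ card_dvd_of_le hS))
                rw [h0, pow_zero, card_eq_one] at hj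
                exact hj ▸ bot_le
              have h14 := relIndex_centralizer_modEq_one (hS.trans hH0N) hSp (fun hd => by
                rw [hk] at hd
                exact hrσ ((Nat.prime_dvd_prime_iff_eq hs.out hr.out).1
                  (hs.out.dvd_of_dvd_pow hd) ▸ hsσ))
              have h15 : (centralizer (S : Set G)).relIndex R ∣ r :=
                (relIndex_dvd_of_le_left _ (centralizer_le hS)).trans h12.dvd
              have h16 := ((Nat.dvd_prime hr.out).1 h15).resolve_left
                fun h => hSC (le_centralizer_iff.1 (relIndex_eq_one.1 h))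
              rw [h16] at h14
              obtain ⟨t, ht⟩ := (Nat.modEq_iff_dvd' hr.out.one_le).1 h14.symm
              have h17 := hσ s hsσ
              have h18 := hs.out.two_le
              have h19 : t ≠ 1 := by
                rintro rfl
                have h20 : r = s + 1 := by omega
                rcases hs.out.eq_two_or_odd' with h | h
                · omega
                · have := hr.out.eq_two_or_odd'.resolve_left (by omega)
                  rw [h20] at this
                  exact (Nat.not_even_iff_odd.2 this) h.add_one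
              have h21 : t ≠ 0 := by rintro rfl; omega
              have h22 : s * 2 ≤ s * t := Nat.mul_le_mul_left _ (by omega)
              omega
            · obtain ⟨k, hk⟩ := R.2.exists_card_eq
              exact ((Nat.prime_dvd_prime_iff_eq hs hr.out).1
                (hs.dvd_of_dvd_pow (hk ▸ hd.trans (relIndex_dvd_card _ _)))).ge
          nlinarith [Nat.mul_le_mul_left (r ^ 2) h8, Nat.mul_le_mul_left (c + n) h10]
        · obtain ⟨a, ha⟩ := card_dvd_of_le hCN
          have ha1 : a ≠ 1 := by
            rintro rfl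
            rw [mul_one] at ha
            exact hnc (hH0N.trans (Core.eq_of_le_of_card_eq hCN ha.symm).ge)
          have ha0 : a ≠ 0 := by rintro rfl; exact Nat.card_pos.ne' ha
          have : c * 2 ≤ c * a := Nat.mul_le_mul_left _ (by omega)
          rw [hn, ← hc] at ha
          omega
      · have : T = 0 := Finset.sum_eq_zero fun z hz => absurd ⟨z, (Finset.mem_filter.1 hz).2⟩ hs
        rw [this]; simp
    have h8 := arith_caseI hpr h2 h7.1 h7.2
    refine le_of_mul_le_mul_left (a := 2 * (c + n)) ?_ (by omega)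
    have h5 := Nat.mul_le_mul_left (2 * (q + 1)) h1
    nlinarith [Nat.mul_le_mul_left M h8]

/-- If `p k_π(G) > |G|_π` where all primes of `π` are at least `p`, then `G` has a nilpotent
Hall `π`-subgroup. -/
theorem exists_nilpHall_of_many_classes {p : ℕ} (π : Finset ℕ) :
    (∀ s ∈ π, s.Prime ∧ p ≤ s) → ∀ (G : Type u) [Group G] [Finite G],
      piPart π (Nat.card G) < p * (piClasses (π : Set ℕ) G).ncard →
      ∃ H : Subgroup G, IsPiHall (π : Set ℕ) H ∧ Group.IsNilpotent H := by
  classical
  induction π using Finset.induction_on_max with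
  | empty =>
    intro _ G _ _ _
    exact ⟨⊥, ⟨fun q hq hd => absurd (card_bot (G := G) ▸ hd) hq.not_dvd_one,
      fun q _ h => by simp at h⟩, inferInstance⟩
  | insert r σ hlt ih =>
    intro hπ G _ _ hk
    have hr : Fact r.Prime := ⟨(hπ r (Finset.mem_insert_self _ _)).1⟩
    have hσp : ∀ s ∈ σ, s.Prime ∧ p ≤ s := fun s hs => hπ s (Finset.mem_insert_of_mem hs)
    have hrσ : r ∉ σ := fun h => lt_irrefl _ (hlt r h)
    obtain ⟨R⟩ : Nonempty (Sylow r G) := inferInstance
    rcases σ.eq_empty_or_nonempty with rfl | ⟨s, hs⟩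
    · exact ⟨R, by simpa using isPiHall_singleton_sylow R, R.2.isNilpotent⟩
    have hpr : p < r := (hσp s hs).2.trans_lt (hlt s hs)
    have hp : 1 ≤ p := by rcases Nat.eq_zero_or_pos p with rfl | h; simp at hk; exact h
    rw [piPart_insert hrσ, ← R.card_eq_multiplicity, Finset.coe_insert, Set.insert_eq] at hk
    have hRc : IsMulCommutative (R : Subgroup G) := by
      by_contra hRc
      have h1 := ncard_piClasses_union_le {r} σ (piPart σ (Nat.card G)) fun H : Subgroup G =>
        (ncard_piClasses_le σ (fun s hs => (hσp s hs).1) H).trans (Nat.le_of_dvd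
          (piPart_pos (fun s hs => (hσp s hs).1) _)
          (piPart_dvd_piPart σ Nat.card_pos.ne' (card_subgroup_dvd_card H)))
      have hRr : ∀ q, q.Prime → q ∣ Nat.card (R : Subgroup G) → r ≤ q := fun q hq hd => by
        obtain ⟨k, hk⟩ := R.2.exists_card_eq
        exact ((Nat.prime_dvd_prime_iff_eq hq hr.out).1 (hq.dvd_of_dvd_pow (hk ▸ hd))).ge
      have h2 := mul_ncard_classes_le' (H := (R : Subgroup G)) (R := (R : Subgroup G))
        le_normalizer r hRr
      have h3 := Core.card_inf_mul_relIndex (centralizer ((R : Subgroup G) : Set G)) R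
      rw [inf_comm] at h3
      rw [← piClasses_single_eq R, ← h3] at h2
      have h4 := arith_orbits hpr (sq_le_of_not_prime
        (fun h => hRc (isMulCommutative_of_le_centralizer (relIndex_eq_one.1 h)))
        index_ne_zero_of_finite not_prime_relIndex_centralizer
        fun q hq hd => hpr.le.trans (hRr q hq (hd.trans (relIndex_dvd_card _ _)))) h2
      rw [h3] at h4
      nlinarith [Nat.mul_le_mul_left p h1, Nat.mul_le_mul_right (piPart σ (Nat.card G)) h4]
    by_contra hno
    refine absurd hk (not_lt.2 (mul_ncard_piClasses_insert_le (fun s hs => (hσp s hs).1)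
      (fun s hs => ⟨(hσp s hs).2, hlt s hs⟩) hpr hp (fun X => ih hσp X) R hRc
      fun H hH hHn hHC => hno ⟨H ⊔ R, ⟨?_, ?_⟩, ?_⟩))
    · intro q hq hd
      rcases hq.dvd_mul.1 (hd.trans (Core.card_sup_dvd_of_le_normalizer
        (hHC.trans (centralizer_le_normalizer _)))) with h | h
      · exact Finset.mem_insert_of_mem (hH.1 q hq h)
      · obtain ⟨k, hk⟩ := R.2.exists_card_eq
        rw [(Nat.prime_dvd_prime_iff_eq hq hr.out).1 (hq.dvd_of_dvd_pow (hk ▸ h))]
        exact Finset.mem_insert_self _ _
    · intro q hq hqπ hd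
      rcases Finset.mem_insert.1 hqπ with rfl | h
      · exact not_dvd_index_of_sylow_le le_sup_right hd
      · exact hH.2 q hq h (hd.trans (index_dvd_of_le le_sup_left))
    · exact Core.isNilpotent_sup_of_le_normalizer (hHC.trans (centralizer_le_normalizer _))
        ((le_centralizer_iff.1 hHC).trans (centralizer_le_normalizer _)) hHn R.2.isNilpotent

end Cfsg.Agent.Cls
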