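import Mathlib
import Cfsg.Agent.Lib.Cls.IdxTwo
import Cfsg.Agent.Lib.Cls.AbTwo
import Cfsg.Agent.Lib.Cls.TwoSizes
import Cfsg.Agent.Lib.Cls.TwoCentral
import Cfsg.Agent.Lib.Cls.Ito
import Cfsg.Agent.Lib.BSW.SL2Sub
import Cfsg.Agent.Lib.OO.Final

/-!
# Cls/SigTwo: simple groups whose class sizes have at most two prime divisors
-/

set_option autoImplicit false
set_option linter.unusedSectionVars false

namespace Cfsg.Agent.SigTwo

open Cfsg Subgroup Cfsg.Agent.AbTwo

local notation "𝐂[" x "]" => Subgroup.centralizer ({x} : Set _)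

universe u

variable {G : Type u} [Group G] [Finite G]

/-- every class size has at most two prime divisors -/
def Sig (G : Type*) [Group G] : Prop := ∀ x : G, 𝐂[x].index.primeFactors.card ≤ 2

theorem card_primeFactors_le {a b : ℕ} (h : a ∣ b) (hb : b ≠ 0) :
    a.primeFactors.card ≤ b.primeFactors.card :=
  Finset.card_le_card (Nat.primeFactors_mono h hb)

theorem Sig.normal (h : Sig G) (N : Subgroup G) [N.Normal] : Sig N := fun x =>
  (card_primeFactors_le (Cls.index_centralizer_normal_dvd x) index_ne_zero_of_finite).trans (h x)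

theorem Sig.of_surjective {G' : Type*} [Group G'] (h : Sig G) {f : G →* G'}
    (hf : Function.Surjective f) : Sig G' := fun y => by
  obtain ⟨x, rfl⟩ := hf y
  exact (card_primeFactors_le (Cls.index_centralizer_map_dvd hf x) index_ne_zero_of_finite).trans
    (h x)

theorem not_three {n a b c : ℕ} (h : n.primeFactors.card ≤ 2) (hn : n ≠ 0) (ha : a.Prime)
    (hb : b.Prime) (hc : c.Prime) (ab : a ≠ b) (ac : a ≠ c) (bc : b ≠ c) (h1 : a ∣ n) (h2 : b ∣ n)
    (h3 : c ∣ n) : False := by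
  have h4 : ({a, b, c} : Finset ℕ) ⊆ n.primeFactors := by
    simp [Finset.insert_subset_iff, Nat.mem_primeFactors, *]
  have h5 := Finset.card_le_card h4
  rw [Finset.card_eq_three.2 ⟨a, b, c, ab, ac, bc, rfl⟩] at h5
  omega

/-- the number of elements whose class size is prime to `s` -/
noncomputable def cnt (G : Type*) [Group G] (s : ℕ) : ℕ := {x : G | ¬ s ∣ 𝐂[x].index}.ncard

theorem Sig.count (h : Sig G) (T : Finset ℕ) (hT : ∀ s ∈ T, s.Prime) :
    T.card * Nat.card G ≤ ∑ s ∈ T, cnt G s + 2 * Nat.card G := by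
  classical
  have := Fintype.ofFinite G
  have e1 : ∀ s, cnt G s = ∑ x : G, if ¬ s ∣ 𝐂[x].index then 1 else 0 := fun s => by
    rw [Finset.sum_boole, cnt, ← Set.ncard_coe_finset]
    simp
  rw [Finset.sum_congr rfl fun s _ => e1 s, Finset.sum_comm, Nat.card_eq_fintype_card, mul_comm,
    mul_comm 2, ← smul_eq_mul, ← smul_eq_mul, ← Finset.card_univ, ← Finset.sum_const,
    ← Finset.sum_const, ← Finset.sum_add_distrib]
  refine Finset.sum_le_sum fun x _ => ?_
  rw [Finset.sum_boole, ← Finset.card_filter_add_card_filter_not (s := T) fun s => ¬ s ∣ 𝐂[x].index]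
  refine Nat.add_le_add le_rfl (le_trans (Finset.card_le_card fun s hs => ?_) (h x))
  rw [Finset.mem_filter, not_not] at hs
  exact Nat.mem_primeFactors.2 ⟨hT s hs.1, hs.2, index_ne_zero_of_finite⟩

section aut

variable {p : ℕ} [hp : Fact p.Prime] (P : Sylow p G)

/-- the order of the automizer -/
noncomputable def aut : ℕ :=
  (centralizer ((P : Subgroup G) : Set G)).relIndex (normalizer ((P : Subgroup G) : Set G))

theorem aut_mul_le : aut P * cnt G p ≤ Nat.card G := by
  have h2 := Core.card_mul_relIndex_of_le (centralizer_le_normalizer ((P : Subgroup G) : Set G))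
  have h6 := Cls.ncard_not_dvd_index_le P
  rw [← (normalizer ((P : Subgroup G) : Set G)).index_mul_card, ← h2, ← mul_assoc, mul_comm]
  exact Nat.mul_le_mul_right _ h6

theorem index_center_dvd_aut : (center (P : Subgroup G)).index ∣ aut P := by
  have := Core.normal_subgroupOf_of_le_normalizer
    (Core.le_normalizer_centralizer (A := normalizer ((P : Subgroup G) : Set G)) le_rfl)
  have h1 := relIndex_dvd_index_of_normal ((centralizer ((P : Subgroup G) : Set G)).subgroupOf
    (normalizer ((P : Subgroup G) : Set G))) ((P : Subgroup G).subgroupOf _)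
  rw [relIndex_subgroupOf le_normalizer] at h1
  refine dvd_trans (dvd_of_eq ?_) h1
  rw [relIndex]
  congr 1
  ext x
  rw [mem_subgroupOf, mem_center_iff, mem_centralizer_iff]
  exact ⟨fun h g hg => congrArg Subtype.val (h ⟨g, hg⟩), fun h g => Subtype.ext (h g g.2)⟩

theorem sq_dvd_index_center {H : Type*} [Group H] [Finite H] (hH : IsPGroup p H)
    (h : ¬ IsMulCommutative H) : p ^ 2 ∣ (center H).index := by
  obtain ⟨k, hk⟩ := hH.index (center H)
  rw [hk]
  refine pow_dvd_pow p (not_lt.1 fun h1 => h ?_)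
  have : IsCyclic (H ⧸ center H) := isCyclic_of_card_dvd_prime (p := p) (by
    rw [← index_eq_card, hk]
    exact (pow_dvd_pow p (by omega : k ≤ 1)).trans (pow_one p).dvd)
  exact isMulCommutative_of_isCyclic_quotient_center_self H

theorem not_dvd_aut (h : IsMulCommutative (P : Subgroup G)) : ¬ p ∣ aut P := fun hd =>
  P.not_dvd_index ((hd.trans (relIndex_dvd_index_of_le (centralizer_le_normalizer _))).trans
    (index_dvd_of_le (le_centralizer _)))

end aut

/-- a nonabelian simple group whose class sizes have at most two prime divisors -/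
structure SS (G : Type*) [Group G] : Prop where
  simple : IsSimpleGroup G
  na : ¬ IsMulCommutative G
  sig : Sig G

namespace SS

variable (h : SS G)
include h

theorem not_solvable : ¬ Group.IsSolvable G := fun hs =>
  have := h.simple
  h.na ⟨⟨IsSimpleGroup.comm_iff_isSolvable.2 hs⟩⟩

theorem two_dvd : 2 ∣ Nat.card G := by_contra fun e =>
  h.not_solvable (OO.Feit_Thompson (Nat.not_even_iff_odd.1 fun e' => e e'.two_dvd))

theorem two_le_aut {p : ℕ} [hp : Fact p.Prime] (hd : p ∣ Nat.card G) (P : Sylow p G) :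
    2 ≤ aut P := by
  have := h.simple
  have h4 : aut P ≠ 1 := fun h5 => by
    obtain ⟨Q, N, hN, hc⟩ := Transfer.burnside_of_normalizer_le_centralizer P (relIndex_eq_one.1 h5)
    rcases hN.eq_bot_or_eq_top with rfl | rfl
    · have := (Q.2.of_equiv ((MulEquiv.subgroupCongr (isComplement'_bot_left.1 hc)).trans
        topEquiv)).isNilpotent
      exact h.not_solvable inferInstance
    · exact Q.ne_bot_of_dvd_card hd (isComplement'_top_left.1 hc)
  have h5 : aut P ≠ 0 := index_ne_zero_of_finite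
  omega

theorem three_le_aut (S : Sylow 2 G) : 3 ≤ aut S := by
  have h1 := h.two_le_aut h.two_dvd S
  by_cases hS : IsMulCommutative (S : Subgroup G)
  · have := not_dvd_aut S hS
    omega
  · exact le_trans (by norm_num) (Nat.le_of_dvd (by omega)
      ((sq_dvd_index_center S.2 hS).trans (index_center_dvd_aut S)))

theorem two_mul_cnt {p : ℕ} (hp : p.Prime) (hd : p ∣ Nat.card G) :
    2 * cnt G p ≤ Nat.card G := by
  have : Fact p.Prime := ⟨hp⟩
  obtain ⟨P⟩ : Nonempty (Sylow p G) := inferInstance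
  exact (Nat.mul_le_mul_right _ (h.two_le_aut hd P)).trans (aut_mul_le P)

theorem three_mul_cnt : 3 * cnt G 2 ≤ Nat.card G := by
  obtain ⟨P⟩ : Nonempty (Sylow 2 G) := inferInstance
  exact (Nat.mul_le_mul_right _ (h.three_le_aut P)).trans (aut_mul_le P)

theorem card_primeFactors : (Nat.card G).primeFactors.card = 3 := by
  refine le_antisymm (not_lt.1 fun h4 => ?_)
    (not_le.1 fun h2 => h.not_solvable (Char.solvable_of_card_primeFactors_le_two h2))
  have h2 : 2 ∈ (Nat.card G).primeFactors :=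
    Nat.mem_primeFactors.2 ⟨Nat.prime_two, h.two_dvd, Nat.card_pos.ne'⟩
  obtain ⟨T, hT, hc⟩ := Finset.exists_subset_card_eq (s := (Nat.card G).primeFactors.erase 2) (n := 3)
    (by rw [Finset.card_erase_of_mem h2]; omega)
  have h3 : 2 ∉ T := fun e => by simpa using hT e
  have h5 := h.sig.count (insert 2 T) fun s hs => by
    rcases Finset.mem_insert.1 hs with rfl | hs
    exacts [Nat.prime_two, Nat.prime_of_mem_primeFactors (Finset.mem_of_mem_erase (hT hs))]
  have h6 : ∑ s ∈ T, 2 * cnt G s ≤ ∑ s ∈ T, Nat.card G := Finset.sum_le_sum fun s hs =>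
    have := Nat.mem_primeFactors.1 (Finset.mem_of_mem_erase (hT hs))
    h.two_mul_cnt this.1 this.2.1
  rw [Finset.card_insert_of_notMem h3, Finset.sum_insert h3, hc] at h5
  rw [← Finset.mul_sum, Finset.sum_const, hc, smul_eq_mul] at h6
  have h7 := h.three_mul_cnt
  have := Nat.card_pos (α := G)
  omega

theorem ex (x : G) : ∃ s : ℕ, s.Prime ∧ s ∣ Nat.card G ∧ ¬ s ∣ 𝐂[x].index := by
  by_contra hc
  push Not at hc
  have := Finset.card_le_card (s := (Nat.card G).primeFactors) (t := 𝐂[x].index.primeFactors)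
    fun s hs => have := Nat.mem_primeFactors.1 hs
      Nat.mem_primeFactors.2 ⟨this.1, hc s this.1 this.2.1, index_ne_zero_of_finite⟩
  have h1 := h.sig x
  rw [h.card_primeFactors] at this
  omega

/-- the third prime -/
theorem third {a b : ℕ} (ha : a.Prime) (hb : b.Prime) (ab : a ≠ b) (h1 : a ∣ Nat.card G)
    (h2 : b ∣ Nat.card G) : ∃ c : ℕ, c.Prime ∧ c ∣ Nat.card G ∧ a ≠ c ∧ b ≠ c ∧
      ∀ s : ℕ, s.Prime → s ∣ Nat.card G → s = a ∨ s = b ∨ s = c := by
  have h3 : a ∈ (Nat.card G).primeFactors := Nat.mem_primeFactors.2 ⟨ha, h1, Nat.card_pos.ne'⟩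
  have h4 : b ∈ (Nat.card G).primeFactors.erase a :=
    Finset.mem_erase.2 ⟨ab.symm, Nat.mem_primeFactors.2 ⟨hb, h2, Nat.card_pos.ne'⟩⟩
  obtain ⟨c, hc⟩ := Finset.card_eq_one.1 (show (((Nat.card G).primeFactors.erase a).erase b).card = 1
    by rw [Finset.card_erase_of_mem h4, Finset.card_erase_of_mem h3, h.card_primeFactors])
  have h5 := hc ▸ Finset.mem_singleton_self c
  simp only [Finset.mem_erase, Nat.mem_primeFactors] at h5
  refine ⟨c, h5.2.2.1, h5.2.2.2.1, h5.2.1.symm, h5.1.symm, fun s hs hd => ?_⟩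
  by_contra h6
  push Not at h6
  exact h6.2.2 (Finset.mem_singleton.1 (hc ▸ Finset.mem_erase.2 ⟨h6.2.1, Finset.mem_erase.2
    ⟨h6.1, Nat.mem_primeFactors.2 ⟨hs, hd, Nat.card_pos.ne'⟩⟩⟩))

theorem exists_odd : ∃ q : ℕ, q.Prime ∧ q ∣ Nat.card G ∧ 2 ≠ q := by
  obtain ⟨q, hq, h1⟩ := Finset.exists_mem_ne (s := (Nat.card G).primeFactors)
    (by rw [h.card_primeFactors]; norm_num) 2
  exact ⟨q, Nat.prime_of_mem_primeFactors hq, Nat.dvd_of_mem_primeFactors hq, h1.symm⟩

theorem uniq {a b : ℕ} (ha : a.Prime) (hb : b.Prime) (h1 : a ∣ Nat.card G) (h2 : b ∣ Nat.card G)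
    {x : G} (x1 : x ≠ 1) (h3 : ¬ a ∣ 𝐂[x].index) (h4 : ¬ b ∣ 𝐂[x].index) : a = b := by
  by_contra ab
  obtain ⟨c, hc, -, -, -, h5⟩ := h.third ha hb ab h1 h2
  have := h.simple
  obtain ⟨k, hk⟩ := Cls.eq_pow_of_forall_prime_eq (p := c) (n := 𝐂[x].index)
    index_ne_zero_of_finite fun s hs hd => by
      rcases h5 s hs (hd.trans (index_dvd_card _)) with rfl | rfl | rfl
      exacts [(h3 hd).elim, (h4 hd).elim, rfl]
  exact x1 (Char.eq_one_of_prime_pow_index h.na hc hk)

theorem same {a : ℕ} (ha : a.Prime) (h1 : a ∣ Nat.card G) {x y : G} (x1 : x ≠ 1)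
    (hc : Commute x y) (ho : (orderOf x).Coprime (orderOf y)) (h3 : ¬ a ∣ 𝐂[x].index) :
    ¬ a ∣ 𝐂[x * y].index := by
  obtain ⟨s, hs, h4, h5⟩ := h.ex (x * y)
  rwa [h.uniq ha hs h1 h4 x1 h3 fun e => h5 (e.trans (index_dvd_of_le
    ((Cls.centralizer_single_mul hc ho).le.trans inf_le_left)))]

/-- the counting inequality -/
theorem le_sum {q r : ℕ} (hq : q.Prime) (hr : r.Prime) (h1 : 2 ≠ q) (h2 : 2 ≠ r) (h3 : q ≠ r) :
    Nat.card G ≤ cnt G 2 + cnt G q + cnt G r := by
  have := h.sig.count {2, q, r} (by simp [Nat.prime_two, hq, hr])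
  rw [Finset.card_eq_three.2 ⟨2, q, r, h1, h2, h3, rfl⟩, Finset.sum_insert (by simp [h1, h2]),
    Finset.sum_pair h3] at this
  omega

theorem abP_odd {q : ℕ} [hq : Fact q.Prime] (h2 : 2 ≠ q) : AbP q G := by
  obtain ⟨P⟩ : Nonempty (Sylow q G) := inferInstance
  refine abP_of_sylow P (by_contra fun hP => ?_)
  have h1 := (sq_dvd_index_center P.2 hP).trans (index_center_dvd_aut P)
  have hd : q ∣ Nat.card G := (((dvd_pow_self q two_ne_zero).trans h1).trans
    (relIndex_dvd_index_of_le (centralizer_le_normalizer _))).trans (index_dvd_card _)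
  obtain ⟨r, hr, h3, h4, h5, -⟩ := h.third Nat.prime_two hq.out h2 h.two_dvd hd
  have h6 := h.le_sum hq.out hr h2 h4 h5
  have h7 := h.three_mul_cnt
  have h8 := h.two_mul_cnt hr h3
  have h9 : 9 ≤ aut P := le_trans (Nat.pow_le_pow_left (n := 3) (by have := hq.out.two_le; omega) 2)
    (Nat.le_of_dvd (by have := h.two_le_aut hd P; omega) h1)
  have h10 := (Nat.mul_le_mul_right _ h9).trans (aut_mul_le P)
  have := Nat.card_pos (α := G)
  omega

end SS

theorem exists_orderOf {p : ℕ} [hp : Fact p.Prime] {P : Subgroup G} (hP : IsPGroup p P) {x : G}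
    (hx : x ∈ P) : ∃ k, orderOf x = p ^ k := by
  simpa using (IsPGroup.iff_orderOf.1 hP ⟨x, hx⟩)

theorem dvd_card_of_orderOf {p : ℕ} {x : G} (x1 : x ≠ 1) (hx : ∃ k, orderOf x = p ^ k) :
    p ∣ Nat.card G := by
  obtain ⟨k, hk⟩ := hx
  refine (dvd_pow_self p (n := k) fun e => x1 ?_).trans (hk ▸ orderOf_dvd_natCard x)
  rwa [e, pow_zero, orderOf_eq_one_iff] at hk

theorem AbP.not_dvd_index {p : ℕ} [hp : Fact p.Prime] (hA : AbP p G) {x : G}
    (hx : ∃ k, orderOf x = p ^ k) : ¬ p ∣ 𝐂[x].index := by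
  obtain ⟨k, hk⟩ := hx
  obtain ⟨P, hP⟩ := (IsPGroup.of_card (G := zpowers x) (by rw [Nat.card_zpowers, hk])).exists_le_sylow
  exact Cls.not_dvd_index_of_sylow_le (Q := P) fun a ha =>
    Cls.mem_centralizer_single.2 (hA.comm P.2 ha (hP (mem_zpowers x)))

namespace SS

variable (h : SS G)
include h

/-- For an abelian Sylow subgroup, `C(x) = C(P)` on `P#`. -/
theorem cent_eq {p : ℕ} [hp : Fact p.Prime] (hA : AbP p G) (P : Sylow p G) {x : G}
    (hx : x ∈ (P : Subgroup G)) (x1 : x ≠ 1) : 𝐂[x] = centralizer ((P : Subgroup G) : Set G) := by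
  refine le_antisymm ?_ (centralizer_le (Set.singleton_subset_iff.2 hx))
  have ox := exists_orderOf P.2 hx
  have hd := dvd_card_of_orderOf x1 ox
  have hPC : (P : Subgroup G) ≤ 𝐂[x] := fun a ha =>
    Cls.mem_centralizer_single.2 (hA.comm P.2 ha hx)
  refine subgroupOf_eq_top.1 (Char.eq_top_of_forall_exists_conj_mem _ fun y => ?_)
  obtain ⟨u, hu, t, ht, e, ou, ot⟩ := Cls.exists_p_part hp.out (y : G)
  have hu' : u ∈ 𝐂[x] := zpowers_le.2 y.2 hu
  have ht' : t ∈ 𝐂[x] := zpowers_le.2 y.2 ht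
  have h1 : ¬ p ∣ 𝐂[t].index := fun e' => by
    obtain ⟨k, hk⟩ := ox
    have c1 : Commute x t := (Cls.mem_centralizer_single.1 ht').symm
    have c2 : (orderOf x).Coprime (orderOf t) := hk ▸ ot.symm.pow_left k
    exact h.same hp.out hd x1 c1 c2 (AbP.not_dvd_index hA ⟨k, hk⟩) (e'.trans (index_dvd_of_le
      ((Cls.centralizer_single_mul c1 c2).le.trans inf_le_right)))
  have h2 : IsPGroup p (zpowers x ⊔ zpowers u : Subgroup G) := by
    obtain ⟨k, hk⟩ := ox
    obtain ⟨m, hm⟩ := ou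
    exact PGrp.isPGroup_sup_of_le_normalizer (IsPGroup.of_card (by rw [Nat.card_zpowers, hk]))
      (IsPGroup.of_card (by rw [Nat.card_zpowers, hm])) (le_trans (by
        rw [Cls.centralizer_zpowers, zpowers_le, Cls.mem_centralizer_single]
        exact (Cls.mem_centralizer_single.1 hu').symm) (centralizer_le_normalizer _))
  have h3 : (zpowers x ⊔ zpowers u : Subgroup G) ≤ 𝐂[t] := sup_le
    (zpowers_le.2 (Cls.mem_centralizer_single.2 (Cls.mem_centralizer_single.1 ht').symm))
    (zpowers_le.2 (Cls.mem_centralizer_single.2 (Cls.commute_of_mem_zpowers hu ht)))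
  obtain ⟨Y, h4, hY⟩ := Transfer.exists_isSylowIn_ge h2 h3
  have h5 : Y ≤ 𝐂[x] := fun a ha => Cls.mem_centralizer_single.2
    (hA.comm hY.isPGroup ha (h4 (mem_sup_left (mem_zpowers x))))
  have h6 : ¬ p ∣ Y.index := by
    rw [← relIndex_mul_index hY.le]
    exact fun e' => (hp.out.dvd_mul.1 e').elim hY.not_dvd h1
  obtain ⟨n, hn, h7⟩ := (Transfer.isSylowIn_of_sylow_le P hPC).exists_conj_eq
    ⟨h5, hY.isPGroup, fun e' => h6 (e'.trans (relIndex_dvd_index_of_le h5))⟩
  refine ⟨⟨n, hn⟩, mem_centralizer_iff.2 fun a ha => ?_⟩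
  have h8 : n * a * n⁻¹ ∈ Y := h7 ▸ smul_mem_pointwise_smul a (MulAut.conj n) _ ha
  have h9 := hA.comm hY.isPGroup h8 (h4 (mem_sup_right (mem_zpowers u)))
  have h10 := Cls.mem_centralizer_single.1 (hY.le h8)
  change a * (n⁻¹ * y * n) = n⁻¹ * y * n * a
  calc a * (n⁻¹ * y * n) = n⁻¹ * (n * a * n⁻¹ * u * t) * n := by rw [e]; group
    _ = n⁻¹ * y * n * a := by rw [h9, mul_assoc u, h10, e]; group

theorem isPGroup_cent {z : G} (z1 : z ≠ 1) (ho : ∃ k, orderOf z = 2 ^ k)
    (hz : ¬ 2 ∣ 𝐂[z].index) : IsPGroup 2 𝐂[z] := by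
  refine Core.isPGroup_iff_forall_prime_dvd.2 fun s hs hd => by_contra fun s2 => ?_
  have : Fact s.Prime := ⟨hs⟩
  obtain ⟨y, hy, oy⟩ := Core.exists_mem_orderOf_eq_of_dvd_card hd
  obtain ⟨k, hk⟩ := ho
  have c1 : Commute z y := (Cls.mem_centralizer_single.1 hy).symm
  have c2 : (orderOf z).Coprime (orderOf y) := by
    rw [hk, oy]
    exact ((Nat.coprime_primes Nat.prime_two hs).2 (Ne.symm s2)).pow_left k
  refine s2 (h.uniq hs Nat.prime_two (hd.trans (card_subgroup_dvd_card _)) h.two_dvd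
    (x := y) (fun e => hs.one_lt.ne (by rw [← oy, e, orderOf_one]))
    (AbP.not_dvd_index (h.abP_odd (Ne.symm s2)) ⟨1, by rw [oy, pow_one]⟩) fun e => ?_)
  exact h.same Nat.prime_two h.two_dvd z1 c1 c2 hz (e.trans (index_dvd_of_le
    ((Cls.centralizer_single_mul c1 c2).le.trans inf_le_right)))

theorem cent_eq_sylow (S : Sylow 2 G) {z : G} (z1 : z ≠ 1) (hz : z ∈ (S : Subgroup G))
    (hS : (S : Subgroup G) ≤ 𝐂[z]) : 𝐂[z] = S :=
  S.3 (h.isPGroup_cent z1 (exists_orderOf S.2 hz) (Cls.not_dvd_index_of_sylow_le hS)) hS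

theorem eight_le_aut (S : Sylow 2 G) (hS : ¬ IsMulCommutative (S : Subgroup G)) : 8 ≤ aut S := by
  have h1 := sq_dvd_index_center S.2 hS
  have h2 := index_center_dvd_aut S
  have h3 := h.two_le_aut h.two_dvd S
  by_contra h4
  have h5 : aut S = 4 := by have := h1.trans h2; omega
  have h6 : (center (S : Subgroup G)).index = 2 ^ 2 := Nat.dvd_antisymm (h2.trans h5.dvd) h1
  have h7 := (not_isCyclic_iff_exponent_eq_prime Nat.prime_two ((index_eq_card _).symm.trans h6)).1
    fun _ => hS (isMulCommutative_of_isCyclic_quotient_center_self _)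
  have h8 : ∀ u : (S : Subgroup G), u ∉ center (S : Subgroup G) → u * u = 1 := fun u hu => by
    by_contra u1
    have h9 : u * u ∈ center (S : Subgroup G) := by
      rw [← QuotientGroup.eq_one_iff, QuotientGroup.mk_mul, ← sq]
      exact Monoid.exponent_dvd_iff_forall_pow_eq_one.1 h7.dvd _
    have h10 := h.cent_eq_sylow S (z := u * u) (fun e => u1 (Subtype.ext e)) (u * u).2 fun a ha =>
      Cls.mem_centralizer_single.2 (congrArg Subtype.val (mem_center_iff.1 h9 ⟨a, ha⟩))
    have h11 : 𝐂[(u : G)] ≤ S :=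
      le_trans (by rw [← sq]; exact Cls.centralizer_single_le_pow _ _) h10.le
    have u1' : (u : G) * u ≠ 1 := fun e => u1 (Subtype.ext e)
    obtain ⟨s, hs, h12, h13⟩ := h.ex (u : G)
    have h14 : s = 2 := h.uniq hs Nat.prime_two h12 h.two_dvd u1'
      (fun e => h13 (e.trans (by rw [← sq]; exact Cls.index_centralizer_pow_dvd _ _)))
      (by rw [h10]; exact S.not_dvd_index)
    subst h14
    obtain ⟨Q, hQ⟩ := Cls.exists_sylow_le_of_not_dvd_index h13
    have h15 : (S : Subgroup G) = Q := Q.3 S.2 (hQ.trans h11)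
    exact hu (mem_center_iff.2 fun a => Subtype.ext
      (Cls.mem_centralizer_single.1 (hQ (h15 ▸ a.2))))
  obtain ⟨u, hu⟩ : ∃ u : (S : Subgroup G), u ∉ center (S : Subgroup G) := by
    by_contra hc
    push Not at hc
    exact hS ⟨⟨fun a b => mem_center_iff.1 (hc b) a⟩⟩
  refine hS (BSW.comm_of_mul_self fun w hw => ?_)
  refine congrArg Subtype.val (show (⟨w, hw⟩ : (S : Subgroup G)) * ⟨w, hw⟩ = 1 from ?_)
  generalize (⟨w, hw⟩ : (S : Subgroup G)) = z
  by_cases hz : z ∈ center (S : Subgroup G)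
  · have := h8 (u * z) fun e => hu ((mul_mem_cancel_right hz).1 e)
    rwa [mul_assoc, ← mul_assoc z, ← mem_center_iff.1 hz u, mul_assoc u, ← mul_assoc, h8 u hu,
      one_mul] at this
  · exact h8 z hz

theorem exists_hyp {q : ℕ} [hq : Fact q.Prime] (h2 : 2 ≠ q) (hd : q ∣ Nat.card G) (P : Sylow q G)
    (ha : aut P = 2) : ∃ e n, Even e ∧
      IdxTwo.Hyp (centralizer ((P : Subgroup G) : Set G)) P e n := by
  have hA := h.abP_odd h2
  set K := centralizer ((P : Subgroup G) : Set G) with hK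
  have hPK : (P : Subgroup G) ≤ K := fun a ha => mem_centralizer_iff.2 fun b hb => hA.comm P.2 hb ha
  obtain ⟨n, hn, hnK⟩ := SetLike.not_le_iff_exists.1 fun e => absurd
    (ha.symm.trans (relIndex_eq_one.2 e)) (by norm_num)
  have two : ∀ a ∈ normalizer ((P : Subgroup G) : Set G), ∀ b ∈ normalizer ((P : Subgroup G) : Set G),
      a ∉ K → b ∉ K → a * b ∈ K := fun a h1 b h2 h3 h4 =>
    (mul_mem_iff_of_index_two ha (a := ⟨a, h1⟩) (b := ⟨b, h2⟩)).2 (iff_of_false h3 h4)
  have pw : ∀ y ∈ K, y ^ (P : Subgroup G).index ∈ (P : Subgroup G) := fun y hy =>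
    Cls.mem_sylow_of_mem_centralizer P (by
      obtain ⟨k, hk⟩ := IsPGroup.iff_card.1 P.2
      obtain ⟨j, -, hj⟩ := (Nat.dvd_prime_pow hq.out).1 (orderOf_dvd_of_pow_eq_one
        (x := y ^ (P : Subgroup G).index) (n := q ^ k) (by
          rw [← pow_mul, ← hk, index_mul_card, pow_card_eq_one']))
      exact ⟨j, hj⟩) (pow_mem hy _)
  have hi : (center K).index ∣ (P : Subgroup G).index :=
    (index_dvd_of_le (H := (P : Subgroup G).subgroupOf K) fun a ha => mem_center_iff.2 fun b =>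
      Subtype.ext (mem_centralizer_iff.1 b.2 a ha).symm).trans (relIndex_dvd_index_of_le hPK)
  have hodd : Nat.Coprime 2 (Nat.card P) := by
    obtain ⟨k, hk⟩ := IsPGroup.iff_card.1 P.2
    exact hk ▸ ((Nat.coprime_primes Nat.prime_two hq.out).2 h2).pow_right k
  refine ⟨(center K).index * (P : Subgroup G).index, n, Even.mul_left (even_iff_two_dvd.2
    (hodd.dvd_of_dvd_mul_left (by rw [card_mul_index]; exact h.two_dvd))) _, hPK, fun g =>
    ⟨fun hg a ha => (mem_centralizer_iff.1 hg a ha).symm, fun hg =>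
      mem_centralizer_iff.2 fun a ha => (hg a ha).symm⟩, fun y hy => ?_, fun x hx y hy => ?_,
    hodd.mul_left ((P.card_coprime_index.symm.coprime_dvd_left hi).mul_left
      P.card_coprime_index.symm), P.ne_bot_of_dvd_card hd, fun a ha => ?_, fun a ha a1 x hx => ?_⟩
  · rw [mul_comm, pow_mul]; exact pow_mem (pw y hy) _
  · have := congrArg (fun z : center K => ((z : K) : G))
      ((MonoidHom.transferCenterPow K).map_mul ⟨x, hx⟩ ⟨y, hy⟩)
    simp only [coe_mul, MonoidHom.transferCenterPow_apply, coe_pow] at this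
    have c : Commute (x ^ (center K).index) (y ^ (center K).index) := by
      have := congrArg Subtype.val (mem_center_iff.1 (MonoidHom.transferCenterPow K ⟨y, hy⟩).2
        (⟨x, hx⟩ ^ (center K).index))
      simp only [coe_mul, MonoidHom.transferCenterPow_apply, coe_pow] at this
      exact this
    rw [pow_mul, pow_mul, pow_mul, this, c.mul_pow]
  · have h3 : n * a * n⁻¹ ∈ (P : Subgroup G) := (mem_normalizer_iff.1 hn a).1 ha
    have h4 := mem_centralizer_iff.1 (two n hn n hn hnK hnK) a ha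
    by_contra h5
    refine hnK (h.cent_eq hA P (mul_mem h3 ha) (fun e => h5 (mul_eq_one_iff_eq_inv.1 e)) ▸
      Cls.mem_centralizer_single.2 ?_)
    calc n * (n * a * n⁻¹ * a) = n * n * a * n⁻¹ * n⁻¹ * (n * a * n⁻¹) * n := by group
      _ = a * (n * a * n⁻¹) * n := by rw [← h4]; group
      _ = _ := by rw [hA.comm P.2 ha h3]
  · have h3 : x ∈ normalizer ((P : Subgroup G) : Set G) := by
      refine mem_normalizer_fintype fun b hb => Cls.mem_sylow_of_mem_centralizer P ?_ ?_
      · obtain ⟨k, hk⟩ := exists_orderOf P.2 hb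
        exact ⟨k, hk ▸ (MulAut.conj x).orderOf_eq b⟩
      · rw [← h.cent_eq hA P hx (BSW.conj_ne_one a1), Cls.mem_centralizer_single, conj_mul,
          conj_mul, hA.comm P.2 hb ha]
    by_cases h4 : x ∈ K
    · exact Or.inl h4
    · exact Or.inr (two _ (inv_mem hn) x h3 (fun e => hnK (inv_mem_iff.1 e)) h4)

theorem abP_two : AbP 2 G := by
  have := h.simple
  obtain ⟨S⟩ : Nonempty (Sylow 2 G) := inferInstance
  refine abP_of_sylow S (by_contra fun hS => hS
    (Cls.isMulCommutative_sylow_two_of_forall_central S fun x ox => ?_))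
  by_cases x1 : x = 1
  · exact ⟨S, by simp [x1]⟩
  obtain ⟨r, hr, h1, h2⟩ := h.ex x
  by_cases r2 : 2 = r
  · exact Cls.exists_sylow_le_of_not_dvd_index (r2 ▸ h2)
  exfalso
  obtain ⟨q, hq, h3, h4, h5, h6⟩ := h.third Nat.prime_two hr r2 h.two_dvd h1
  have : Fact q.Prime := ⟨hq⟩
  obtain ⟨P⟩ : Nonempty (Sylow q G) := inferInstance
  have h7 : aut P = 2 := by
    have a1 := h.two_le_aut h3 P
    by_contra a2
    have a3 := (Nat.mul_le_mul_right _ (show 3 ≤ aut P by omega)).trans (aut_mul_le P)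
    have a4 := (Nat.mul_le_mul_right _ (h.eight_le_aut S hS)).trans (aut_mul_le S)
    have a5 := h.two_mul_cnt hr h1
    have a6 := h.le_sum hq hr h4 r2 h5.symm
    have := Nat.card_pos (α := G)
    omega
  obtain ⟨e, n, he, hH⟩ := h.exists_hyp h4 h3 P h7
  obtain ⟨z, -, z1, zo, hz⟩ := TwoSizes.exists_mem_center S.2 (S.ne_bot_of_dvd_card h.two_dvd)
  obtain ⟨k, hk⟩ := ox
  obtain ⟨j, t1, t2⟩ := exists_inv_pow (g := x) fun e => by
    rw [hk] at e
    exact x1 (orderOf_eq_one_iff.1 (hk.trans (by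
      rcases k with _ | k
      · rfl
      · exact absurd e (by simp [pow_succ]))))
  exact hH.false h.na he hq P.not_dvd_index (r := r) (fun s hs hd => by
      rcases h6 s hs hd with e | e | e <;> simp [e]) z1 (by rw [← sq, ← zo, pow_orderOf_eq_one])
    (Cls.not_dvd_index_of_sylow_le hz) t1 t2 fun e => h2
      (e.trans (Cls.index_centralizer_pow_dvd x j))

end SS

end Cfsg.Agent.SigTwo
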