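import Mathlib
import Cfsg.Agent.Lib.Cls.SigTwo

/-!
# Cls/SigTwo2: groups whose class sizes have at most two prime divisors (Casolo)
-/

set_option autoImplicit false
set_option linter.unusedSectionVars false

namespace Cfsg.Agent.SigTwo

open Cfsg Subgroup Cfsg.Agent.AbTwo
open scoped Pointwise

local notation "𝐂[" x "]" => Subgroup.centralizer ({x} : Set _)

universe u

theorem three_pow_mod (j : ℕ) : 3 ^ j % 8 = 1 ∨ 3 ^ j % 8 = 3 := by
  induction j with
  | zero => simp
  | succ j ih => rw [pow_succ]; omega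

theorem le_two_of_pow {m j : ℕ} (h : 2 ^ m = 3 ^ j + 1) : m ≤ 2 := by
  by_contra h1
  obtain ⟨k, rfl⟩ : ∃ k, m = k + 3 := ⟨m - 3, by omega⟩
  have := three_pow_mod j
  rw [pow_add] at h
  omega

theorem eq_three_of_pow {m j : ℕ} (hm : 2 ≤ m) (h : 1 + 2 ^ m = 3 ^ j) : m = 3 := by
  obtain ⟨k, rfl⟩ : ∃ k, m = k + 2 := ⟨m - 2, by omega⟩
  obtain ⟨i, rfl | rfl⟩ := Nat.even_or_odd' j
  · have h1 : 3 ^ i + 1 ∣ 2 ^ (k + 2) := ⟨3 ^ i - 1, by
      have := Nat.one_le_pow i 3 (by norm_num)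
      rw [mul_comm 2 i, pow_mul] at h
      zify [this] at h ⊢
      linear_combination h⟩
    obtain ⟨s, -, hs⟩ := (Nat.dvd_prime_pow Nat.prime_two).1 h1
    have h2 := le_two_of_pow hs.symm
    have h3 : 3 ^ i ≤ 3 := by
      have := Nat.pow_le_pow_right (n := 2) (by norm_num) h2
      omega
    have h4 : i ≤ 1 := (Nat.pow_le_pow_iff_right (by norm_num : 1 < 3)).1 (h3.trans (pow_one 3).ge)
    have h5 := Nat.one_le_pow (k + 2) 2 (by norm_num)
    interval_cases i
    · omega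
    · exact Nat.pow_right_injective (le_refl 2) (show 2 ^ (k + 2) = 2 ^ 3 by omega)
  · have h1 : (3 ^ 2) ^ i % 4 = 1 := by simp [Nat.pow_mod]
    rw [pow_succ 3, pow_mul, pow_add] at h
    omega

theorem two_or_three {m c : ℕ} (hm : 2 ≤ m)
    (h : ∀ s : ℕ, s.Prime → s ∣ (2 ^ m - 1) * 2 ^ m * (1 + 2 ^ m) → s = 2 ∨ s = 3 ∨ s = c) :
    m = 2 ∨ m = 3 := by
  have h4 : 4 ≤ 2 ^ m := Nat.pow_le_pow_right (n := 2) (by norm_num) hm
  have h2 : 2 ∣ 2 ^ m := dvd_pow_self 2 (by omega)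
  have cop : ∀ s : ℕ, s.Prime → s ∣ 2 ^ m - 1 → ¬ s ∣ 1 + 2 ^ m := fun s hs h1 h3 => by
    have h5 : s ∣ 2 := by
      have := Nat.dvd_sub h3 h1
      rwa [show 1 + 2 ^ m - (2 ^ m - 1) = 2 by omega] at this
    obtain rfl := (Nat.prime_dvd_prime_iff_eq hs Nat.prime_two).1 h5
    omega
  have ha : ∀ s : ℕ, s.Prime → s ∣ 2 ^ m - 1 → s = 3 ∨ s = c := fun s hs h1 =>
    (h s hs ((h1.mul_right _).mul_right _)).resolve_left (by rintro rfl; omega)
  have hb : ∀ s : ℕ, s.Prime → s ∣ 1 + 2 ^ m → s = 3 ∨ s = c := fun s hs h1 =>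
    (h s hs (h1.mul_left _)).resolve_left (by rintro rfl; omega)
  obtain ⟨a, a1, a2⟩ := Nat.exists_prime_and_dvd (show 2 ^ m - 1 ≠ 1 by omega)
  obtain ⟨b, b1, b2⟩ := Nat.exists_prime_and_dvd (show 1 + 2 ^ m ≠ 1 by omega)
  rcases hb b b1 b2 with rfl | rfl
  · obtain rfl : a = c := (ha a a1 a2).resolve_left fun e => cop a a1 a2 (e ▸ b2)
    obtain ⟨j, hj⟩ := Cls.eq_pow_of_forall_prime_eq (p := 3) (n := 1 + 2 ^ m) (by omega)
      fun s hs hd => (hb s hs hd).resolve_right fun e => cop a a1 a2 (e ▸ hd)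
    exact Or.inr (eq_three_of_pow hm hj)
  · obtain ⟨j, hj⟩ := Cls.eq_pow_of_forall_prime_eq (p := 3) (n := 2 ^ m - 1) (by omega)
      fun s hs hd => (ha s hs hd).resolve_right fun e => cop s hs hd (e ▸ b2)
    have := le_two_of_pow (m := m) (j := j) (by omega)
    omega

variable {G : Type u} [Group G] [Finite G]

/-- the fixed points of an automorphism -/
def Fix (α : MulAut G) : Subgroup G := α.toMonoidHom.eqLocus (MonoidHom.id G)

theorem mem_Fix {α : MulAut G} {x : G} : x ∈ Fix α ↔ α x = x := Iff.rfl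

theorem Fix_le {α β : MulAut G} (h : β ∈ zpowers α) : Fix α ≤ Fix β := fun x hx =>
  (zpowers_le (H := MulAction.stabilizer (MulAut G) x)).2 hx h

theorem Fix_conj (a : G) : Fix (MulAut.conj a) = 𝐂[a] := by
  ext x
  rw [mem_Fix, MulAut.conj_apply, mul_inv_eq_iff_eq_mul, Cls.mem_centralizer_single, eq_comm]

theorem mul_conj (α : MulAut G) (a : G) : α * MulAut.conj a = MulAut.conj (α a) * α := by
  ext x; simp

namespace SS

variable (h : SS G) (S : Sylow 2 G)
include h

theorem cc {w : G} (hw : w ∈ (S : Subgroup G)) (w1 : w ≠ 1) : 𝐂[w] = S :=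
  h.cent_eq_sylow S w1 hw fun _ ha => Cls.mem_centralizer_single.2 (h.abP_two.comm S.2 ha hw)

theorem exists_inv : ∃ z ∈ (S : Subgroup G), z ≠ 1 ∧ z * z = 1 := by
  obtain ⟨z, hz, z1, zo, -⟩ := TwoSizes.exists_mem_center S.2 (S.ne_bot_of_dvd_card h.two_dvd)
  exact ⟨z, hz, z1, by rw [← sq, ← zo, pow_orderOf_eq_one]⟩

theorem hypI : BSW.HypI (S : Subgroup G) :=
  ⟨fun z hz z1 _ g => by rw [← h.cc S hz z1, Cls.mem_centralizer_single], h.exists_inv S⟩

theorem eq_bot_of_normal {N : Subgroup G} (hN : N.Normal) (hc : IsMulCommutative N) : N = ⊥ :=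
  have := h.simple
  hN.eq_bot_or_eq_top.resolve_right fun e => h.na ⟨⟨fun a b =>
    Core.mul_comm_of_mem_of_isMulCommutative hc (e ▸ mem_top a) (e ▸ mem_top b)⟩⟩

theorem norm_ne_top : normalizer ((S : Subgroup G) : Set G) ≠ ⊤ := fun e =>
  S.ne_bot_of_dvd_card h.two_dvd (h.eq_bot_of_normal (normalizer_eq_top_iff.1 e) (h.abP_two _ S.2))

theorem data : ∃ m : ℕ, 2 ≤ m ∧ Nat.card S = 2 ^ m ∧ Nat.card (Sylow 2 G) = 1 + 2 ^ m ∧
    Nat.card G = (2 ^ m - 1) * 2 ^ m * (1 + 2 ^ m) ∧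
    Nonempty (G ≃* Matrix.ProjectiveSpecialLinearGroup (Fin 2) (GaloisField 2 m)) := by
  obtain ⟨z, hz, z1, z2⟩ := h.exists_inv S
  rcases BSW.dichotomy (h.abP_two _ S.2) (fun x hx x1 g hg => h.cc S hx x1 ▸
    Cls.mem_centralizer_single.2 hg) hz z1 z2 with ⟨N, h1, h2, h3⟩ | ⟨m, hm, h1, h2, h3, h4⟩
  · exact (h2 (h.eq_bot_of_normal h1 h3)).elim
  refine ⟨m, hm, h1, ?_, h3, h4⟩
  have h5 := Core.card_mul_relIndex_of_le (le_normalizer (H := (S : Subgroup G)))
  have h6 := (normalizer ((S : Subgroup G) : Set G)).card_mul_index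
  rw [← h5, h1, h2, h3, mul_comm (2 ^ m)] at h6
  rw [S.card_eq_index_normalizer]
  exact Nat.eq_of_mul_eq_mul_left (Nat.mul_pos (by
    have : 4 ≤ 2 ^ m := Nat.pow_le_pow_right (n := 2) (by norm_num) hm
    omega) (by positivity)) h6

theorem mul_self {w : G} (hw : w ∈ (S : Subgroup G)) : w * w = 1 := by
  obtain ⟨m, -, -, -, -, ⟨e⟩⟩ := h.data S
  obtain ⟨z, hz, z1, z2⟩ := h.exists_inv S
  exact (BSW.ca2_SL2.of_injective (e.trans BSW.pslEquiv).toMonoidHom
    (e.trans BSW.pslEquiv).injective).el z w z1 z2 (h.abP_two.comm S.2 hw hz)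

theorem eq_one_of_smul {g : G} (hg : ∀ P : Sylow 2 G, g • P = P) : g = 1 := by
  have := h.simple
  obtain ⟨S⟩ : Nonempty (Sylow 2 G) := inferInstance
  rcases (inferInstance : (MulAction.toPermHom G (Sylow 2 G)).ker.Normal).eq_bot_or_eq_top
    with e | e
  · exact mem_bot.1 (e ▸ (MonoidHom.mem_ker.2 (Equiv.ext hg)))
  · refine (h.norm_ne_top S (eq_top_iff.2 fun x _ => Sylow.smul_eq_iff_mem_normalizer.1 ?_)).elim
    exact congrArg (fun s : Equiv.Perm (Sylow 2 G) => s S)
      (MonoidHom.mem_ker.1 (e ▸ mem_top x : x ∈ (MulAction.toPermHom G (Sylow 2 G)).ker))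

omit S in
theorem iso : Nonempty (G ≃* alternatingGroup (Fin 5)) ∨
    Nonempty (G ≃* Matrix.ProjectiveSpecialLinearGroup (Fin 2) (GaloisField 2 3)) := by
  obtain ⟨S⟩ : Nonempty (Sylow 2 G) := inferInstance
  obtain ⟨m, hm, -, h2, h3, h4⟩ := h.data S
  have h5 : 3 ∣ Nat.card G := by
    have : 4 ≤ 2 ^ m := Nat.pow_le_pow_right (n := 2) (by norm_num) hm
    rw [h3]
    rcases (by omega : 3 ∣ 2 ^ m - 1 ∨ 3 ∣ 2 ^ m ∨ 3 ∣ 1 + 2 ^ m) with e | e | e
    exacts [(e.mul_right _).mul_right _, (e.mul_left _).mul_right _, e.mul_left _]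
  obtain ⟨c, -, -, -, -, hc⟩ := h.third Nat.prime_two Nat.prime_three (by norm_num) h.two_dvd h5
  rcases two_or_three hm (h3 ▸ hc) with rfl | rfl
  · left
    let e : Sylow 2 G ≃ Fin 5 := Finite.equivFinOfCardEq h2
    let f := e.permCongrHom.toMonoidHom.comp (MulAction.toPermHom G (Sylow 2 G))
    have hf : Function.Injective f := e.permCongrHom.injective.comp
      ((injective_iff_map_eq_one _).2 fun g hg => h.eq_one_of_smul fun P =>
        congrArg (fun s : Equiv.Perm (Sylow 2 G) => s P) hg)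
    have h6 : f.range.index = 2 := by
      have h4 := f.range.index_mul_card
      rw [← Nat.card_congr (MonoidHom.ofInjective hf).toEquiv, h3, Nat.card_perm] at h4
      simp [Nat.factorial] at h4
      omega
    exact ⟨(MonoidHom.ofInjective hf).trans
      (MulEquiv.subgroupCongr (Equiv.Perm.eq_alternatingGroup_of_index_eq_two h6))⟩
  · exact Or.inr h4

/-- An automorphism centralizing a Sylow `2`-subgroup is inner. -/
theorem inner {α : MulAut G} (hα : (S : Subgroup G) ≤ Fix α) : α ∈ (MulAut.conj (G := G)).range := by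
  classical
  obtain ⟨m, hm, h1, h2, -⟩ := h.data S
  have := Fintype.ofFinite (Sylow 2 G)
  have := Fintype.ofFinite (S : Subgroup G)
  have : Nontrivial (Sylow 2 G) := Finite.one_lt_card_iff_nontrivial.1 (by
    have := Nat.one_le_pow m 2 (by norm_num); omega)
  obtain ⟨T, hT⟩ := exists_ne S
  have fixS : ∀ a : (S : Subgroup G), (a : G) • S = S := fun a =>
    Sylow.smul_eq_iff_mem_normalizer.2 (le_normalizer a.2)
  have key : ∀ P : Sylow 2 G, P ≠ S → ∃ a : (S : Subgroup G), (a : G) • T = P := fun P hP => by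
    have h3 := Finset.surj_on_of_inj_on_of_card_le (s := (Finset.univ : Finset (S : Subgroup G)))
      (t := Finset.univ.erase S) (fun a _ => (a : G) • T)
      (fun a _ => Finset.mem_erase.2 ⟨fun e => hT (smul_left_cancel (a : G) (e.trans (fixS a).symm)),
        Finset.mem_univ _⟩) (fun a b _ _ e => ?_) (by
        rw [Finset.card_erase_of_mem (Finset.mem_univ _), Finset.card_univ, Finset.card_univ,
          ← Nat.card_eq_fintype_card, ← Nat.card_eq_fintype_card, h2]
        exact (show 1 + 2 ^ m - 1 = 2 ^ m by omega).le.trans h1.ge)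
      P (Finset.mem_erase.2 ⟨hP, Finset.mem_univ _⟩)
    · obtain ⟨a, -, e⟩ := h3
      exact ⟨a, e.symm⟩
    by_contra ab
    have h4 : ((b⁻¹ * a : (S : Subgroup G)) : G) ∈ (T : Subgroup G) :=
      Cls.mem_sylow_of_mem_normalizer T (exists_orderOf S.2 (b⁻¹ * a).2)
        (Sylow.smul_eq_iff_mem_normalizer.1 (by
          rw [coe_mul, mul_smul, e, coe_inv, inv_smul_smul]))
    have h5 : ((b⁻¹ * a : (S : Subgroup G)) : G) ≠ 1 := fun e =>
      ab (inv_mul_eq_one.1 (Subtype.ext e)).symm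
    exact hT (Sylow.ext ((h.cc T h4 h5).symm.trans (h.cc S (b⁻¹ * a).2 h5)))
  have cm : ∀ (β : MulAut G) (g : G) (P : Sylow 2 G), β • g • P = β g • β • P := fun β g P => by
    rw [Sylow.smul_def, Sylow.smul_def, ← mul_smul, ← mul_smul, mul_conj]
  have fS : ∀ β : MulAut G, (S : Subgroup G) ≤ Fix β → β • S = S := fun β hβ =>
    Sylow.ext (S.3 (β • S).2 fun x hx => by
      have := smul_mem_pointwise_smul x β _ hx
      rwa [MulAut.smul_def, mem_Fix.1 (hβ hx)] at this)
  obtain ⟨a, ha⟩ := key (α • T) fun e => hT (smul_left_cancel α (e.trans (fS α hα).symm))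
  set β := (MulAut.conj (a : G))⁻¹ * α with hβ
  have h3 : (S : Subgroup G) ≤ Fix β := fun x hx => by
    rw [mem_Fix, hβ, MulAut.mul_apply, mem_Fix.1 (hα hx), MulAut.conj_inv_apply, mul_assoc,
      h.abP_two.comm S.2 hx a.2, inv_mul_cancel_left]
  have h4 : ∀ P : Sylow 2 G, β • P = P := fun P => by
    by_cases hP : P = S
    · rw [hP, fS β h3]
    obtain ⟨b, rfl⟩ := key P hP
    rw [cm, mem_Fix.1 (h3 b.2), hβ, mul_smul, ← ha, Sylow.smul_def (g := (a : G)), inv_smul_smul]
  refine ⟨a, ?_⟩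
  rw [← inv_mul_eq_one, ← hβ]
  ext g
  refine (inv_mul_eq_one.1 (h.eq_one_of_smul fun P => ?_)).symm
  have := cm β g P
  rw [h4, h4] at this
  rw [mul_smul, ← this]
  exact inv_smul_smul g P

omit S in
/-- A group of automorphisms containing the inner ones, all of whose fixed point subgroups have
index with at most two prime divisors, is inner. -/
theorem no_outer {A : Subgroup (MulAut G)} (hI : (MulAut.conj (G := G)).range ≤ A)
    (hA : ∀ α ∈ A, (Fix α).index.primeFactors.card ≤ 2) : A ≤ (MulAut.conj (G := G)).range := by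
  obtain ⟨S⟩ : Nonempty (Sylow 2 G) := inferInstance
  obtain ⟨w, hw, w1, w2⟩ := h.exists_inv S
  have hc : ∀ a : G, MulAut.conj a ∈ (MulAut.conj (G := G)).range := fun a => ⟨a, rfl⟩
  obtain ⟨q, hq, q1, q2⟩ := h.exists_odd
  obtain ⟨r, hr, r1, r2, r3, -⟩ := h.third Nat.prime_two hq q2 h.two_dvd q1
  have di : ∀ s : ℕ, s.Prime → s ∣ Nat.card G → 2 ≠ s → s ∣ (S : Subgroup G).index :=
    fun s hs h1 h2 => by
      obtain ⟨k, hk⟩ := IsPGroup.iff_card.1 S.2
      rw [← (S : Subgroup G).card_mul_index, hk] at h1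
      exact (((Nat.coprime_primes hs Nat.prime_two).2 h2.symm).pow_right k).dvd_of_dvd_mul_left h1
  have K : ∀ γ ∈ A, Fix γ ≤ S → γ ∈ (MulAut.conj (G := G)).range := fun γ hγ h1 => by
    obtain ⟨Q, hQ⟩ := Cls.exists_sylow_le_of_not_dvd_index (p := 2) (H := Fix γ) fun e =>
      not_three (hA γ hγ) index_ne_zero_of_finite Nat.prime_two hq hr q2 r2 r3 e
        ((di q hq q1 q2).trans (index_dvd_of_le h1)) ((di r hr r1 r2).trans (index_dvd_of_le h1))
    exact h.inner Q hQ
  have odd : ∀ v ∈ A, v w = w → (orderOf v).Coprime 2 → v ∈ (MulAut.conj (G := G)).range :=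
    fun v hv h1 h2 => by
      have c : Commute v (MulAut.conj w) := by rw [Commute, SemiconjBy, mul_conj, h1]
      refine (mul_mem_cancel_right (hc w)).1 (K _ (mul_mem hv (hI (hc w))) ?_)
      rw [← h.cc S hw w1, ← Fix_conj]
      refine Fix_le (Cls.mem_zpowers_mul_right c (h2.coprime_dvd_right ?_))
      exact orderOf_dvd_of_pow_eq_one (by rw [← map_pow, sq, w2, map_one])
  have two : ∀ u ∈ A, u w = w → u * u ∈ (MulAut.conj (G := G)).range →
      u ∈ (MulAut.conj (G := G)).range := fun u hu h1 ⟨a, ha⟩ => by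
    have uS : ∀ x ∈ (S : Subgroup G), u x ∈ (S : Subgroup G) := fun x hx => by
      rw [← h.cc S hw w1, Cls.mem_centralizer_single] at hx ⊢
      rw [← h1, ← map_mul, ← map_mul, hx]
    have aS : a ∈ (S : Subgroup G) := by
      rw [← h.cc S hw w1, Cls.mem_centralizer_single, ← mul_inv_eq_iff_eq_mul, ← MulAut.conj_apply,
        ha, MulAut.mul_apply, h1, h1]
    by_contra hn
    have e : ∀ x ∈ (S : Subgroup G), u x * a * x = 1 := fun x hx => by_contra fun b1 => by
      refine hn ((mul_mem_cancel_right (hc x)).1 (K _ (mul_mem hu (hI (hc x))) ?_))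
      rw [← h.cc S (mul_mem (mul_mem (uS x hx) aS) hx) b1, ← Fix_conj]
      refine Fix_le ?_
      rw [map_mul, map_mul, ha, ← mul_assoc, ← mul_conj, mul_assoc, ← sq]
      exact npow_mem_zpowers _ 2
    have a1 : a = 1 := by simpa using e 1 (one_mem _)
    refine hn (h.inner S fun x hx => ?_)
    have := e x hx
    rw [a1, mul_one, mul_eq_one_iff_eq_inv, BSW.inv_eq_of_mul_self (h.mul_self S hx)] at this
    exact this
  intro α hα
  obtain ⟨g, hg⟩ := (h.hypI S).exists_conj_of_ne_top (h.norm_ne_top S) hw w1 w2 (u := α w)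
    (by simpa using w1) (by rw [← map_mul, w2, map_one])
  refine (mul_mem_cancel_left (inv_mem (hc g))).1 ?_
  have h1 : ((MulAut.conj g)⁻¹ * α) w = w := by
    rw [MulAut.mul_apply, hg, MulAut.conj_inv_apply]; group
  have h2 := mul_mem (inv_mem (hI (hc g))) hα
  generalize (MulAut.conj g)⁻¹ * α = β at h1 h2
  obtain ⟨u, hu, v, hv, e, ⟨k, hk⟩, ov⟩ := Cls.exists_p_part Nat.prime_two β
  rw [e]
  refine mul_mem ?_ (odd v (zpowers_le.2 h2 hv) (Fix_le hv h1) ov)
  have h3 : ∀ j, ∀ u ∈ A, u w = w → u ^ 2 ^ j = 1 → u ∈ (MulAut.conj (G := G)).range := fun j => by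
    induction j with
    | zero => exact fun u _ _ e => by rw [pow_zero, pow_one] at e; exact e ▸ one_mem _
    | succ j ih =>
      exact fun u hu h1 e => two u hu h1 (ih _ (mul_mem hu hu) (by rw [MulAut.mul_apply, h1, h1])
        (by rw [← sq, ← pow_mul, ← pow_succ', e]))
  exact h3 k u (zpowers_le.2 h2 hu) (Fix_le hu h1) (hk ▸ pow_orderOf_eq_one u)

omit S in
/-- an element whose class size is divisible by two primes other than `p` -/
theorem two_dvd_index {p s : ℕ} (_hp : p.Prime) [hs : Fact s.Prime] (hsp : p ∣ Nat.card G → s = p)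
    {x : G} (x1 : x ≠ 1) (ho : ∃ k, orderOf x = s ^ k) : ∃ a b : ℕ, a.Prime ∧ b.Prime ∧ a ≠ b ∧
      p ≠ a ∧ p ≠ b ∧ a ∣ 𝐂[x].index ∧ b ∣ 𝐂[x].index := by
  have hd := dvd_card_of_orderOf x1 ho
  have hA : AbP s G := by
    by_cases e : 2 = s
    · subst e; exact h.abP_two
    · exact h.abP_odd e
  have h1 := AbP.not_dvd_index hA ho
  obtain ⟨a, ha, a1⟩ := Finset.exists_mem_ne (s := (Nat.card G).primeFactors)
    (by rw [h.card_primeFactors]; norm_num) s
  obtain ⟨a2, a3, -⟩ := Nat.mem_primeFactors.1 ha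
  obtain ⟨b, b2, b3, b4, b5, -⟩ := h.third hs.out a2 a1.symm hd a3
  exact ⟨a, b, a2, b2, b5, fun e => a1 ((hsp (e ▸ a3)).trans e).symm,
    fun e => b4 ((hsp (e ▸ b3)).trans e), by_contra fun e => a1 (h.uniq a2 hs.out a3 hd x1 e h1),
    by_contra fun e => b4 (h.uniq hs.out b2 hd b3 x1 h1 e)⟩

omit S in
theorem exists_two_dvd {p : ℕ} (hp : p.Prime) : ∃ x : G, x ≠ 1 ∧ ∃ a b : ℕ, a.Prime ∧ b.Prime ∧
    a ≠ b ∧ p ≠ a ∧ p ≠ b ∧ a ∣ 𝐂[x].index ∧ b ∣ 𝐂[x].index := by
  obtain ⟨s, hs, h1, h2⟩ : ∃ s : ℕ, s.Prime ∧ s ∣ Nat.card G ∧ (p ∣ Nat.card G → s = p) := by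
    by_cases e : p ∣ Nat.card G
    exacts [⟨p, hp, e, fun _ => rfl⟩, ⟨2, Nat.prime_two, h.two_dvd, fun e' => (e e').elim⟩]
  have : Fact s.Prime := ⟨hs⟩
  obtain ⟨x, hx⟩ := exists_prime_orderOf_dvd_card' s h1
  have x1 : x ≠ 1 := fun e => hs.one_lt.ne (by rw [← hx, e, orderOf_one])
  exact ⟨x, x1, h.two_dvd_index hp h2 x1 ⟨1, by rw [hx, pow_one]⟩⟩

end SS

/-- A normal nonabelian simple subgroup is supplemented by the centre. -/
theorem Sig.center_sup (h : Sig G) {S : Subgroup G} [S.Normal] (hS : SS S) :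
    center G ⊔ S = ⊤ := by
  have hSC : S ⊓ centralizer (S : Set G) = ⊥ :=
    have := hS.simple
    (Core.center_eq_bot_iff_inf_centralizer S).1 (IdxTwo.center_eq_bot hS.na)
  have h1 : ∀ g : G, ∃ a ∈ S, ∃ c ∈ centralizer (S : Set G), g = a * c := fun g => by
    obtain ⟨a, ha⟩ := hS.no_outer (A := (MulAut.conjNormal (H := S)).range)
      (by rintro _ ⟨a, rfl⟩; exact ⟨a, MulAut.conjNormal_val⟩) (by
        rintro _ ⟨y, rfl⟩
        refine le_trans (card_primeFactors_le ?_ index_ne_zero_of_finite) (h y)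
        refine dvd_trans (dvd_of_eq ?_) (Cls.relIndex_dvd_index_of_normal' 𝐂[y] S)
        rw [relIndex]
        congr 1
        ext x
        rw [mem_Fix, mem_subgroupOf, Cls.mem_centralizer_single, Subtype.ext_iff,
          MulAut.conjNormal_apply, mul_inv_eq_iff_eq_mul, eq_comm]) ⟨g, rfl⟩
    refine ⟨a, a.2, (a : G)⁻¹ * g, mem_centralizer_iff.2 fun x hx => ?_, by group⟩
    have := congrArg (fun β : MulAut S => (β ⟨x, hx⟩ : G)) ha
    simp only [MulAut.conj_apply, coe_mul, coe_inv, MulAut.conjNormal_apply] at this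
    calc x * ((a : G)⁻¹ * g) = (a : G)⁻¹ * (a * x * (a : G)⁻¹) * g := by group
      _ = _ := by rw [this]; group
  have h2 : ∀ c ∈ centralizer (S : Set G), centralizer (S : Set G) ≤ 𝐂[c] := fun c hc => by
    by_contra hn
    obtain ⟨t, ht, h3⟩ := Nat.exists_prime_and_dvd fun e => hn (relIndex_eq_one.1 e)
    obtain ⟨x, -, a, b, ha, hb, ab, ta, tb, h4, h5⟩ := hS.exists_two_dvd ht
    have c1 : (x : G) * c = c * x := mem_centralizer_iff.1 hc x x.2
    have e1 : 𝐂[x].index ∣ 𝐂[(x : G) * c].index := by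
      refine dvd_trans (dvd_of_eq ?_) (Cls.relIndex_dvd_index_of_normal' _ S)
      rw [relIndex]
      congr 1
      ext y
      rw [mem_subgroupOf, Cls.mem_centralizer_single, Cls.mem_centralizer_single, Subtype.ext_iff,
        coe_mul, coe_mul, ← mul_assoc, mul_assoc _ c, ← mem_centralizer_iff.1 hc y y.2,
        ← mul_assoc, mul_left_inj]
    have e2 : 𝐂[c].relIndex (centralizer (S : Set G)) ∣ 𝐂[(x : G) * c].index := by
      refine dvd_trans (dvd_of_eq ?_) (Cls.relIndex_dvd_index_of_normal' _ (centralizer (S : Set G)))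
      rw [relIndex, relIndex]
      congr 1
      ext y
      rw [mem_subgroupOf, mem_subgroupOf, Cls.mem_centralizer_single, Cls.mem_centralizer_single,
        ← mul_assoc, ← mem_centralizer_iff.1 y.2 x x.2, mul_assoc, mul_assoc, mul_right_inj]
    exact not_three (h ((x : G) * c)) index_ne_zero_of_finite ht ha hb ta tb ab (h3.trans e2)
      (h4.trans e1) (h5.trans e1)
  refine eq_top_iff.2 fun g _ => ?_
  obtain ⟨a, ha, c, hc, rfl⟩ := h1 g
  refine mul_mem (mem_sup_right ha) (mem_sup_left (mem_center_iff.2 fun y => ?_))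
  obtain ⟨b, hb, d, hd, rfl⟩ := h1 y
  rw [mul_assoc, Cls.mem_centralizer_single.1 (h2 c hc hd), ← mul_assoc,
    mem_centralizer_iff.1 hc b hb, mul_assoc]

/-- A perfect extension of a `p`-group by such a simple group does not occur. -/
theorem Sig.not_ext (h : Sig G) {V : Subgroup G} [V.Normal] {p : ℕ} [hp : Fact p.Prime]
    (hV : IsPGroup p V) (hc : IsMulCommutative V) (hS : SS (G ⧸ V)) (hG : commutator G = ⊤) :
    V = ⊥ := by
  have := hS.simple
  have key : ∀ x : G, (∃ a b : ℕ, a.Prime ∧ b.Prime ∧ a ≠ b ∧ p ≠ a ∧ p ≠ b ∧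
      a ∣ 𝐂[(x : G ⧸ V)].index ∧ b ∣ 𝐂[(x : G ⧸ V)].index) →
      ∃ Q : Sylow p G, (Q : Subgroup G) ≤ 𝐂[x] := fun x ⟨a, b, ha, hb, ab, pa, pb, h1, h2⟩ =>
    Cls.exists_sylow_le_of_not_dvd_index fun e => not_three (h x) index_ne_zero_of_finite hp.out ha
      hb pa pb ab e (h1.trans (Cls.index_centralizer_mk_dvd V x))
      (h2.trans (Cls.index_centralizer_mk_dvd V x))
  have hVC : V ≤ centralizer (V : Set G) := le_centralizer V
  have hZ : V ≤ center G := by
    obtain ⟨y, y1, hy⟩ := hS.exists_two_dvd hp.out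
    obtain ⟨x, rfl⟩ := QuotientGroup.mk_surjective y
    obtain ⟨Q, hQ⟩ := key x hy
    have h1 : x ∈ centralizer (V : Set G) := mem_centralizer_iff.2 fun v hv =>
      Cls.mem_centralizer_single.1 (hQ (hV.le_sylow_of_normal Q hv))
    rcases ((inferInstance : (centralizer (V : Set G)).Normal).map (QuotientGroup.mk' V)
      (QuotientGroup.mk'_surjective V)).eq_bot_or_eq_top with e | e
    · exact (y1 (mem_bot.1 (e ▸ mem_map_of_mem (QuotientGroup.mk' V) h1))).elim
    · have h2 := Core.comap_map_mk V (centralizer (V : Set G))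
      rw [e, comap_top, sup_eq_left.2 hVC] at h2
      exact fun v hv => mem_center_iff.2 fun g => (mem_centralizer_iff.1 (h2 ▸ mem_top g) v hv).symm
  have hA : AbP p G := by
    obtain ⟨P⟩ : Nonempty (Sylow p G) := inferInstance
    refine abP_of_sylow P (Core.isMulCommutative_of_forall fun y hy x hx => ?_)
    by_cases x1 : (x : G ⧸ V) = 1
    · exact mem_center_iff.1 (hZ ((QuotientGroup.eq_one_iff x).1 x1)) y
    have hf := QuotientGroup.mk'_surjective V
    have ox : ∃ k, orderOf (x : G ⧸ V) = p ^ k :=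
      exists_orderOf (P.mapSurjective hf).2 (mem_map_of_mem (QuotientGroup.mk' V) hx)
    obtain ⟨Q, hQ⟩ := key x (hS.two_dvd_index hp.out (fun _ => rfl) x1 ox)
    have hA : AbP p (G ⧸ V) := by
      by_cases e : 2 = p
      · subst e; exact hS.abP_two
      · exact hS.abP_odd e
    have h1 := hS.cent_eq hA (P.mapSurjective hf) (mem_map_of_mem (QuotientGroup.mk' V) hx) x1
    have h2 : ((Q.mapSurjective hf : Sylow p (G ⧸ V)) : Subgroup (G ⧸ V)) ≤ P.mapSurjective hf :=
      fun z hz => Cls.mem_sylow_of_mem_centralizer _ (exists_orderOf (Q.mapSurjective hf).2 hz) (by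
        rw [← h1]
        exact ((map_mono hQ).trans (Cls.map_centralizer_single_le (QuotientGroup.mk' V) x)) hz)
    have h3 : (Q : Subgroup G) ≤ P := by
      have := (Core.map_mk_le_map_mk_iff V Q P).1 h2
      rwa [sup_eq_left.2 (hV.le_sylow_of_normal P)] at this
    exact Cls.mem_centralizer_single.1 (hQ ((Q.3 P.2 h3).le hy))
  exact eq_bot_iff.2 fun v hv => mem_bot.2 (hA.eq_one_of_mem_center (hZ hv) (hG ▸ mem_top v)
    (exists_orderOf hV hv))

theorem SS.of_equiv {G' : Type u} [Group G'] (h : SS G) (e : G ≃* G') : SS G' :=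
  have := h.simple
  ⟨e.symm.isSimpleGroup, fun hc => h.na ⟨⟨fun a b => e.injective (by
    rw [map_mul, map_mul, hc.is_comm.comm])⟩⟩, h.sig.of_surjective (f := e.toMonoidHom) e.surjective⟩

theorem exists_ss (G : Type u) [Group G] [Finite G] :
    Sig G → ¬ Group.IsSolvable G → ∃ S : Subgroup G, S.Normal ∧ SS S := by
  refine Core.induction_on_card (P := fun G _ _ => Sig G → ¬ Group.IsSolvable G →
    ∃ S : Subgroup G, S.Normal ∧ SS S) (fun G _ _ ih h hn => ?_) G
  by_cases h1 : ∃ N : Subgroup G, N.Normal ∧ N ≠ ⊤ ∧ ¬ Group.IsSolvable N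
  · obtain ⟨N, hN, h2, h3⟩ := h1
    obtain ⟨S, hS, h4⟩ := ih N (Core.card_lt_of_ne_top h2) (h.normal N) h3
    have h5 := (h.normal N).center_sup h4
    have h6 : S = commutator N := by
      refine le_antisymm ?_ ?_
      · have := h4.simple
        have h7 : commutator S = ⊤ := (IsSimpleGroup.eq_bot_or_eq_top_of_normal _
          inferInstance).resolve_left fun e => h4.na ((commutator_eq_bot_iff S).1 e)
        rw [← range_subtype S, MonoidHom.range_eq_map, ← h7, map_subtype_commutator]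
        exact commutator_mono le_top le_top
      · refine commutator_le.2 fun a _ b _ => ?_
        obtain ⟨z, hz, s, hs, rfl⟩ := (Core.mem_sup_of_le_normalizer
          (le_normalizer_of_normal (H := S))).1 (h5 ▸ mem_top a)
        rw [commutatorElement_def, show z * s * b * (z * s)⁻¹ * b⁻¹ = z * (s * b * s⁻¹) * z⁻¹ * b⁻¹
          by group, ← mem_center_iff.1 hz, mul_inv_cancel_right, mul_assoc, mul_assoc]
        exact mul_mem hs (by simpa [mul_assoc] using hS.conj_mem _ (inv_mem hs) b)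
    refine ⟨S.map N.subtype, ?_, h4.of_equiv (S.equivMapOfInjective _ N.subtype_injective)⟩
    rw [h6, map_subtype_commutator]
    infer_instance
  push Not at h1
  have hG : commutator G = ⊤ := by_contra fun e => hn (by
    have := h1 _ inferInstance e
    exact Group.isSolvable_of_ker_le_range (commutator G).subtype (Abelianization.of (G := G))
      (by simp))
  have : Nontrivial G := not_subsingleton_iff_nontrivial.1 fun _ => hn inferInstance
  obtain ⟨V, hV⟩ := Core.exists_isMinNormal (G := G)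
  have := hV.normal
  by_cases h2 : V = ⊤
  · refine ⟨⊤, inferInstance, SS.of_equiv ⟨⟨fun N hN => ?_⟩, fun hc => hn
      (Group.isSolvable_of_comm hc.is_comm.comm), h⟩ topEquiv.symm⟩
    exact h2 ▸ hV.eq_bot_or_eq N hN (h2 ▸ le_top)
  have h3 := h1 V this h2
  obtain ⟨p, hp, h4⟩ := hV.exists_isPGroup h3
  have : Fact p.Prime := ⟨hp⟩
  have hf := QuotientGroup.mk'_surjective V
  obtain ⟨S, hS, h5⟩ := ih (G ⧸ V) (Core.card_quotient_lt hV.ne_bot) (h.of_surjective hf) fun _ =>
    hn (Group.isSolvable_of_ker_le_range V.subtype (QuotientGroup.mk' V) (by simp))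
  have h6 : S = ⊤ := by
    have h7 : S.comap (QuotientGroup.mk' V) = ⊤ := by_contra fun e => h5.not_solvable (by
      have := h1 _ (hS.comap _) e
      exact Group.isSolvable_of_surjective ((QuotientGroup.mk' V).subgroupComap_surjective_of_surjective
        S hf))
    rw [← map_comap_eq_self_of_surjective hf S, h7, map_top_of_surjective _ hf]
  subst h6
  exact (hV.ne_bot (h.not_ext h4 (hV.isMulCommutative h3) (h5.of_equiv topEquiv) hG)).elim

end Cfsg.Agent.SigTwo
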